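import Cfsg.Agent.Lib.Bender.Full.Main
import Cfsg.Agent.Lib.Bender.Full.SuzukiType
import Cfsg.Agent.Lib.Invol.SECriterion.Shape.Rank
import Cfsg.Agent.Lib.Invol.SECriterion.Consumers.Statement
import Cfsg.Agent.Lib.CIT.TI
import Cfsg.Agent.Lib.Lie.BN
import Cfsg.Prelude.Def_LieRecognition

/-!
# Suzuki's theorem: the simple groups with a strongly embedded subgroup or a split rank one pair

The classification of the rank one setting is a hypothesis here.  A strongly split pair of rank one with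
odd index and odd `B ⊓ N` gives a strongly embedded `B`: a central involution of `U` fixes one point, so
the criterion applies.
-/

set_option autoImplicit false
set_option linter.style.haveILetI false
set_option linter.unusedSectionVars false

namespace CfsgLib.Bender.Suzuki

open MulAction

universe u

/-- The classification of the rank one setting, on coset spaces. -/
def Classified : Prop :=
  ∀ (G : Type u) (Ω : Type u) [Group G] [Finite G] [MulAction G Ω] [FaithfulSMul G Ω] (a : Ω) (t : G)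
    (Q : Subgroup G), Cfsg.IsRankOneSetup G Ω a t Q →
    (∃ x y : G, x ≠ 1 ∧ y ≠ 1 ∧ x ≠ y ∧ x * x = 1 ∧ y * y = 1 ∧ x * y = y * x) →
    ∃ L : Subgroup G, L.Normal ∧ Odd L.index ∧
      ((∃ (F : Type) (_ : Field F) (_ : Fintype F), (∃ n : ℕ, 2 ≤ n ∧ Fintype.card F = 2 ^ n) ∧
          Nonempty (L ≃* Matrix.ProjectiveSpecialLinearGroup (Fin 2) F)) ∨
        Cfsg.Lie.IsoSuzuki L ∨
        (∃ (F : Type) (_ : Field F) (_ : Fintype F) (n : ℕ), 2 ≤ n ∧ Fintype.card F = (2 ^ n) ^ 2 ∧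
          Nonempty (L ≃* Cfsg.PSU 3 F (2 ^ n))))

/-- The three families. -/
def Families (G : Type u) [Group G] : Prop :=
  (∃ (F : Type) (_ : Field F) (_ : Fintype F), (∃ n : ℕ, 2 ≤ n ∧ Fintype.card F = 2 ^ n) ∧
      Nonempty (G ≃* Matrix.ProjectiveSpecialLinearGroup (Fin 2) F)) ∨
    Cfsg.IsSuzuki G ∨
    (∃ (F : Type) (_ : Field F) (_ : Fintype F) (n : ℕ), 2 ≤ n ∧ Fintype.card F = (2 ^ n) ^ 2 ∧
      Nonempty (G ≃* Cfsg.PSU 3 F (2 ^ n)))

variable {G : Type u} [Group G] [Finite G] [IsSimpleGroup G]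

/-- A simple group with a strongly embedded subgroup lies in one of the three families, up to isomorphism. -/
theorem isoFamilies_of_se (hC : Classified.{u}) {H : Subgroup G} (hH : Cfsg.IsStronglyEmbedded H) :
    (∃ (F : Type) (_ : Field F) (_ : Fintype F), (∃ n : ℕ, 2 ≤ n ∧ Fintype.card F = 2 ^ n) ∧
        Nonempty (G ≃* Matrix.ProjectiveSpecialLinearGroup (Fin 2) F)) ∨
      Cfsg.Lie.IsoSuzuki G ∨
      (∃ (F : Type) (_ : Field F) (_ : Fintype F) (n : ℕ), 2 ≤ n ∧ Fintype.card F = (2 ^ n) ^ 2 ∧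
        Nonempty (G ≃* Cfsg.PSU 3 F (2 ^ n))) := by
  classical
  have hcore : H.normalCore = ⊥ := by
    rcases (inferInstance : H.normalCore.Normal).eq_bot_or_eq_top with h | h
    · exact h
    · exact absurd (top_le_iff.1 (h ▸ H.normalCore_le)) hH.1
  have hpair := CfsgLib.Bender.Full.hasPair_of_simple hH
  obtain ⟨Q, hle, hn, htwo, hreg⟩ := CfsgLib.Bender.Full.fullStatement G H hH hcore hpair
  have hD : CfsgLib.SECrit.Shape.Data H Q := ⟨hH, hcore, hpair, hle, hn, htwo, hreg⟩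
  obtain ⟨t, hS⟩ := hD.exists_setup
  haveI : FaithfulSMul G (G ⧸ H) := ⟨fun {g g'} h => by
    have h1 : g⁻¹ * g' ∈ H.normalCore := by
      intro b
      have h2 := h ((b⁻¹ : G) : G ⧸ H)
      rw [MulAction.Quotient.smul_coe, MulAction.Quotient.smul_coe, smul_eq_mul, smul_eq_mul,
        QuotientGroup.eq, mul_inv_rev, inv_inv] at h2
      rwa [← mul_assoc, mul_assoc b] at h2
    rw [hcore, Subgroup.mem_bot, inv_mul_eq_one] at h1
    exact h1⟩
  obtain ⟨L, hL, hodd, hcases⟩ := hC G (G ⧸ H) _ t Q hS hD.pair_mul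
  have hLtop : L = ⊤ := by
    rcases hL.eq_bot_or_eq_top with h | h
    · exfalso
      rw [h, Subgroup.index_bot] at hodd
      exact (Nat.not_even_iff_odd.2 hodd) (hH.2.1.trans_dvd (Subgroup.card_subgroup_dvd_card H))
    · exact h
  let e : G ≃* L := Subgroup.topEquiv.symm.trans (MulEquiv.subgroupCongr hLtop.symm)
  rcases hcases with ⟨F, i1, i2, hn', ⟨g⟩⟩ | hsz | ⟨F, i1, i2, n, hn', hF, ⟨g⟩⟩
  · exact Or.inl ⟨F, i1, i2, hn', ⟨e.trans g⟩⟩
  · obtain ⟨F, i1, i2, m, hm, hF, ⟨g⟩⟩ := hsz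
    exact Or.inr (Or.inl ⟨F, i1, i2, m, hm, hF, ⟨e.trans g⟩⟩)
  · exact Or.inr (Or.inr ⟨F, i1, i2, n, hn', hF, ⟨e.trans g⟩⟩)

/-- A simple group with a strongly embedded subgroup lies in one of the three families. -/
theorem families_of_se (hC : Classified.{u}) {H : Subgroup G} (hH : Cfsg.IsStronglyEmbedded H) :
    Families G :=
  (isoFamilies_of_se hC hH).imp_right (Or.imp_left CfsgLib.CIT.isSuzuki_of_isoSuzuki)

theorem charTwo_of_card {F : Type} [Field F] [Fintype F] {n : ℕ} (h : Fintype.card F = 2 ^ n) : CharP F 2 := by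
  obtain ⟨p, hp⟩ := CharP.exists F
  haveI := hp
  obtain ⟨k, hpp, hk⟩ := FiniteField.card F p
  have h2 : p ∣ 2 ^ n := by
    rw [← h, hk]
    exact dvd_pow_self p k.ne_zero
  rw [(Nat.prime_dvd_prime_iff_eq hpp Nat.prime_two).1 (hpp.dvd_of_dvd_pow h2)] at hp
  exact hp

/-- The conclusion in the form of the statements on strongly embedded subgroups. -/
theorem families_charTwo (h : Families G) :
    (∃ (F : Type) (_ : Field F) (_ : Fintype F), CharP F 2 ∧ 4 ≤ Fintype.card F ∧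
        Nonempty (G ≃* Matrix.ProjectiveSpecialLinearGroup (Fin 2) F)) ∨
      Cfsg.IsSuzuki G ∨
      (∃ (F : Type) (_ : Field F) (_ : Fintype F) (q : ℕ), Fintype.card F = q ^ 2 ∧ Even q ∧ 4 ≤ q ∧
        Nonempty (G ≃* Cfsg.PSU 3 F q)) := by
  rcases h with ⟨F, i1, i2, ⟨n, hn, hF⟩, g⟩ | h | ⟨F, i1, i2, n, hn, hF, g⟩
  · refine Or.inl ⟨F, i1, i2, charTwo_of_card hF, ?_, g⟩
    rw [hF]
    exact Nat.pow_le_pow_right two_pos hn
  · exact Or.inr (Or.inl h)
  · exact Or.inr (Or.inr ⟨F, i1, i2, 2 ^ n, hF, Nat.even_pow.2 ⟨even_two, by omega⟩,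
      Nat.pow_le_pow_right two_pos hn, g⟩)

/-- A strongly split pair of rank one gives a strongly embedded subgroup. -/
theorem stronglyEmbedded_of_split (hCrit : CfsgLib.SECrit.CritThm.{u}) (P : Cfsg.BNPair G) (hrank : P.rank = 1)
    (U : Subgroup G) (hUB : U ≤ P.B) (hUn : (U.subgroupOf P.B).Normal) (hUnil : Group.IsNilpotent U)
    (hsplit : U ⊔ (P.B ⊓ P.N) = P.B) (hdisj : U ⊓ P.N = ⊥) (hind : Odd P.B.index)
    (hH : Odd (Nat.card ↥(P.B ⊓ P.N))) : Cfsg.IsStronglyEmbedded P.B := by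
  classical
  obtain ⟨s, hs⟩ : ∃ s, P.S = {s} := Set.ncard_eq_one.1 (by rw [← Nat.card_coe_set_eq]; exact hrank)
  have hsS : s ∈ P.S := hs ▸ rfl
  have hsB : s ∉ P.B := CfsgLib.Lie.BN.not_mem_B P hsS
  set a : G ⧸ P.B := ((1 : G) : G ⧸ P.B)
  have hstab : ∀ g : G, g • a = a ↔ g ∈ P.B := fun g => by
    rw [MulAction.Quotient.smul_coe, smul_eq_mul, mul_one, QuotientGroup.eq, mul_one, inv_mem_iff]
  have hUnorm : P.B ≤ Subgroup.normalizer (U : Set G) := (Subgroup.normal_subgroupOf_iff_le_normalizer hUB).1 hUn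
  have hBdec : ∀ b ∈ P.B, ∃ u ∈ U, ∃ d ∈ P.B ⊓ P.N, u * d = b := fun b hb => by
    rw [← hsplit, ← SetLike.mem_coe,
      Subgroup.coe_mul_of_right_le_normalizer_left _ _ (inf_le_left.trans hUnorm)] at hb
    exact Set.mem_mul.1 hb
  -- `U` is transitive on the other cosets
  have hcell : ∀ g : G, g ∉ P.B → ∃ b ∈ P.B, ∃ c ∈ P.B, g = b * s * c := by
    intro g hg
    obtain ⟨n, hn, hgn⟩ := CfsgLib.Lie.BN.exists_cell P g
    obtain ⟨l, hl, hnl⟩ := CfsgLib.Lie.BN.exists_word P hn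
    have hword : ∀ l : List G, (∀ x ∈ l, x = s) → l.prod ∈ P.B ∨ s⁻¹ * l.prod ∈ P.B := by
      intro l
      induction l with
      | nil => exact fun _ => Or.inl (by simp)
      | cons x l ih =>
        intro h
        rw [List.prod_cons, h x List.mem_cons_self]
        rcases ih fun y hy => h y (List.mem_cons_of_mem _ hy) with h1 | h1
        · exact Or.inr (by rwa [inv_mul_cancel_left])
        · refine Or.inl ?_
          rw [show s * l.prod = s * s * (s⁻¹ * l.prod) by group]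
          exact mul_mem (P.sq_mem s hsS) h1
    rcases hword l fun x hx => by simpa [hs] using hl x hx with h1 | h1
    · exfalso
      rw [CfsgLib.Lie.BN.cell_congr P hnl, CfsgLib.Lie.BN.cell_of_mem_B P h1] at hgn
      exact hg hgn
    · rw [CfsgLib.Lie.BN.cell_congr P hnl,
        ← CfsgLib.Lie.BN.cell_congr P (n := s) h1] at hgn
      exact (CfsgLib.Lie.BN.mem_cell P).1 hgn
  have htrans : ∀ c : G ⧸ P.B, c ≠ a → ∃ u ∈ U, u • s • a = c := by
    intro c hc
    induction c using QuotientGroup.induction_on with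
    | H g =>
      have hg : g ∉ P.B := fun h => hc (by
        rw [QuotientGroup.eq, mul_one, inv_mem_iff]
        exact h)
      obtain ⟨b, hb, c', hc', rfl⟩ := hcell g hg
      obtain ⟨u, hu, d, hd, rfl⟩ := hBdec b hb
      refine ⟨u, hu, ?_⟩
      have hd' : s⁻¹ * d * s ∈ P.B := CfsgLib.Lie.BN.T_conj P (P.subset hsS) hd
      rw [MulAction.Quotient.smul_coe, smul_eq_mul, mul_one, MulAction.Quotient.smul_coe, smul_eq_mul,
        QuotientGroup.eq, show (u * s)⁻¹ * (u * d * s * c') = (s⁻¹ * d * s) * c' by group]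
      exact mul_mem hd' hc'
  have hcore : P.B.normalCore = ⊥ := by
    rcases (inferInstance : P.B.normalCore.Normal).eq_bot_or_eq_top with h | h
    · exact h
    · exact absurd (P.B.normalCore_le (h ▸ Subgroup.mem_top s)) hsB
  -- a central element of `U` fixes one point
  have hone : ∀ z ∈ U, (∀ u ∈ U, Commute u z) → z ≠ 1 → ∀ c : G ⧸ P.B, z • c = c → c = a := by
    intro z hz hzc hz1 c hc
    by_contra hca
    refine hz1 ?_
    rw [← Subgroup.mem_bot, ← hcore]
    intro g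
    suffices h : ∀ d : G ⧸ P.B, z • d = d by
      have h1 := h ((g⁻¹ : G) : G ⧸ P.B)
      rw [MulAction.Quotient.smul_coe, smul_eq_mul, QuotientGroup.eq, mul_inv_rev, inv_inv] at h1
      have h2 := inv_mem h1
      simpa [mul_assoc] using h2
    intro d
    by_cases hd : d = a
    · rw [hd, (hstab z).2 (hUB hz)]
    obtain ⟨u, hu, rfl⟩ := htrans c hca
    obtain ⟨v, hv, rfl⟩ := htrans d hd
    have h3 : z • s • a = s • a := by
      rw [← mul_smul, ← (hzc u hu).eq, mul_smul] at hc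
      exact smul_left_cancel _ hc
    rw [← mul_smul, ← (hzc v hv).eq, mul_smul, h3]
  -- the order of `U`
  have hcardB : Nat.card U * Nat.card ↥(P.B ⊓ P.N) = Nat.card P.B := by
    rw [← Nat.card_prod]
    refine Nat.card_eq_of_bijective
      (fun x : U × ↥(P.B ⊓ P.N) => (⟨x.1 * x.2, mul_mem (hUB x.1.2) x.2.2.1⟩ : P.B)) ⟨?_, fun b => ?_⟩
    · rintro ⟨u, d⟩ ⟨u', d'⟩ h
      have h' : (u : G) * d = u' * d' := congrArg Subtype.val h
      have h1 : (u' : G)⁻¹ * u ∈ U ⊓ P.N := by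
        refine ⟨U.mul_mem (U.inv_mem u'.2) u.2, ?_⟩
        rw [show (u' : G)⁻¹ * u = (d' : G) * (d : G)⁻¹ by
          rw [eq_mul_inv_iff_mul_eq, mul_assoc, h', inv_mul_cancel_left]]
        exact P.N.mul_mem d'.2.2 (P.N.inv_mem d.2.2)
      rw [hdisj, Subgroup.mem_bot] at h1
      have hu : u = u' := Subtype.ext (inv_mul_eq_one.1 h1).symm
      subst hu
      exact Prod.ext rfl (Subtype.ext (mul_left_cancel h'))
    · obtain ⟨u, hu, d, hd, e⟩ := hBdec b b.2
      exact ⟨(⟨u, hu⟩, ⟨d, hd⟩), Subtype.ext e⟩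
  have hUindex : Odd U.index := by
    have h1 := U.card_mul_index
    rw [← P.B.card_mul_index, ← hcardB, mul_assoc] at h1
    rw [Nat.eq_of_mul_eq_mul_left Nat.card_pos h1]
    exact hH.mul hind
  have hstay : ∀ u ∈ U, u • s • a ≠ a := fun u hu h => hsB ((hstab s).1 (by
    conv_rhs at h => rw [← (hstab u).2 (hUB hu)]
    exact smul_left_cancel _ h))
  have heven : Even (Nat.card U) := by
    have horb : MulAction.orbit U (s • a) = {c : G ⧸ P.B | c ≠ a} := by
      ext c
      refine ⟨?_, fun hc => ?_⟩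
      · rintro ⟨u, rfl⟩
        exact hstay u u.2
      · obtain ⟨u, hu, rfl⟩ := htrans c hc
        exact ⟨⟨u, hu⟩, rfl⟩
    have hdvd : (MulAction.orbit U (s • a)).ncard ∣ Nat.card U := by
      rw [← Nat.card_coe_set_eq, Nat.card_congr (MulAction.orbitEquivQuotientStabilizer U (s • a))]
      exact Subgroup.card_quotient_dvd_card _
    rw [horb, show {c : G ⧸ P.B | c ≠ a} = ({a} : Set (G ⧸ P.B))ᶜ from rfl, Set.ncard_compl,
      Set.ncard_singleton, ← Subgroup.index_eq_card] at hdvd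
    exact (Nat.Odd.sub_odd hind odd_one).trans_dvd hdvd
  -- a central involution
  haveI : Fact (Nat.Prime 2) := ⟨Nat.prime_two⟩
  haveI := hUnil
  obtain ⟨z, hzU, hzc, hz2⟩ : ∃ z ∈ U, (∀ u ∈ U, Commute u z) ∧ orderOf z = 2 := by
    obtain ⟨S⟩ := (inferInstance : Nonempty (Sylow 2 U))
    haveI : (S : Subgroup U).Normal := inferInstance
    have hS : (S : Subgroup U) ≠ ⊥ := S.ne_bot_of_dvd_card (even_iff_two_dvd.1 heven)
    have hne := CfsgLib.Coprime.nilpotent_inf_center_ne_bot (S : Subgroup U) hS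
    have h2 : IsPGroup 2 ↥((S : Subgroup U) ⊓ Subgroup.center U) := S.2.to_le inf_le_left
    obtain ⟨k, hk⟩ := IsPGroup.iff_card.1 h2
    have hev : Even (Nat.card ↥((S : Subgroup U) ⊓ Subgroup.center U)) := by
      rw [hk, Nat.even_pow]
      refine ⟨even_two, fun h0 => hne ?_⟩
      rw [h0, pow_zero] at hk
      exact Subgroup.card_eq_one.1 hk
    obtain ⟨z, hz, hzo⟩ := CfsgLib.Invol.exists_invol_mem hev
    exact ⟨z, z.2, fun u hu => congrArg Subtype.val (Subgroup.mem_center_iff.1 hz.2 ⟨u, hu⟩),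
      by rw [Subgroup.orderOf_coe]; exact hzo⟩
  have hz1 : z ≠ 1 := CfsgLib.Invol.invol_ne_one hz2
  have hfix := hone z hzU hzc hz1
  have hcrit : CfsgLib.SECrit.Crit P.B z := by
    refine ⟨hz2, hUB hzU, ?_, fun g hg => ?_, fun g hcomm hne => ?_⟩
    · refine hUindex.of_dvd_nat (Subgroup.index_dvd_of_le fun u hu => ?_)
      exact Subgroup.mem_centralizer_singleton_iff.2 (hzc u hu).eq
    · have h1 := (hstab _).2 hg
      rw [mul_smul, mul_smul, ← eq_inv_smul_iff] at h1
      rw [← inv_mem_iff, ← hstab]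
      exact hfix _ h1
    · set y := g * z * g⁻¹ with hy
      have hzy : z • y • a = y • a := by
        rw [← mul_smul, hcomm.eq, mul_smul, (hstab z).2 (hUB hzU)]
      have hga : g ∈ P.B := by
        have h1 := (hstab y).1 (hfix _ hzy)
        rw [hy] at h1
        have h2 := (hstab _).2 h1
        rw [mul_smul, mul_smul, ← eq_inv_smul_iff] at h2
        rw [← inv_mem_iff, ← hstab]
        exact hfix _ h2
      have hyU : y ∈ U := (Subgroup.mem_normalizer_iff.1 (hUnorm hga) z).1 hzU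
      have hyc : ∀ u ∈ U, Commute u y := fun u hu => by
        have h1 := (Subgroup.mem_normalizer_iff.1 (hUnorm (inv_mem hga)) u).1 hu
        rw [inv_inv] at h1
        have h2 := (Commute.conj_iff g).2 (hzc _ h1)
        rwa [show g * (g⁻¹ * u * g) * g⁻¹ = u by group] at h2
      have hp1 : z * y ≠ 1 := fun e => hne (by
        rw [← CfsgLib.Invol.invol_inv hz2]; exact eq_inv_of_mul_eq_one_right e)
      intro c hc
      refine (hstab c).1 (hone (z * y) (mul_mem hzU hyU) (fun u hu => (hzc u hu).mul_right (hyc u hu)) hp1 _ ?_)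
      rw [← mul_smul, ← Subgroup.mem_centralizer_singleton_iff.1 hc, mul_smul,
        (hstab (z * y)).2 (mul_mem (hUB hzU) (hUB hyU))]
  have hne : P.B ≠ ⊤ := fun e => hsB (e ▸ Subgroup.mem_top s)
  have hse := hCrit G P.B z hcrit hne hcore
  have htop : Subgroup.normalClosure ({z} : Set G) = ⊤ := by
    rcases (Subgroup.normalClosure_normal (s := ({z} : Set G))).eq_bot_or_eq_top with h | h
    · exact absurd (Subgroup.mem_bot.1 (h ▸ Subgroup.subset_normalClosure rfl)) hz1
    · exact h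
  rw [htop] at hse
  refine (CfsgLib.Invol.stronglyEmbedded_iff hne (even_iff_two_dvd.2 ?_)).2 fun t ht hto g hg =>
    CfsgLib.SECrit.mem_of_subgroupOf hse (Subgroup.mem_top t) ht hto (Subgroup.mem_top g) hg
  rw [← hz2, ← Subgroup.orderOf_mk z (hUB hzU)]
  exact orderOf_dvd_natCard _

/-- A simple group with a strongly split pair of rank one, odd index and odd `B ⊓ N`. -/
theorem families_of_split (hC : Classified.{u}) (hCrit : CfsgLib.SECrit.CritThm.{u}) (P : Cfsg.BNPair G)
    (hrank : P.rank = 1) (U : Subgroup G) (hUB : U ≤ P.B) (hUn : (U.subgroupOf P.B).Normal)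
    (hUnil : Group.IsNilpotent U) (hsplit : U ⊔ (P.B ⊓ P.N) = P.B) (hdisj : U ⊓ P.N = ⊥)
    (hind : Odd P.B.index) (hH : Odd (Nat.card ↥(P.B ⊓ P.N))) : Families G :=
  families_of_se hC (stronglyEmbedded_of_split hCrit P hrank U hUB hUn hUnil hsplit hdisj hind hH)

end CfsgLib.Bender.Suzuki
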