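import Cfsg.Agent.Lib.Bender.Suzuki.Main
import Cfsg.Agent.Lib.Bender.Suzuki.Consumers

/-!
# Suzuki's theorem: the hypothesis of the consumers
-/

set_option autoImplicit false

namespace CfsgLib.Bender.Suzuki

universe u

/-- The classification holds. -/
theorem classified : Classified.{u} := fun _ _ _ _ _ _ _ _ _ hS h2 => classification hS h2

end CfsgLib.Bender.Suzuki
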