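import Cfsg.Agent.Lib.Bender.Suzuki.Defs
import Cfsg.Agent.Lib.RootSub.OddPartner.Cover
import Cfsg.Agent.Lib.RootSub.Setup2
import Mathlib.LinearAlgebra.Matrix.NonsingularInverse
import Mathlib.LinearAlgebra.Matrix.Determinant.Basic
import Mathlib.Tactic.FieldSimp
import Mathlib.Tactic.LinearCombination

/-!
# Suzuki's theorem: the group of the base line as matrices

When `r ∈ E` one has `r = s`, and `E K ∪ E K t E` is the image of `SL₂(q)`.
-/

set_option autoImplicit false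
set_option linter.style.haveILetI false
set_option linter.unusedSectionVars false

namespace CfsgLib.Bender.Suzuki

open MulAction CfsgLib.RootSub.Setup Matrix CfsgLib.RootInvol.OddPartner

variable {G Ω : Type*} [Group G] [Finite G] [MulAction G Ω] {a : Ω} {t : G} {Q E K : Subgroup G} {s r : G}

namespace Setting

variable (S : Setting a t Q E K s r)
include S

theorem K_fix {k : G} (hk : k ∈ K) : k • a = a ∧ k • (t • a) = t • a := ((S.mem_K k).1 hk).1

theorem eq_one_of_fix_o {y : G} (hy : y ∈ Q) (h : y • (t • a) = t • a) : y = 1 :=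
  eq_one_of_fix S.rank hy (ta_ne S.rank) h

theorem conj_tt {x : G} : t * (t * x * t) * t = x := by
  rw [show t * (t * x * t) * t = t * t * x * (t * t) by simp only [mul_assoc], S.base.t_sq, one_mul, mul_one]

/-- In the linear case `r` is `s`. -/
theorem r_eq (hr : r ∈ E) : r = s := by
  have hrQ := S.base.r_mem
  have hrinv : r⁻¹ = r := inv_eq_of_mul_eq_one_right (S.base.e_sq r hr)
  have hrel := S.base.rel
  rw [hrinv] at hrel
  have hr1 : r ≠ 1 := fun e => S.rank.not_mem (by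
    rw [e, one_mul, mul_one] at hrel
    have h : s = t := by
      have := congrArg (fun x => t * x * t) hrel
      simp only [S.conj_tt, S.base.t_sq, one_mul] at this
      exact this
    exact h ▸ S.rank.le (S.base.le S.base.s_mem))
  obtain ⟨k, ⟨hk, hke⟩, -⟩ := S.base.reg r hr hr1
  have hk' : k⁻¹ * r * k = s := by rw [← hke]; group
  have h1 : t * r * t = s * (k * k)⁻¹ * t * s := by
    calc t * r * t = t * k * t * (t * s * t) * (t * k⁻¹ * t) := by
          rw [← hke, show t * k * t * (t * s * t) * (t * k⁻¹ * t) = t * k * (t * t) * s * (t * t) * k⁻¹ * t by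
            simp only [mul_assoc], S.base.t_sq]
          simp only [mul_one, mul_assoc]
      _ = k⁻¹ * (r * t * r) * k := by rw [S.base.inv k hk, S.base.inv k⁻¹ (inv_mem hk), inv_inv, hrel]
      _ = (k⁻¹ * r * k) * (k⁻¹ * (t * k)) * (k⁻¹ * r * k) := by group
      _ = s * (k⁻¹ * (k⁻¹ * t)) * s := by rw [hk', S.base.t_mul_k hk]
      _ = s * (k * k)⁻¹ * t * s := by rw [_root_.mul_inv_rev]; simp only [mul_assoc]
  have h2 : t * r * t = s * t * r := by
    have h3 : s = t * r * t * r * t := by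
      conv_lhs => rw [← S.conj_tt (x := s), hrel]
      simp only [mul_assoc]
    calc t * r * t = t * r * t * r * t * (t * r) := by
          rw [show t * r * t * r * t * (t * r) = t * r * t * r * (t * t) * r by simp only [mul_assoc],
            S.base.t_sq, mul_one, mul_assoc _ r r, S.base.e_sq r hr, mul_one]
      _ = s * t * r := by rw [← h3, mul_assoc]
  have h4 : t * (r * s) * t = (k * k)⁻¹ := by
    have h5 : t * r = (k * k)⁻¹ * t * s := by
      have := h2.symm.trans h1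
      simpa only [mul_assoc, mul_right_inj] using this
    rw [← mul_assoc t r s, h5, mul_assoc _ s s, S.base.e_sq s S.base.s_mem, mul_one, mul_assoc,
      S.base.t_sq, mul_one]
  have h6 : (r * s) • (t • a) = t • a := by
    have h7 : (t * (r * s) * t) • a = a := by
      rw [h4]; exact (S.K_fix (inv_mem (mul_mem hk hk))).1
    rw [mul_smul, mul_smul] at h7
    have := congrArg (fun c => t • c) h7
    rwa [t_t S.rank] at this
  have h8 := S.eq_one_of_fix_o (mul_mem hrQ (S.base.le S.base.s_mem)) h6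
  rw [mul_eq_one_iff_eq_inv.1 h8, inv_eq_of_mul_eq_one_right (S.base.e_sq s S.base.s_mem)]

end Setting

variable {F : Type} [Field F] (C : EField E K s F)

namespace EField

open Classical in
/-- The element of `E` with a given coordinate. -/
noncomputable def el (x : F) : G := if h : C.bar x = x then (C.eps_surj x h).choose else 1

open Classical in
/-- The element of `K` with a given multiplier. -/
noncomputable def kl (x : F) : G := if h : C.bar x = x ∧ x ≠ 0 then (C.lam_surj x h.1 h.2).choose else 1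

/-- The formula for the isomorphism with the group of the base line. -/
noncomputable def toG (t : G) (M : Matrix (Fin 2) (Fin 2) F) : G :=
  open Classical in
  if M 1 0 = 0 then C.el (M 0 1 / M 1 1) * C.kl (M 0 0)
  else C.el (M 0 0 / M 1 0) * C.kl (M 1 0)⁻¹ * t * C.el (M 1 1 / M 1 0)

/-- `SL₂(q)` inside the matrices over the quadratic extension. -/
def InSL (M : Matrix (Fin 2) (Fin 2) F) : Prop := M.det = 1 ∧ ∀ i j, C.bar (M i j) = M i j

end EField

/-- Upper unitriangular. -/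
def upM (x : F) : Matrix (Fin 2) (Fin 2) F := !![1, x; 0, 1]

/-- Diagonal. -/
def dgM (l : F) : Matrix (Fin 2) (Fin 2) F := !![l, 0; 0, l⁻¹]

/-- The swap. -/
def swM : Matrix (Fin 2) (Fin 2) F := !![0, 1; 1, 0]

section Basic

variable {C}

theorem el_mem {x : F} (hx : C.bar x = x) : C.el x ∈ E := by
  rw [EField.el, dif_pos hx]; exact (C.eps_surj x hx).choose_spec.1

theorem eps_el {x : F} (hx : C.bar x = x) : C.eps (C.el x) = x := by
  rw [EField.el, dif_pos hx]; exact (C.eps_surj x hx).choose_spec.2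

theorem el_eps {e : G} (he : e ∈ E) : C.el (C.eps e) = e :=
  C.eps_inj (el_mem (C.eps_fix e he)) he (eps_el (C.eps_fix e he))

theorem kl_mem {x : F} (hx : C.bar x = x) (h0 : x ≠ 0) : C.kl x ∈ K := by
  rw [EField.kl, dif_pos ⟨hx, h0⟩]; exact (C.lam_surj x hx h0).choose_spec.1

theorem lam_kl {x : F} (hx : C.bar x = x) (h0 : x ≠ 0) : C.lam (C.kl x) = x := by
  rw [EField.kl, dif_pos ⟨hx, h0⟩]; exact (C.lam_surj x hx h0).choose_spec.2

theorem eps_one_eq : C.eps 1 = 0 := by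
  have := C.eps_mul 1 (one_mem E) 1 (one_mem E)
  rwa [one_mul, left_eq_add] at this

theorem el_zero : C.el 0 = 1 := by rw [← eps_one_eq (C := C)]; exact el_eps (one_mem E)

theorem el_add {x y : F} (hx : C.bar x = x) (hy : C.bar y = y) : C.el (x + y) = C.el x * C.el y := by
  rw [← el_eps (C := C) (mul_mem (el_mem hx) (el_mem hy)), C.eps_mul _ (el_mem hx) _ (el_mem hy),
    eps_el hx, eps_el hy]

theorem fix_mul {x y : F} (hx : C.bar x = x) (hy : C.bar y = y) : C.bar (x * y) = x * y := by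
  rw [map_mul, hx, hy]

theorem fix_inv {x : F} (hx : C.bar x = x) : C.bar x⁻¹ = x⁻¹ := by rw [map_inv₀, hx]

theorem fix_div {x y : F} (hx : C.bar x = x) (hy : C.bar y = y) : C.bar (x / y) = x / y := by
  rw [map_div₀, hx, hy]

theorem fix_add {x y : F} (hx : C.bar x = x) (hy : C.bar y = y) : C.bar (x + y) = x + y := by
  rw [map_add, hx, hy]

theorem fix_sq {x : F} (hx : C.bar x = x) : C.bar (x ^ 2) = x ^ 2 := by rw [map_pow, hx]

end Basic

namespace Setting

variable [CharP F 2] (S : Setting a t Q E K s r)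
include S

theorem el_one : C.el 1 = s := by rw [← C.eps_s]; exact el_eps S.base.s_mem

theorem lam_inj {k k' : G} (hk : k ∈ K) (hk' : k' ∈ K) (h : C.lam k = C.lam k') : k = k' := by
  obtain ⟨c, -, hc⟩ := S.base.reg _ (S.base.k_e k hk s S.base.s_mem) (fun e => S.base.s_ne (by
    simpa [mul_assoc] using congrArg (fun x => k⁻¹ * x * k) e))
  refine (hc k ⟨hk, rfl⟩).trans (hc k' ⟨hk', ?_⟩).symm
  refine C.eps_inj (S.base.k_e k' hk' s S.base.s_mem) (S.base.k_e k hk s S.base.s_mem) ?_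
  rw [C.eps_conj k' hk' s S.base.s_mem, C.eps_conj k hk s S.base.s_mem, h]

theorem kl_lam {k : G} (hk : k ∈ K) : C.kl (C.lam k) = k :=
  S.lam_inj C (kl_mem (C.lam_fix k hk) (C.lam_ne k hk)) hk (lam_kl (C.lam_fix k hk) (C.lam_ne k hk))

theorem kl_one : C.kl 1 = 1 := by
  have h : C.lam 1 = 1 := by
    have := C.lam_mul 1 (one_mem K) 1 (one_mem K)
    rw [one_mul] at this
    exact (mul_eq_left₀ (C.lam_ne 1 (one_mem K))).1 this.symm
  rw [← h]; exact S.kl_lam C (one_mem K)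

theorem kl_mul {x y : F} (hx : C.bar x = x) (hx0 : x ≠ 0) (hy : C.bar y = y) (hy0 : y ≠ 0) :
    C.kl (x * y) = C.kl x * C.kl y := by
  rw [← S.kl_lam C (mul_mem (kl_mem hx hx0) (kl_mem hy hy0)),
    C.lam_mul _ (kl_mem hx hx0) _ (kl_mem hy hy0), lam_kl hx hx0, lam_kl hy hy0]

theorem kl_inv {x : F} (hx : C.bar x = x) (hx0 : x ≠ 0) : C.kl x⁻¹ = (C.kl x)⁻¹ := by
  refine eq_inv_of_mul_eq_one_right ?_
  rw [← S.kl_mul C hx hx0 (fix_inv hx) (inv_ne_zero hx0), mul_inv_cancel₀ hx0, S.kl_one C]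

theorem kl_el {l x : F} (hl : C.bar l = l) (hl0 : l ≠ 0) (hx : C.bar x = x) :
    C.kl l * C.el x = C.el (l ^ 2 * x) * C.kl l := by
  have hk := kl_mem (C := C) hl hl0
  have h1 := el_eps (C := C) (S.base.k_e _ hk _ (el_mem hx))
  rw [C.eps_conj _ hk _ (el_mem hx), lam_kl hl hl0, eps_el hx] at h1
  rw [h1]; group

theorem el_kl {l x : F} (hl : C.bar l = l) (hl0 : l ≠ 0) (hx : C.bar x = x) :
    C.el x * C.kl l = C.kl l * C.el (x / l ^ 2) := by
  rw [S.kl_el C hl hl0 (fix_div hx (fix_sq hl)), mul_div_cancel₀ x (pow_ne_zero 2 hl0)]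

theorem t_kl {l : F} (hl : C.bar l = l) (hl0 : l ≠ 0) : t * C.kl l = C.kl l⁻¹ * t := by
  rw [S.base.t_mul_k (kl_mem hl hl0), S.kl_inv C hl hl0]

/-- The defining relation. -/
theorem t_el_t (hr : r ∈ E) {x : F} (hx : C.bar x = x) (hx0 : x ≠ 0) :
    t * C.el x * t = C.el x⁻¹ * C.kl x⁻¹ * t * C.el x⁻¹ := by
  obtain ⟨k, ⟨hk, hke⟩, -⟩ := S.base.reg (C.el x) (el_mem hx) (fun e => hx0 (by
    rw [← eps_el (C := C) hx, e, eps_one_eq]))
  have hl : C.lam k ^ 2 = x := by
    have h := C.eps_conj k hk s S.base.s_mem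
    rw [hke, eps_el hx, C.eps_s, mul_one] at h
    exact h.symm
  have hkl := C.lam_fix k hk
  have hkl0 := C.lam_ne k hk
  have h1 : k⁻¹ * s * k = C.el x⁻¹ := by
    have h2 := el_eps (C := C) (S.base.k_e k⁻¹ (inv_mem hk) s S.base.s_mem)
    rw [C.eps_conj _ (inv_mem hk) s S.base.s_mem, C.eps_s, mul_one] at h2
    have h3 : C.lam k⁻¹ = (C.lam k)⁻¹ := eq_inv_of_mul_eq_one_left (by
      rw [← C.lam_mul _ (inv_mem hk) k hk, inv_mul_cancel, ← lam_kl (C := C) (map_one _) one_ne_zero,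
        S.kl_one C])
    rw [h3, inv_pow, hl] at h2
    rw [h2, inv_inv]
  have h2 : k⁻¹ * k⁻¹ = C.kl x⁻¹ := by
    rw [← hl, pow_two, mul_inv, S.kl_mul C (fix_inv hkl) (inv_ne_zero hkl0) (fix_inv hkl) (inv_ne_zero hkl0),
      S.kl_inv C hkl hkl0, S.kl_lam C hk]
  have hrel := S.base.rel
  rw [S.r_eq hr, inv_eq_of_mul_eq_one_right (S.base.e_sq s S.base.s_mem)] at hrel
  calc t * C.el x * t = t * k * t * (t * s * t) * (t * k⁻¹ * t) := by
        rw [← hke, show t * k * t * (t * s * t) * (t * k⁻¹ * t) = t * k * (t * t) * s * (t * t) * k⁻¹ * t by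
          simp only [mul_assoc], S.base.t_sq]
        simp only [mul_one, mul_assoc]
    _ = k⁻¹ * (s * t * s) * k := by rw [S.base.inv k hk, S.base.inv k⁻¹ (inv_mem hk), inv_inv, hrel]
    _ = (k⁻¹ * s * k) * (k⁻¹ * (t * k)) * (k⁻¹ * s * k) := by group
    _ = C.el x⁻¹ * (k⁻¹ * k⁻¹) * t * C.el x⁻¹ := by rw [h1, S.base.t_mul_k hk]; simp only [mul_assoc]
    _ = _ := by rw [h2]

omit S in
theorem toG_pos {M : Matrix (Fin 2) (Fin 2) F} (h : M 1 0 = 0) :
    C.toG t M = C.el (M 0 1 / M 1 1) * C.kl (M 0 0) := by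
  rw [EField.toG, if_pos h]

omit S in
theorem toG_neg {M : Matrix (Fin 2) (Fin 2) F} (h : M 1 0 ≠ 0) :
    C.toG t M = C.el (M 0 0 / M 1 0) * C.kl (M 1 0)⁻¹ * t * C.el (M 1 1 / M 1 0) := by
  rw [EField.toG, if_neg h]

theorem toG_up {x : F} : C.toG t (upM x) = C.el x := by
  simp [EField.toG, upM, S.kl_one C]

theorem toG_dg {l : F} : C.toG t (dgM l) = C.kl l := by
  simp [EField.toG, dgM, el_zero]

theorem toG_sw : C.toG t (swM : Matrix (Fin 2) (Fin 2) F) = t := by
  simp [EField.toG, swM, el_zero, S.kl_one C]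

theorem toG_one : C.toG t (1 : Matrix (Fin 2) (Fin 2) F) = 1 := by
  simp [EField.toG, el_zero, S.kl_one C]

omit S in
theorem det_eq {M : Matrix (Fin 2) (Fin 2) F} (h : C.InSL M) : M 0 0 * M 1 1 + M 0 1 * M 1 0 = 1 := by
  have := h.1
  rwa [Matrix.det_fin_two, CharTwo.sub_eq_add] at this

theorem toG_up_mul {x : F} (hx : C.bar x = x) {M : Matrix (Fin 2) (Fin 2) F} (h : C.InSL M) :
    C.toG t (upM x * M) = C.el x * C.toG t M := by
  have hd := det_eq C h
  obtain ⟨-, hf⟩ := h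
  have e10 : (upM x * M) 1 0 = M 1 0 := by simp [upM, Matrix.mul_apply, Fin.sum_univ_two]
  have e00 : (upM x * M) 0 0 = M 0 0 + x * M 1 0 := by simp [upM, Matrix.mul_apply, Fin.sum_univ_two]
  have e01 : (upM x * M) 0 1 = M 0 1 + x * M 1 1 := by simp [upM, Matrix.mul_apply, Fin.sum_univ_two]
  have e11 : (upM x * M) 1 1 = M 1 1 := by simp [upM, Matrix.mul_apply, Fin.sum_univ_two]
  by_cases hc : M 1 0 = 0
  · have h11 : M 1 1 ≠ 0 := fun e => by simp [hc, e] at hd
    rw [toG_pos C (e10.trans hc), toG_pos C hc, e00, e01, e11, hc, mul_zero, add_zero,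
      show (M 0 1 + x * M 1 1) / M 1 1 = x + M 0 1 / M 1 1 by field_simp; ring,
      el_add hx (fix_div (hf 0 1) (hf 1 1)), mul_assoc]
  · rw [toG_neg C (fun e => hc (e10.symm.trans e)), toG_neg C hc, e00, e10, e11,
      show (M 0 0 + x * M 1 0) / M 1 0 = x + M 0 0 / M 1 0 by field_simp; ring,
      el_add hx (fix_div (hf 0 0) (hf 1 0))]
    simp only [mul_assoc]

theorem toG_dg_mul {l : F} (hl : C.bar l = l) (hl0 : l ≠ 0) {M : Matrix (Fin 2) (Fin 2) F} (h : C.InSL M) :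
    C.toG t (dgM l * M) = C.kl l * C.toG t M := by
  have hd := det_eq C h
  obtain ⟨-, hf⟩ := h
  have e10 : (dgM l * M) 1 0 = l⁻¹ * M 1 0 := by simp [dgM, Matrix.mul_apply, Fin.sum_univ_two]
  have e00 : (dgM l * M) 0 0 = l * M 0 0 := by simp [dgM, Matrix.mul_apply, Fin.sum_univ_two]
  have e01 : (dgM l * M) 0 1 = l * M 0 1 := by simp [dgM, Matrix.mul_apply, Fin.sum_univ_two]
  have e11 : (dgM l * M) 1 1 = l⁻¹ * M 1 1 := by simp [dgM, Matrix.mul_apply, Fin.sum_univ_two]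
  by_cases hc : M 1 0 = 0
  · have h00 : M 0 0 ≠ 0 := fun e => by simp [hc, e] at hd
    rw [toG_pos C (e10.trans (by rw [hc, mul_zero])), toG_pos C hc, e00, e01, e11, ← mul_assoc,
      S.kl_el C hl hl0 (fix_div (hf 0 1) (hf 1 1)),
      S.kl_mul C hl hl0 (hf 0 0) h00, ← mul_assoc]
    congr 3
    field_simp
  · rw [toG_neg C (fun e => mul_ne_zero (inv_ne_zero hl0) hc (e10.symm.trans e)), toG_neg C hc, e00, e10, e11]
    rw [show l * M 0 0 / (l⁻¹ * M 1 0) = l ^ 2 * (M 0 0 / M 1 0) by field_simp,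
      show l⁻¹ * M 1 1 / (l⁻¹ * M 1 0) = M 1 1 / M 1 0 by field_simp, mul_inv, inv_inv,
      S.kl_mul C hl hl0 (fix_inv (hf 1 0)) (inv_ne_zero hc)]
    simp only [← mul_assoc]
    rw [S.kl_el C hl hl0 (fix_div (hf 0 0) (hf 1 0))]

theorem toG_sw_mul (hr : r ∈ E) {M : Matrix (Fin 2) (Fin 2) F} (h : C.InSL M) :
    C.toG t (swM * M) = t * C.toG t M := by
  have hd := det_eq C h
  obtain ⟨-, hf⟩ := h
  have e10 : ((swM : Matrix (Fin 2) (Fin 2) F) * M) 1 0 = M 0 0 := by simp [swM, Matrix.mul_apply, Fin.sum_univ_two]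
  have e00 : ((swM : Matrix (Fin 2) (Fin 2) F) * M) 0 0 = M 1 0 := by simp [swM, Matrix.mul_apply, Fin.sum_univ_two]
  have e01 : ((swM : Matrix (Fin 2) (Fin 2) F) * M) 0 1 = M 1 1 := by simp [swM, Matrix.mul_apply, Fin.sum_univ_two]
  have e11 : ((swM : Matrix (Fin 2) (Fin 2) F) * M) 1 1 = M 0 1 := by simp [swM, Matrix.mul_apply, Fin.sum_univ_two]
  by_cases hA : M 0 0 = 0
  · have hC : M 1 0 ≠ 0 := fun e => by simp [hA, e] at hd
    have hB : M 0 1 = (M 1 0)⁻¹ := by
      refine eq_inv_of_mul_eq_one_left ?_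
      rw [hA, zero_mul, zero_add] at hd
      exact hd
    rw [toG_pos C (e10.trans hA), toG_neg C hC, e00, e01, e11, hA, zero_div, el_zero, one_mul, hB, div_inv_eq_mul,
      S.el_kl C (hf 1 0) hC (fix_mul (hf 1 1) (hf 1 0)), ← mul_assoc t, ← mul_assoc t,
      S.t_kl C (fix_inv (hf 1 0)) (inv_ne_zero hC), inv_inv, mul_assoc _ t t, S.base.t_sq, mul_one]
    congr 2
    field_simp
  by_cases hC : M 1 0 = 0
  · have hD : M 1 1 = (M 0 0)⁻¹ := by
      refine eq_inv_of_mul_eq_one_right ?_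
      rw [hC, mul_zero, add_zero] at hd
      exact hd
    rw [toG_neg C (fun e => hA (e10.symm.trans e)), toG_pos C hC, e00, e10, e11, hC, zero_div, el_zero, one_mul, hD, div_inv_eq_mul,
      S.el_kl C (hf 0 0) hA (fix_mul (hf 0 1) (hf 0 0)), ← mul_assoc t, S.t_kl C (hf 0 0) hA]
    congr 2
    field_simp
  · have hy : C.bar (M 0 0 / M 1 0) = M 0 0 / M 1 0 := fix_div (hf 0 0) (hf 1 0)
    have hy' : (M 0 0 / M 1 0)⁻¹ = M 1 0 / M 0 0 := inv_div _ _
    have hz : C.bar (M 1 0 / M 0 0) = M 1 0 / M 0 0 := fix_div (hf 1 0) (hf 0 0)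
    rw [toG_neg C (fun e => hA (e10.symm.trans e)), toG_neg C hC, e00, e10, e11]
    symm
    calc t * (C.el (M 0 0 / M 1 0) * C.kl (M 1 0)⁻¹ * t * C.el (M 1 1 / M 1 0))
        = t * C.el (M 0 0 / M 1 0) * (C.kl (M 1 0)⁻¹ * t) * C.el (M 1 1 / M 1 0) := by
          simp only [mul_assoc]
      _ = t * C.el (M 0 0 / M 1 0) * t * C.kl (M 1 0) * C.el (M 1 1 / M 1 0) := by
          rw [← S.t_kl C (hf 1 0) hC]; simp only [mul_assoc]
      _ = C.el (M 1 0 / M 0 0) * C.kl (M 1 0 / M 0 0) * t * (C.el (M 1 0 / M 0 0) * C.kl (M 1 0)) *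
            C.el (M 1 1 / M 1 0) := by
          rw [S.t_el_t C hr hy (div_ne_zero hA hC), hy']; simp only [mul_assoc]
      _ = C.el (M 1 0 / M 0 0) * C.kl (M 1 0 / M 0 0) * (t * C.kl (M 1 0)) *
            (C.el (M 1 0 / M 0 0 / M 1 0 ^ 2) * C.el (M 1 1 / M 1 0)) := by
          rw [S.el_kl C (hf 1 0) hC hz]; simp only [mul_assoc]
      _ = C.el (M 1 0 / M 0 0) * (C.kl (M 1 0 / M 0 0) * C.kl (M 1 0)⁻¹) * t *
            C.el (M 1 0 / M 0 0 / M 1 0 ^ 2 + M 1 1 / M 1 0) := by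
          rw [S.t_kl C (hf 1 0) hC, el_add (fix_div hz (fix_sq (hf 1 0))) (fix_div (hf 1 1) (hf 1 0))]
          simp only [mul_assoc]
      _ = _ := by
          rw [← S.kl_mul C hz (div_ne_zero hC hA) (fix_inv (hf 1 0)) (inv_ne_zero hC)]
          congr 1
          · congr 3
            field_simp
          · congr 1
            have h2 : (2 : F) = 0 := CharTwo.two_eq_zero
            field_simp
            linear_combination hd - (M 0 1 * M 1 0 - 1) * h2

omit S in
theorem inSL_mul {M N : Matrix (Fin 2) (Fin 2) F} (hM : C.InSL M) (hN : C.InSL N) : C.InSL (M * N) := by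
  refine ⟨by rw [Matrix.det_mul, hM.1, hN.1, one_mul], fun i j => ?_⟩
  rw [Matrix.mul_apply, map_sum]
  simp [hM.2, hN.2]

omit S in
theorem inSL_up {x : F} (hx : C.bar x = x) : C.InSL (upM x) :=
  ⟨by simp [upM, Matrix.det_fin_two], fun i j => by fin_cases i <;> fin_cases j <;> simp [upM, hx]⟩

omit S in
theorem inSL_dg {l : F} (hl : C.bar l = l) (hl0 : l ≠ 0) : C.InSL (dgM l) :=
  ⟨by simp [dgM, Matrix.det_fin_two, hl0], fun i j => by
    fin_cases i <;> fin_cases j <;> simp [dgM, hl]⟩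

omit S in
theorem inSL_sw : C.InSL (swM : Matrix (Fin 2) (Fin 2) F) :=
  ⟨by simp [swM, Matrix.det_fin_two, CharTwo.neg_eq],
    fun i j => by fin_cases i <;> fin_cases j <;> simp [swM]⟩

omit S in
/-- The Bruhat decomposition. -/
theorem bruhat {M : Matrix (Fin 2) (Fin 2) F} (h : C.InSL M) :
    (M 1 0 = 0 ∧ M = upM (M 0 1 / M 1 1) * dgM (M 0 0)) ∨
      (M 1 0 ≠ 0 ∧ M = upM (M 0 0 / M 1 0) * (dgM (M 1 0)⁻¹ * (swM * upM (M 1 1 / M 1 0)))) := by
  have hd := det_eq C h
  by_cases hc : M 1 0 = 0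
  · refine Or.inl ⟨hc, ?_⟩
    rw [hc, mul_zero, add_zero] at hd
    have hD : M 1 1 = (M 0 0)⁻¹ := eq_inv_of_mul_eq_one_right hd
    have hA : M 0 0 ≠ 0 := fun e => by simp [e] at hd
    ext i j
    fin_cases i <;> fin_cases j <;>
      simp [upM, dgM, Matrix.mul_apply, Fin.sum_univ_two, hc, hD]
    field_simp
  · refine Or.inr ⟨hc, ?_⟩
    have h2 : (2 : F) = 0 := CharTwo.two_eq_zero
    ext i j
    fin_cases i <;> fin_cases j <;>
      simp [upM, dgM, swM, Matrix.mul_apply, Fin.sum_univ_two, hc]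
    all_goals field_simp
    linear_combination -hd + (M 0 1 * M 1 0 - 1) * h2

theorem toG_mul (hr : r ∈ E) {M N : Matrix (Fin 2) (Fin 2) F} (hM : C.InSL M) (hN : C.InSL N) :
    C.toG t (M * N) = C.toG t M * C.toG t N := by
  have hf := hM.2
  rcases bruhat C hM with ⟨hc, e⟩ | ⟨hc, e⟩
  · have h00 : M 0 0 ≠ 0 := fun h0 => by
      have := det_eq C hM
      simp [hc, h0] at this
    rw [e, mul_assoc, S.toG_up_mul C (fix_div (hf 0 1) (hf 1 1)) (inSL_mul C (inSL_dg C (hf 0 0) h00) hN),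
      S.toG_dg_mul C (hf 0 0) h00 hN, S.toG_up_mul C (fix_div (hf 0 1) (hf 1 1)) (inSL_dg C (hf 0 0) h00),
      S.toG_dg C, mul_assoc]
  · have hx := fix_div (C := C) (hf 0 0) (hf 1 0)
    have hl := fix_inv (C := C) (hf 1 0)
    have hl0 := inv_ne_zero hc
    have hz := fix_div (C := C) (hf 1 1) (hf 1 0)
    have h1 := inSL_mul C (inSL_sw C) (inSL_up C hz)
    rw [e, mul_assoc, mul_assoc, mul_assoc]
    rw [S.toG_up_mul C hx (inSL_mul C (inSL_dg C hl hl0) (inSL_mul C (inSL_sw C) (inSL_mul C (inSL_up C hz) hN))),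
      S.toG_dg_mul C hl hl0 (inSL_mul C (inSL_sw C) (inSL_mul C (inSL_up C hz) hN)),
      S.toG_sw_mul C hr (inSL_mul C (inSL_up C hz) hN), S.toG_up_mul C hz hN,
      S.toG_up_mul C hx (inSL_mul C (inSL_dg C hl hl0) h1), S.toG_dg_mul C hl hl0 h1,
      S.toG_sw_mul C hr (inSL_up C hz), S.toG_up C]
    simp only [mul_assoc]

end Setting

end CfsgLib.Bender.Suzuki
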