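import Mathlib.Algebra.CharP.Two
import Mathlib.Algebra.Field.Basic

/-!
# The unital in coordinates

Points off infinity are pairs `(u, w)` with `w + w̄ = ū u`, multiplied as the unipotent radical of
`U₃`; the swap is `(u, w) ↦ (u / w, 1 / w)`.
-/

set_option autoImplicit false

namespace CfsgLib.Bender.Suzuki.Unital

variable {F : Type*} [Field F] (bar : F →+* F)

/-- The points off infinity. -/
def Pts : Set (F × F) := {p | p.2 + bar p.2 = bar p.1 * p.1}

/-- The multiplication. -/
def pm (p p' : F × F) : F × F := (p.1 + p'.1, p.2 + p'.2 + bar p.1 * p'.1)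

/-- The inverse. -/
def pinv (p : F × F) : F × F := (p.1, bar p.2)

/-- The unitary swap. -/
def swap (p : F × F) : F × F := (p.1 / p.2, p.2⁻¹)

end CfsgLib.Bender.Suzuki.Unital
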