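import Cfsg.Agent.Lib.Bender.Suzuki.Defs
import Cfsg.Agent.Lib.Bender.Suzuki.Unital

/-!
# Suzuki's theorem: the interfaces between the steps
-/

set_option autoImplicit false

namespace CfsgLib.Bender.Suzuki

open MulAction
open scoped Pointwise

variable {G Ω : Type*} [Group G] [MulAction G Ω]

/-- The geometry of the lines. -/
structure LineFacts (a : Ω) (t : G) (E : Subgroup G) (f : ℕ) : Prop where
  card_E : Nat.card E = 2 ^ f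
  line_unique : ∀ x y : Ω, x ≠ y → ∃! Λ, IsLine a t E Λ ∧ x ∈ Λ ∧ y ∈ Λ
  card_line : ∀ Λ, IsLine a t E Λ → Λ.ncard = 2 ^ f + 1
  card_lines : Nat.card {Λ : Set Ω // IsLine a t E Λ} = (2 ^ f) ^ 2 * ((2 ^ f) ^ 2 - 2 ^ f + 1)
  stab_line : ∀ g : G, g • baseLine a t E = baseLine a t E →
    (∀ x ∈ baseGroup t E, g * x * g⁻¹ ∈ baseGroup t E) ∧
      ∃ l ∈ baseGroup t E, ∃ v ∈ pairStab a t, Commute v t ∧ g = l * v
  group_line : ∀ x ∈ baseGroup t E, x • baseLine a t E = baseLine a t E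
  v_pow : ∀ v ∈ pairStab a t, Commute v t → v ^ f ∈ lineKer a t E
  disj : ∀ x ∈ baseGroup t E, x ∈ pairStab a t → Commute x t → x = 1
  ker_comm : ∀ w ∈ lineKer a t E, ∀ x ∈ baseGroup t E, Commute w x
  ker_fix : ∀ w ∈ lineKer a t E, ∀ c ∈ baseLine a t E, w • c = c
  ker_free : ∀ w ∈ lineKer a t E, w ≠ 1 → ∀ c ∉ baseLine a t E, w • c ≠ c
  free : ∀ x ∈ baseGroup t E, x ≠ 1 → ∀ c ∉ baseLine a t E, x • c ≠ c
  invol_one : ∀ u : G, u * u = 1 → u ≠ 1 → ∃! c : Ω, u • c = c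
  invol_mem : ∀ u : G, u * u = 1 → ∀ c : Ω, u • c = c → ∀ Λ, IsLine a t E Λ → c ∈ Λ → InLineGroup a t E u Λ
  torus_exists : ∀ p : ℕ, p.Prime → p ∣ 2 ^ f + 1 → ∃ x ∈ baseGroup t E, orderOf x = p ∧ t * x * t = x⁻¹
  torus_free : ∀ p : ℕ, p.Prime → p ∣ 2 ^ f + 1 → ∀ x ∈ baseGroup t E, orderOf x = p →
    ∀ c ∈ baseLine a t E, x • c ≠ c
  torus_invert : ∀ p : ℕ, p.Prime → p ∣ 2 ^ f + 1 → ∀ x ∈ baseGroup t E, orderOf x = p →
    ∃ u ∈ baseGroup t E, u * u = 1 ∧ u ≠ 1 ∧ u * x * u = x⁻¹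
  torus_centralizer : ∀ p : ℕ, p.Prime → p ∣ 2 ^ f + 1 → ∀ x ∈ baseGroup t E, orderOf x = p →
    ∀ y ∈ baseGroup t E, Commute y x → y ^ (2 ^ f + 1) = 1 ∧ (orderOf y = p → y ∈ Subgroup.zpowers x)

/-- Coordinates on the points off the base line. -/
structure Coords (a : Ω) (t : G) (E K : Subgroup G) (s : G) {F : Type} [Field F] (C : EField E K s F)
    (p : ℕ) (w : G) where
  /-- the Moebius coordinate -/
  θ : Ω → F
  /-- the automorphy factor -/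
  J : Ω → F
  /-- the hermitian constant -/
  c₀ : F
  c₀_fix : C.bar c₀ = c₀
  c₀_ne : c₀ ≠ 0
  /-- the eigenvalue of the kernel element -/
  η : F
  η_order : orderOf η = p
  η_bar : C.bar η = η⁻¹
  J_ne : ∀ c ∉ baseLine a t E, J c ≠ 0
  herm : ∀ c ∉ baseLine a t E, (θ c + C.bar (θ c)) * (C.bar (J c) * J c) = c₀
  θ_E : ∀ e ∈ E, ∀ c ∉ baseLine a t E, θ (e • c) = θ c + C.eps e ∧ J (e • c) = J c
  θ_K : ∀ k ∈ K, ∀ c ∉ baseLine a t E, θ (k • c) = C.lam k ^ 2 * θ c ∧ J (k • c) = J c / C.lam k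
  θ_t : ∀ c ∉ baseLine a t E, θ (t • c) = (θ c)⁻¹ ∧ J (t • c) = θ c * J c
  θ_w : ∀ c ∉ baseLine a t E, θ (w • c) = θ c ∧ J (w • c) = η * J c
  J_inj : ∀ c ∉ baseLine a t E, ∀ c' ∉ baseLine a t E, J c = J c' → ∃ e ∈ E, c' = e • c

/-- Coordinates on `Q`. -/
structure QCoords (Q E K : Subgroup G) (s : G) {F : Type} [Field F] (C : EField E K s F) (p : ℕ) (w : G) where
  /-- the parametrisation -/
  φ : F × F → G
  mem : ∀ z ∈ Unital.Pts C.bar, φ z ∈ Q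
  inj : Set.InjOn φ (Unital.Pts C.bar)
  surj : ∀ y ∈ Q, ∃ z ∈ Unital.Pts C.bar, φ z = y
  mul : ∀ z ∈ Unital.Pts C.bar, ∀ z' ∈ Unital.Pts C.bar, φ (Unital.pm C.bar z z') = φ z * φ z'
  phi_E : ∀ e ∈ E, φ (0, C.eps e) = e
  conj_K : ∀ k ∈ K, ∀ z ∈ Unital.Pts C.bar, k * φ z * k⁻¹ = φ (C.lam k * z.1, C.lam k ^ 2 * z.2)
  /-- the eigenvalue of the kernel element -/
  ζ : F
  ζ_order : orderOf ζ = p
  ζ_bar : C.bar ζ = ζ⁻¹
  conj_w : ∀ z ∈ Unital.Pts C.bar, w * φ z * w⁻¹ = φ (ζ * z.1, z.2)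

/-- The conclusion: the swap is the unitary one. -/
def IsUnitalAction (a : Ω) (t : G) {F : Type} [Field F] (bar : F →+* F) (φ : F × F → G) : Prop :=
  ∀ z ∈ Unital.Pts bar, z ≠ 0 → t • φ z • t • a = φ (Unital.swap z) • t • a

end CfsgLib.Bender.Suzuki

namespace CfsgLib.Bender.Suzuki.Unital

/-- A swap of the unital commuting as expected with the homogeneous maps. -/
structure SwapData {F : Type*} [Field F] (bar : F →+* F) (p : ℕ) where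
  bar_bar : ∀ x, bar (bar x) = x
  nontriv : ∃ x, bar x ≠ x
  prime : p.Prime
  three_le : 3 ≤ p
  /-- the multiplier -/
  ζ : F
  ζ_order : orderOf ζ = p
  ζ_bar : bar ζ = ζ⁻¹
  /-- the swap -/
  T : F × F → F × F
  T_mem : ∀ z ∈ Pts bar, z ≠ 0 → T z ∈ Pts bar ∧ T z ≠ 0
  T_E : ∀ e, bar e = e → e ≠ 0 → T (0, e) = (0, e⁻¹)
  T_off : ∀ z ∈ Pts bar, z.1 ≠ 0 → (T z).1 ≠ 0
  /-- the shift of the Moebius coordinate -/
  b : F → F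
  b_real : ∀ l, bar l = l → l ≠ 0 → ∀ u, b (l * u) = l ^ 2 * b u
  b_zeta : ∀ u, b (ζ * u) = b u
  /-- the automorphy factor -/
  J : F → F
  J_ne : ∀ u, u ≠ 0 → J u ≠ 0
  J_inj : ∀ u u', u ≠ 0 → u' ≠ 0 → J u = J u' → u = u'
  J_real : ∀ l, bar l = l → l ≠ 0 → ∀ u, u ≠ 0 → J (l * u) = J u / l
  /-- the exponent -/
  m : ℕ
  J_zeta : ∀ u, u ≠ 0 → J (ζ * u) = ζ ^ m * J u
  /-- the hermitian constant -/
  c₀ : F
  c₀_ne : c₀ ≠ 0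
  c₀_fix : bar c₀ = c₀
  herm : ∀ z ∈ Pts bar, z.1 ≠ 0 → (z.2 + b z.1 + bar (z.2 + b z.1)) * (bar (J z.1) * J z.1) = c₀
  T_θ : ∀ z ∈ Pts bar, z.1 ≠ 0 →
    (T z).2 + b (T z).1 = (z.2 + b z.1)⁻¹ ∧ J (T z).1 = (z.2 + b z.1) * J z.1
  key : ∀ z ∈ Pts bar, z.1 ≠ 0 → ∀ e, bar e = e → e ≠ 0 →
    (T (pm bar z (T (pm bar (T (pinv bar z)) (0, e))))).1 = (T z).1

end CfsgLib.Bender.Suzuki.Unital
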