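import Cfsg.Agent.Lib.Bender.Suzuki.Model
import Cfsg.Agent.Lib.Bender.Suzuki.Interface
import Cfsg.Agent.Lib.RootSub.Setup2

/-!
# Suzuki's theorem: recognition of the unitary groups

A simple group generated by `Q` and `t` contains every involution, so it is normal of odd index.
-/

set_option autoImplicit false
set_option linter.style.haveILetI false
set_option linter.unusedSectionVars false

namespace CfsgLib.Bender.Suzuki

open MulAction CfsgLib.RootSub.Setup

universe u v

variable {G : Type u} {Ω : Type v} [Group G] [Finite G] [MulAction G Ω] {a : Ω} {t : G} {Q : Subgroup G}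

/-- `⟨Q, t⟩` is transitive, so `G` is the product of it and the two point stabiliser. -/
theorem exists_mul_pair (hS : Cfsg.IsRankOneSetup G Ω a t Q) (g : G) :
    ∃ l ∈ Subgroup.closure ((Q : Set G) ∪ {t}), ∃ d ∈ pairStab a t, l * d = g := by
  set L := Subgroup.closure ((Q : Set G) ∪ {t})
  have htL : t ∈ L := Subgroup.subset_closure (Or.inr rfl)
  have hQL : ∀ y ∈ Q, y ∈ L := fun y hy => Subgroup.subset_closure (Or.inl hy)
  obtain ⟨l, hl, hla⟩ : ∃ l ∈ L, l • a = g • a := by
    by_cases h : g • a = a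
    · exact ⟨1, one_mem L, by rw [one_smul, h]⟩
    · obtain ⟨y, hy, e⟩ := exists_Q hS h
      exact ⟨y * t, mul_mem (hQL y hy) htL, by rw [mul_smul, e]⟩
  have hstab : l⁻¹ * g ∈ stabilizer G a := by
    rw [mem_stabilizer_iff, mul_smul, ← hla, inv_smul_smul]
  have hne : (l⁻¹ * g) • t • a ≠ a := fun h => ta_ne hS (by
    have h2 := congrArg (fun c => (l⁻¹ * g)⁻¹ • c) h
    simp only [inv_smul_smul] at h2
    rw [h2]
    exact mem_stabilizer_iff.1 (Subgroup.inv_mem _ hstab))
  obtain ⟨y, hy, hye⟩ := exists_Q hS hne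
  refine ⟨l * y, mul_mem hl (hQL y hy), y⁻¹ * (l⁻¹ * g), ⟨(stabilizer G a).mul_mem ((stabilizer G a).inv_mem (hS.le hy)) hstab, ?_⟩, by group⟩
  show (y⁻¹ * (l⁻¹ * g)) • t • a = t • a
  rw [mul_smul, ← hye, inv_smul_smul]

/-- Every involution lies in `⟨Q, t⟩`. -/
theorem involution_mem_closure (hS : Cfsg.IsRankOneSetup G Ω a t Q) {x : G} (hx1 : x ≠ 1) (hx2 : x * x = 1) :
    x ∈ Subgroup.closure ((Q : Set G) ∪ {t}) := by
  set L := Subgroup.closure ((Q : Set G) ∪ {t})
  have htL : t ∈ L := Subgroup.subset_closure (Or.inr rfl)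
  have hQL : ∀ y ∈ Q, y ∈ L := fun y hy => Subgroup.subset_closure (Or.inl hy)
  obtain ⟨p, hp⟩ := exists_fixed hS hx1 hx2
  obtain ⟨g, hg, hgp⟩ : ∃ g ∈ L, g • p = a := by
    by_cases h : p = a
    · exact ⟨1, one_mem L, by rw [one_smul, h]⟩
    · obtain ⟨y, hy, e⟩ := exists_Q hS h
      exact ⟨t * y⁻¹, mul_mem htL (inv_mem (hQL y hy)), by rw [← e, mul_smul, inv_smul_smul, t_t hS]⟩
  have hfix : g * x * g⁻¹ ∈ stabilizer G a := by
    rw [mem_stabilizer_iff, ← hgp, mul_smul, mul_smul, inv_smul_smul, hp.1]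
  have hmem := mul_mem (mul_mem (inv_mem hg) (hQL _ (mem_Q_of_sq hS hfix (by
    rw [show g * x * g⁻¹ * (g * x * g⁻¹) = g * (x * x) * g⁻¹ by group, hx2]; group)))) hg
  rwa [show g⁻¹ * (g * x * g⁻¹) * g = x by group] at hmem

/-- A simple `⟨Q, t⟩` is normal of odd index. -/
theorem normal_of_simple (hS : Cfsg.IsRankOneSetup G Ω a t Q)
    (hs : IsSimpleGroup ↥(Subgroup.closure ((Q : Set G) ∪ {t}))) :
    (Subgroup.closure ((Q : Set G) ∪ {t})).Normal ∧ Odd (Subgroup.closure ((Q : Set G) ∪ {t})).index := by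
  set L := Subgroup.closure ((Q : Set G) ∪ {t})
  set N := Subgroup.closure {x : G | x ≠ 1 ∧ x * x = 1}
  have hN : N.Normal := by
    refine ⟨fun n hn g => ?_⟩
    induction hn using Subgroup.closure_induction with
    | mem x hx =>
      refine Subgroup.subset_closure ⟨fun h => hx.1 ?_, ?_⟩
      · rw [mul_inv_eq_one] at h
        exact mul_eq_left.1 h
      · rw [show g * x * g⁻¹ * (g * x * g⁻¹) = g * (x * x) * g⁻¹ by group, hx.2]; group
    | one => rw [mul_one, mul_inv_cancel]; exact one_mem N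
    | mul x y _ _ hx hy =>
      rw [show g * (x * y) * g⁻¹ = g * x * g⁻¹ * (g * y * g⁻¹) by group]
      exact mul_mem hx hy
    | inv x _ hx =>
      rw [show g * x⁻¹ * g⁻¹ = (g * x * g⁻¹)⁻¹ by group]
      exact inv_mem hx
  have hNL : N ≤ L := (Subgroup.closure_le _).2 fun x hx => involution_mem_closure hS hx.1 hx.2
  haveI := hN.subgroupOf L
  have hLN : L ≤ N := by
    rcases (show (N.subgroupOf L).Normal from inferInstance).eq_bot_or_eq_top with h | h
    · have ht : (⟨t, Subgroup.subset_closure (Or.inr rfl)⟩ : L) ∈ N.subgroupOf L :=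
        Subgroup.subset_closure ⟨hS.ne_one, hS.mul_self⟩
      rw [h, Subgroup.mem_bot] at ht
      exact absurd (congrArg Subtype.val ht) hS.ne_one
    · exact Subgroup.subgroupOf_eq_top.1 h
  have hL : L.Normal := le_antisymm hLN hNL ▸ hN
  refine ⟨hL, ?_⟩
  have hsurj : Function.Surjective ((QuotientGroup.mk' L).comp (pairStab a t).subtype) := by
    intro x
    obtain ⟨g, rfl⟩ := QuotientGroup.mk'_surjective L x
    obtain ⟨l, hl, d, hd, e⟩ := exists_mul_pair hS g
    refine ⟨⟨d, hd⟩, ?_⟩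
    show QuotientGroup.mk' L d = _
    rw [← e, map_mul, show QuotientGroup.mk' L l = 1 from (QuotientGroup.eq_one_iff l).2 hl, one_mul]
  rw [Subgroup.index_eq_card]
  exact hS.odd_card.of_dvd_nat (Subgroup.card_dvd_of_surjective _ hsurj)

/-- **Recognition.**  Coordinates in which `t` is the unitary swap give `PSU₃(q)`. -/
theorem exists_psu [FaithfulSMul G Ω] (hS : Cfsg.IsRankOneSetup G Ω a t Q) {E K : Subgroup G} {s : G}
    {F : Type} [Field F] [Fintype F] [CharP F 2] (C : EField E K s F) {φ : F × F → G}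
    (hmem : ∀ z ∈ Unital.Pts C.bar, φ z ∈ Q) (hinj : Set.InjOn φ (Unital.Pts C.bar))
    (hsurj : ∀ y ∈ Q, ∃ z ∈ Unital.Pts C.bar, φ z = y)
    (hmul : ∀ z ∈ Unital.Pts C.bar, ∀ z' ∈ Unital.Pts C.bar, φ (Unital.pm C.bar z z') = φ z * φ z')
    (hact : IsUnitalAction a t C.bar φ) :
    ∃ L : Subgroup G, L.Normal ∧ Odd L.index ∧ Nonempty (L ≃* Cfsg.PSU 3 F (2 ^ C.f)) := by
  classical
  choose co hco hφ using fun y : Q => hsurj y y.2
  have hF : Fintype.card F = (2 ^ C.f) ^ 2 := by rw [← Nat.card_eq_fintype_card, C.card]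
  have hpts : ∀ {z z' : F × F}, z ∈ Unital.Pts C.bar → z' ∈ Unital.Pts C.bar →
      Unital.pm C.bar z z' ∈ Unital.Pts C.bar := by
    intro z z' hz hz'
    simp only [Unital.Pts, Unital.pm, Set.mem_ofPred_eq, map_add, map_mul, C.bar_bar] at hz hz' ⊢
    linear_combination hz + hz'
  have hmul' : ∀ x y : Q, co (x * y) = Unital.pm C.bar (co x) (co y) := fun x y =>
    hinj (hco _) (hpts (hco x) (hco y)) (by rw [hφ, hmul _ (hco x) _ (hco y), hφ, hφ, Subgroup.coe_mul])
  have hex : ∃ x, C.bar x ≠ x := by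
    by_contra h
    push Not at h
    have hlt : Nat.card F ≤ Nat.card ↥E := by
      choose e he heq using fun x : F => C.eps_surj x (h x)
      exact Nat.card_le_card_of_injective (fun x => (⟨e x, he x⟩ : ↥E)) fun x y hxy => by
        rw [← heq x, ← heq y]
        exact congrArg (fun z : ↥E => C.eps z) hxy
    rw [C.card, C.card_E] at hlt
    have : 2 ≤ 2 ^ C.f := le_self_pow (by omega) (by have := C.two_le; omega)
    nlinarith
  let U : CfsgLib.SU.Unital ↥Q F :=
    { bar := C.bar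
      bar_bar := C.bar_bar
      exists_ne := hex
      pi := fun y => (co y).1
      tau := fun y => (co y).2
      cond := fun y => by
        have h : (co y).2 + C.bar (co y).2 = C.bar (co y).1 * (co y).1 := hco y
        rw [CfsgLib.SU.HermAut.nm, h, mul_comm ((co y).1)]
        exact CharTwo.add_self_eq_zero _
      pi_mul := fun x y => congrArg Prod.fst (hmul' x y)
      tau_mul := fun x y => (congrArg Prod.snd (hmul' x y)).trans (by simp only [Unital.pm]; ring)
      coord_ext := fun x y h1 h2 => Subtype.ext (by rw [← hφ x, ← hφ y, Prod.ext h1 h2])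
      exists_coord := fun u w h => by
        have hz : (u, w) ∈ Unital.Pts C.bar := by
          show w + C.bar w = C.bar u * u
          rw [CfsgLib.SU.HermAut.nm] at h
          linear_combination h - (u * C.bar u) * (CharTwo.two_eq_zero : (2 : F) = 0)
        have h1 : co ⟨φ (u, w), hmem _ hz⟩ = (u, w) := hinj (hco _) hz (hφ _)
        exact ⟨⟨φ (u, w), hmem _ hz⟩, congrArg Prod.fst h1, congrArg Prod.snd h1⟩ }
  have hrule : ∀ y z : Q, y ≠ 1 → U.pi z = U.pi y / U.tau y → U.tau z = (U.tau y)⁻¹ →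
      t • (y : G) • t • a = (z : G) • t • a := by
    intro y z hy h1 h2
    have hy0 : co y ≠ 0 := fun h => hy (U.coord_ext y 1
      ((congrArg Prod.fst h).trans U.pi_one.symm) ((congrArg Prod.snd h).trans U.tau_one.symm))
    have hz : co z = Unital.swap (co y) := Prod.ext h1 h2
    have h := hact (co y) (hco y) hy0
    rwa [← hz, hφ, hφ] at h
  obtain ⟨e⟩ := psu_of_unital (a := a) (t := t) C.two_le hF U C.bar_apply hS.mul_self
    (fun y hy => fix_a hS hy) (fun ω hω => exists_Q hS hω) (ta_ne hS)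
    (fun y hy h => eq_one_of_fix hS hy (ta_ne hS) h) hrule
  haveI := CfsgLib.Classical.psu_isSimple hF (n := 3) le_rfl (fun h => by
    have : 2 ^ 2 ≤ 2 ^ C.f := Nat.pow_le_pow_right two_pos C.two_le
    omega)
  obtain ⟨hn, hi⟩ := normal_of_simple hS (e.isSimpleGroup)
  exact ⟨_, hn, hi, ⟨e⟩⟩

end CfsgLib.Bender.Suzuki
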