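import Cfsg.Agent.Lib.Bender.Suzuki.Base
import Mathlib.RingTheory.RootsOfUnity.PrimitiveRoots
import Mathlib.GroupTheory.SpecificGroups.Cyclic
import Mathlib.RingTheory.IntegralDomain

/-!
# Suzuki's theorem: the eigenvalue of a matrix of `SL₂(q)` in the field with `q ^ 2` elements
-/

set_option autoImplicit false
set_option linter.style.haveILetI false
set_option linter.unusedSectionVars false

namespace CfsgLib.Bender.Suzuki

open Matrix

variable {G : Type*} [Group G] [Finite G] {E K : Subgroup G} {s : G}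
variable {F : Type} [Field F] [Finite F] [CharP F 2] (C : EField E K s F)

theorem card_fixed : Nat.card {x : F // C.bar x = x} = 2 ^ C.f := by
  rw [← C.card_E]
  refine (Nat.card_eq_of_bijective (fun e : E => (⟨C.eps e, C.eps_fix e e.2⟩ : {x : F // C.bar x = x}))
    ⟨fun e e' h => Subtype.ext (C.eps_inj e.2 e'.2 (congrArg Subtype.val h)), fun x => ?_⟩).symm
  obtain ⟨e, he, hex⟩ := C.eps_surj x x.2
  exact ⟨⟨e, he⟩, Subtype.ext hex⟩

theorem exists_not_fixed : ∃ z, C.bar z ≠ z := by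
  by_contra h
  push Not at h
  have h1 := Nat.card_congr (Equiv.subtypeUnivEquiv h)
  rw [card_fixed C, C.card] at h1
  have h2 : 2 ^ 2 ≤ 2 ^ C.f := Nat.pow_le_pow_right (by norm_num) C.two_le
  have h3 : 2 ^ C.f * 1 < 2 ^ C.f * 2 ^ C.f := Nat.mul_lt_mul_of_pos_left (by omega) (Nat.two_pow_pos _)
  rw [← pow_two] at h3
  omega

theorem exists_trace_one : ∃ γ, γ + C.bar γ = 1 := by
  obtain ⟨z, hz⟩ := exists_not_fixed C
  have h : z + C.bar z ≠ 0 := fun e => hz (CharTwo.add_eq_zero.1 e).symm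
  refine ⟨z / (z + C.bar z), ?_⟩
  rw [map_div₀, map_add, C.bar_bar, add_comm (C.bar z) z, ← add_div, div_self h]

/-- Elements of the subfield are of the form `y ^ 2 + y`. -/
theorem exists_artin {c : F} (hc : C.bar c = c) : ∃ y, y ^ 2 + y = c := by
  classical
  haveI := Fintype.ofFinite F
  obtain ⟨γ, hγ⟩ := exists_trace_one C
  set T : Finset F := Finset.univ.filter fun x => C.bar x = x with hT
  set S : Finset F := T ∪ T.image (γ + ·) with hS
  have hdisj : Disjoint T (T.image (γ + ·)) := by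
    rw [Finset.disjoint_left]
    intro x hx hx'
    obtain ⟨y, hy, rfl⟩ := Finset.mem_image.1 hx'
    simp only [hT, Finset.mem_filter, Finset.mem_univ, true_and] at hx hy
    rw [map_add, hy, add_left_inj] at hx
    rw [hx, CharTwo.add_self_eq_zero] at hγ
    exact zero_ne_one hγ
  have hScard : S.card = 2 * T.card := by
    rw [hS, Finset.card_union_of_disjoint hdisj,
      Finset.card_image_of_injective _ (add_right_injective γ), two_mul]
  have hmaps : ∀ y ∈ S, y ^ 2 + y ∈ T := by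
    intro y hy
    simp only [hS, hT, Finset.mem_union, Finset.mem_image, Finset.mem_filter, Finset.mem_univ, true_and] at hy ⊢
    rcases hy with hy | ⟨z, hz, rfl⟩
    · rw [map_add, map_pow, hy]
    · have hb : C.bar γ = γ + 1 := by
        rw [← hγ, ← add_assoc, CharTwo.add_self_eq_zero, zero_add]
      have h2 : (2 : F) = 0 := CharTwo.two_eq_zero
      simp only [map_add, map_pow, hz, hb]
      linear_combination (γ + z + 1) * h2
  have himg : T.card ≤ (S.image fun y => y ^ 2 + y).card := by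
    have := Finset.card_le_mul_card_image_of_maps_to (f := fun y : F => y ^ 2 + y) (s := S)
      (t := S.image fun y => y ^ 2 + y) (fun y hy => Finset.mem_image_of_mem _ hy) 2 (fun b hb => by
        obtain ⟨y₀, -, rfl⟩ := Finset.mem_image.1 hb
        refine (Finset.card_le_card (t := {y₀, y₀ + 1}) fun y hy => ?_).trans Finset.card_le_two
        simp only [Finset.mem_filter] at hy
        have h2 : (2 : F) = 0 := CharTwo.two_eq_zero
        have h3 : (y + y₀) * (y + y₀ + 1) = 0 := by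
          linear_combination hy.2 + (y * y₀ + y₀ ^ 2 + y₀) * h2
        rcases mul_eq_zero.1 h3 with h4 | h4
        · simp [CharTwo.add_eq_zero.1 h4]
        · rw [add_assoc] at h4
          simp [CharTwo.add_eq_zero.1 h4])
    rw [hScard] at this
    omega
  have hsub : (S.image fun y => y ^ 2 + y) = T := Finset.eq_of_subset_of_card_le
    (fun x hx => by obtain ⟨y, hy, rfl⟩ := Finset.mem_image.1 hx; exact hmaps y hy) himg
  obtain ⟨y, -, hy⟩ := Finset.mem_image.1 (hsub.symm ▸ (show c ∈ T by simp [hT, hc]) :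
    c ∈ S.image fun y => y ^ 2 + y)
  exact ⟨y, hy⟩

/-- A root of `z ^ 2 + T z + 1`. -/
theorem exists_root {T : F} (hT : C.bar T = T) (hT0 : T ≠ 0) : ∃ z, z ^ 2 + T * z + 1 = 0 := by
  obtain ⟨y, hy⟩ := exists_artin C (show C.bar (T ^ 2)⁻¹ = (T ^ 2)⁻¹ by rw [map_inv₀, map_pow, hT])
  refine ⟨T * y, ?_⟩
  have h2 : (2 : F) = 0 := CharTwo.two_eq_zero
  have h : T ^ 2 * (y ^ 2 + y) = 1 := by rw [hy, mul_inv_cancel₀ (pow_ne_zero 2 hT0)]
  linear_combination h + h2

theorem sqrt_fixed {c : F} (hc : C.bar c = c) : ∃ z, C.bar z = z ∧ z ^ 2 = c := by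
  refine ⟨c ^ 2 ^ (C.f - 1), by rw [map_pow, hc], ?_⟩
  rw [← pow_mul, ← pow_succ, show C.f - 1 + 1 = C.f by have := C.two_le; omega, ← C.bar_apply, hc]

theorem coe_fixed_eq {a b z : F} (ha : C.bar a = a) (hb : C.bar b = b) (hz : C.bar z ≠ z)
    (h : a * z + b = 1) : a = 0 ∧ b = 1 := by
  have ha0 : a = 0 := by
    by_contra h0
    refine hz (mul_left_cancel₀ h0 (add_right_cancel (b := b) ?_))
    have := congrArg C.bar h
    rw [map_add, map_mul, ha, hb, map_one] at this
    rw [this, h]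
  exact ⟨ha0, by simpa [ha0] using h⟩

omit C in
theorem sq_eq (M : Matrix (Fin 2) (Fin 2) F) (hd : M.det = 1) :
    M * M = (M 0 0 + M 1 1) • M + 1 := by
  rw [Matrix.det_fin_two, CharTwo.sub_eq_add] at hd
  have h2 : (2 : F) = 0 := CharTwo.two_eq_zero
  ext i j
  fin_cases i <;> fin_cases j <;> simp [Matrix.mul_apply, Fin.sum_univ_two]
  · linear_combination hd - (M 0 0 * M 1 1) * h2
  · ring
  · ring
  · linear_combination hd - (M 0 0 * M 1 1) * h2

/-- Powers of a combination of `M` and `1` follow those of its eigenvalue. -/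
theorem pow_lin {M : Matrix (Fin 2) (Fin 2) F} (hM : C.InSL M) {z : F}
    (hz : z ^ 2 + (M 0 0 + M 1 1) * z + 1 = 0) {α β : F} (hα : C.bar α = α) (hβ : C.bar β = β) (n : ℕ) :
    ∃ a b : F, C.bar a = a ∧ C.bar b = b ∧ (α • M + β • (1 : Matrix (Fin 2) (Fin 2) F)) ^ n = a • M + b • 1 ∧
      (α * z + β) ^ n = a * z + b := by
  induction n with
  | zero => exact ⟨0, 1, map_zero _, map_one _, by simp, by simp⟩
  | succ n ih =>
    obtain ⟨a, b, ha, hb, e1, e2⟩ := ih
    have hTr : C.bar (M 0 0 + M 1 1) = M 0 0 + M 1 1 := fix_add (hM.2 0 0) (hM.2 1 1)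
    refine ⟨a * α * (M 0 0 + M 1 1) + a * β + b * α, a * α + b * β, ?_, ?_, ?_, ?_⟩
    · simp only [map_add, map_mul, ha, hb, hα, hβ, hM.2]
    · simp only [map_add, map_mul, ha, hb, hα, hβ]
    · rw [pow_succ, e1]
      simp only [Matrix.add_mul, Matrix.mul_add, Matrix.smul_mul, Matrix.mul_smul, Matrix.mul_one, Matrix.one_mul,
        sq_eq M hM.1, smul_add, smul_smul, add_smul]
      module
    · have h2 : (2 : F) = 0 := CharTwo.two_eq_zero
      rw [pow_succ, e2]
      linear_combination (a * α) * hz - (a * α * (M 0 0 + M 1 1) * z + a * α) * h2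

omit C in
theorem lin_inj {M : Matrix (Fin 2) (Fin 2) F} (hc : M 1 0 ≠ 0) {a b a' b' : F}
    (h : a • M + b • (1 : Matrix (Fin 2) (Fin 2) F) = a' • M + b' • 1) : a = a' ∧ b = b' := by
  have h10 := congrArg (fun X => X 1 0) h
  simp [hc] at h10
  subst h10
  have h00 := congrArg (fun X => X 0 0) h
  simp at h00
  exact ⟨rfl, h00⟩

omit C in
/-- What commutes with a matrix not fixing infinity is a combination of it and `1`. -/
theorem eq_lin_of_comm {M N : Matrix (Fin 2) (Fin 2) F} (hc : M 1 0 ≠ 0) (h : N * M = M * N) :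
    N = (N 1 0 / M 1 0) • M + (N 0 0 + N 1 0 / M 1 0 * M 0 0) • 1 := by
  have h2 : (2 : F) = 0 := CharTwo.two_eq_zero
  have e00 := congrArg (fun X => X 0 0) h
  have e10 := congrArg (fun X => X 1 0) h
  simp [Matrix.mul_apply, Fin.sum_univ_two] at e00 e10
  ext i j
  fin_cases i <;> fin_cases j <;> simp
  · linear_combination -(N 1 0 / M 1 0 * M 0 0) * h2
  · field_simp
    linear_combination e00
  · field_simp
  · field_simp
    linear_combination e10 - (N 1 0 * M 0 0) * h2

/-- An element of order `p` of the multiplicative group, `p ∣ q + 1`. -/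
theorem exists_order {p : ℕ} [Fact p.Prime] (hp : p ∣ 2 ^ C.f + 1) :
    ∃ ξ : F, ξ ≠ 1 ∧ ξ ^ p = 1 ∧ C.bar ξ = ξ⁻¹ ∧ C.bar ξ ≠ ξ := by
  obtain ⟨u, hu⟩ := exists_prime_orderOf_dvd_card' (G := Fˣ) p (by
    rw [Nat.card_units, C.card]
    refine hp.trans ?_
    have h1 : 1 ≤ 2 ^ C.f := Nat.one_le_two_pow
    exact ⟨2 ^ C.f - 1, by rw [← Nat.sq_sub_sq, one_pow]⟩)
  have hpp : (u : F) ^ p = 1 := by rw [← Units.val_pow_eq_pow_val, ← hu, pow_orderOf_eq_one, Units.val_one]
  have hne : (u : F) ≠ 1 := fun e => by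
    rw [show u = 1 from Units.ext e, orderOf_one] at hu
    exact (Fact.out : p.Prime).ne_one hu.symm
  have hbar : C.bar (u : F) = (u : F)⁻¹ := by
    refine eq_inv_of_mul_eq_one_left ?_
    obtain ⟨c, hc⟩ := hp
    rw [C.bar_apply, ← pow_succ, hc, pow_mul, hpp, one_pow]
  refine ⟨u, hne, hpp, hbar, fun e => hne ?_⟩
  rw [hbar] at e
  have h2 : (u : F) * u = 1 := by
    nth_rw 1 [← e]
    exact inv_mul_cancel₀ u.ne_zero
  have h3 : ((u : F) + 1) * (u + 1) = 0 := by
    linear_combination h2 + ((u : F) + 1) * (CharTwo.two_eq_zero : (2 : F) = 0)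
  exact CharTwo.add_eq_zero.1 (mul_self_eq_zero.1 h3)

end CfsgLib.Bender.Suzuki
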