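import Cfsg.Agent.Lib.Bender.Suzuki.SmallGen
import Cfsg.Agent.Lib.Bender.Suzuki.Recognise
import Cfsg.Agent.Lib.Bender.Suzuki.Eig
import Cfsg.Agent.Lib.RootSub.OddPartner.Omega
import Cfsg.Agent.Lib.PushUpTwo.SLFacts
import Cfsg.Agent.Lib.SzUnique.Main

/-!
# Suzuki's theorem: `|Q| = q, q ^ 2`, and `r ∈ E` for `|Q| = q ^ 3`

For `|Q| = q` the group `⟨Q, t⟩` is `L₂(q)`, for `|Q| = q ^ 2` it is a Suzuki group.
-/

set_option autoImplicit false
set_option linter.style.haveILetI false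
set_option linter.unusedSectionVars false

namespace CfsgLib.RootInvol.OddPartner.Setting

variable {X : Type*} [Group X] {Q E K : Subgroup X} {t s r : X} (S : Setting Q E K t s r)
include S

/-- An element of order three of `K` puts `r` into `E`. -/
theorem r_mem_of_omega {ω : X} (hω : ω ∈ K) (hω1 : ω ≠ 1) (hω3 : ω * ω * ω = 1) : r ∈ E := by
  by_contra hr
  have hω2 := mul_mem hω hω
  have hr1 := S.cj_memQ hω S.r_mem
  have hr2 := S.cj_memQ hω2 S.r_mem
  have hω3' : ω * (ω * ω) = 1 := by rw [← mul_assoc, hω3]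
  refine S.no_pair hr hω hω2 ?_ ?_
  · have hs1 := S.cj_memE hω S.s_mem
    have hs2 := S.cj_memE hω2 S.s_mem
    by_cases hz : s * (cj ω s * cj (ω * ω) s) = 1
    · rw [eq_inv_of_mul_eq_one_right hz, S.s_inv]
    · obtain ⟨a, ⟨ha, hae⟩, -⟩ := S.reg _ (mul_mem S.s_mem (mul_mem hs1 hs2)) hz
      refine absurd ?_ hω1
      have h1 : cj (ω * a) s = cj a s := by
        rw [← cj_cj, show cj a s = s * (cj ω s * cj (ω * ω) s) from hae, cj_mul, cj_mul, cj_cj, cj_cj, hω3',
          cj_one, ← mul_assoc]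
        exact ((S.e_comm s S.s_mem _ (S.le (mul_mem hs1 hs2))).eq).symm
      simpa using S.cj_s_inj (mul_mem hω ha) ha h1
  · set w := r * (cj ω r * cj (ω * ω) r) with hw
    have hwQ : w ∈ Q := mul_mem S.r_mem (mul_mem hr1 hr2)
    have hwE : w ∈ E := by
      by_contra hwE
      refine hω1 (S.eqv_fpf hω hwQ ?_ hwE)
      rw [hw, cj_mul, cj_mul, cj_cj, cj_cj, hω3', cj_one, ← mul_assoc]
      exact S.eqv_comm (mul_mem hr1 hr2) S.r_mem
    have h1 := S.eqv_mul (inv_mem S.r_mem) (eqv_refl r⁻¹) (eqv_one.2 hwE)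
    rw [hw, inv_mul_cancel_left, mul_one] at h1
    exact eqv_trans (S.eqv_mul hr1 (eqv_refl _) (S.eqv_inv hr2)) (eqv_trans h1 (S.eqv_inv S.r_mem))

end CfsgLib.RootInvol.OddPartner.Setting

namespace CfsgLib.Bender.Suzuki

open MulAction CfsgLib.RootSub.Setup CfsgLib.RootInvol.OddPartner
open scoped MatrixGroups

variable {G Ω : Type*} [Group G] [Finite G] [MulAction G Ω] {a : Ω} {t : G} {Q E K : Subgroup G} {s r : G}

namespace Setting

variable (S : Setting a t Q E K s r)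
include S

theorem exists_f : ∃ f, 2 ≤ f ∧ Nat.card E = 2 ^ f := by
  haveI : Fact (Nat.Prime 2) := ⟨Nat.prime_two⟩
  obtain ⟨f, hf⟩ := IsPGroup.iff_card.1 (S.two.to_le S.base.le)
  refine ⟨f, ?_, hf⟩
  have := S.four
  rcases f with _ | _ | f <;> simp_all

/-- The linear case does not occur with `|Q| = q ^ 2`: there is no such Steiner system. -/
theorem not_r_mem_of_sq (hQ : Nat.card Q = Nat.card E ^ 2) : r ∉ E := by
  intro hr
  haveI := finite_points S.rank
  obtain ⟨f, h2, hf⟩ := S.exists_f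
  have h := S.count_pairs hr Set.univ fun _ _ _ _ _ _ _ _ _ => Set.subset_univ _
  rw [Set.ncard_univ, card_points S.rank, hQ, Nat.add_sub_cancel, hf, ← pow_mul] at h
  have hd : 2 ^ f + 1 ∣ (2 ^ (f * 2) + 1) * 2 ^ (f * 2) := by
    rw [h]; exact dvd_mul_of_dvd_right (dvd_mul_right _ _) _
  have hco : Nat.Coprime (2 ^ f + 1) (2 ^ (f * 2)) := by
    refine Nat.Coprime.pow_right _ (Nat.coprime_two_right.2 ?_)
    exact (Nat.even_pow.2 ⟨even_two, by omega⟩).add_one
  exact not_dvd_two_pow_add_one (j := f * 2) (by omega) (by omega) (hco.dvd_of_dvd_mul_right hd)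

theorem card_invol :
    Nat.card (Cfsg.involutionsIn (stabilizer G a : Set G)) = Nat.card E - 1 := by
  classical
  have e : Cfsg.involutionsIn (stabilizer G a : Set G) ≃ {e : E // e ≠ 1} :=
    { toFun := fun x => ⟨⟨x.1, (S.mem_E _).2 ⟨mem_Q_of_sq S.rank x.2.1 x.2.2.2, x.2.2.2⟩⟩,
        fun h => x.2.2.1 (congrArg Subtype.val h)⟩
      invFun := fun e => ⟨e.1.1, S.rank.le (S.base.le e.1.2), fun h => e.2 (Subtype.ext h),
        S.base.e_sq _ e.1.2⟩
      left_inv := fun x => rfl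
      right_inv := fun e => rfl }
  letI := Fintype.ofFinite E
  rw [Nat.card_congr e, Nat.card_eq_fintype_card, Nat.card_eq_fintype_card, Fintype.card_subtype_compl,
    Fintype.card_subtype_eq]

/-- For `|Q| = q ^ 3` the linear case occurs. -/
theorem cubic (hQ : Nat.card Q = Nat.card E ^ 3) : Cubic a t Q E K s r := by
  refine ⟨S, hQ, ?_⟩
  by_contra hr
  haveI : Fact (Nat.Prime 3) := ⟨Nat.prime_three⟩
  obtain ⟨f, h2, hf⟩ := S.exists_f
  have hto : orderOf t = 2 := orderOf_eq_prime (by rw [pow_two, S.rank.mul_self]) S.rank.ne_one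
  have hsH : s ∈ stabilizer G a := S.rank.le S.base.s_memQ
  have hso : orderOf s = 2 := orderOf_eq_prime (by rw [pow_two, S.base.e_sq s S.base.s_mem]) S.base.s_ne
  have he : orderOf (r * r) = 2 := orderOf_eq_prime
    (by rw [pow_two, S.base.e_sq _ (S.base.q_sq r S.base.r_mem)]) fun h => hr (S.base.q_invol r S.base.r_mem h)
  have h3 := CfsgLib.RootInvol.OddPartner.three_dvd (exists_data S.rank S.faithful S.pair) hto S.rank.not_mem
    hsH hso S.base.r_mem S.base.rel (S.base.e_comm s S.base.s_mem r S.base.r_mem) he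
    (β := f) (by rw [MulAction.stabilizer_quotient, S.card_invol, hf]) (by rw [hQ, hf])
  have hK : Nat.card K = 2 ^ f - 1 := by
    have := S.base.card_E
    omega
  obtain ⟨ω, hω⟩ := exists_prime_orderOf_dvd_card' (G := K) 3 (hK ▸ h3)
  have h3' : (ω : G) ^ 3 = 1 := by
    rw [← hω, ← Subgroup.orderOf_coe]
    exact pow_orderOf_eq_one _
  refine hr (S.base.r_mem_of_omega ω.2 (fun h => ?_) (by rwa [pow_succ, pow_two] at h3'))
  rw [show ω = 1 from Subtype.ext h, orderOf_one] at hω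
  omega

/-- `|Q| = q`: the group `⟨Q, t⟩` is `L₂(q)`. -/
theorem psl_of_card (hQ : Nat.card Q = Nat.card E) :
    ∃ (F : Type) (_ : Field F) (_ : Fintype F), (∃ n : ℕ, 2 ≤ n ∧ Fintype.card F = 2 ^ n) ∧
      Nonempty (qtGroup t Q ≃* Matrix.ProjectiveSpecialLinearGroup (Fin 2) F) := by
  classical
  obtain rfl : E = Q := Subgroup.eq_of_le_of_card_ge S.base.le hQ.le
  have hr : r ∈ E := S.base.r_mem
  obtain ⟨F, i₁, i₂, i₃, C, -⟩ := S.exists_efield
  let F₀ : Subfield F := RingHom.eqLocusField C.bar (RingHom.id F)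
  letI : Fintype F₀ := Fintype.ofFinite F₀
  haveI : CharP F₀ 2 := F₀.subtype.charP F₀.subtype.injective 2
  have hF : Fintype.card F₀ = 2 ^ C.f := by
    rw [← Nat.card_eq_fintype_card, ← card_fixed C]
    rfl
  have hin : ∀ g : SL(2, F₀), C.InSL ((g : Matrix (Fin 2) (Fin 2) F₀).map F₀.subtype) := fun g => by
    refine ⟨?_, fun i j => ((g : Matrix (Fin 2) (Fin 2) F₀) i j).2⟩
    have h := RingHom.map_det F₀.subtype (g : Matrix (Fin 2) (Fin 2) F₀)
    rw [Matrix.SpecialLinearGroup.det_coe, map_one] at h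
    exact h.symm
  let φ : SL(2, F₀) →* qtGroup t E := MonoidHom.mk'
    (fun g => ⟨C.toG t ((g : Matrix (Fin 2) (Fin 2) F₀).map F₀.subtype), S.toG_mem C hr (hin g)⟩)
    fun g g' => Subtype.ext (by
      show C.toG t ((g * g' : SL(2, F₀)).1.map F₀.subtype) = _
      rw [Matrix.SpecialLinearGroup.coe_mul, Matrix.map_mul, S.toG_mul C hr (hin g) (hin g')]
      rfl)
  have hφ : Function.Bijective φ := by
    refine ⟨fun g g' h => Subtype.ext (Matrix.map_injective F₀.subtype.injective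
      (S.toG_inj C hr (hin g) (hin g') (congrArg Subtype.val h))), fun x => ?_⟩
    obtain ⟨M, hM, hx⟩ := S.exists_mat C hr x.2
    let N : Matrix (Fin 2) (Fin 2) F₀ := fun i j => ⟨M i j, hM.2 i j⟩
    have hN : N.map F₀.subtype = M := rfl
    refine ⟨⟨N, F₀.subtype.injective ?_⟩, Subtype.ext hx⟩
    rw [RingHom.map_det, map_one]
    exact hM.1
  exact ⟨F₀, inferInstance, inferInstance, ⟨C.f, C.two_le, hF⟩,
    ⟨(MulEquiv.ofBijective φ hφ).symm.trans (MulEquiv.ofBijective _ CfsgLib.PushUpTwo.toPSL_bijective)⟩⟩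

theorem big_small (h : Nat.card Q = Nat.card E ∨ Nat.card Q = Nat.card E ^ 2) :
    ∀ x ∈ qtGroup t Q, Big Q K t x := by
  refine S.base.big_of_closed (fun k hk y hy => S.base.cj_memQ hk hy) fun y hy hy1 => ?_
  obtain ⟨g, h', f, hT⟩ : ∃ g h f, Tri Q K t y g h f := by
    rcases h with h | h
    · have hyE : y ∈ E := (Subgroup.eq_of_le_of_card_ge S.base.le h.le) ▸ hy
      obtain ⟨k, ⟨hk, hke⟩, -⟩ := S.base.reg y hyE hy1
      exact ⟨_, _, _, (show cj k s = y from hke) ▸ S.base.tri_cj_s hk⟩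
    · exact S.base.cover (S.not_r_mem_of_sq h) h hy hy1
  exact ⟨g, h', f, hT.1, hT.2.2.1, hT⟩

/-- `|Q| = q ^ 2`: the group `⟨Q, t⟩` is a Suzuki group. -/
theorem suzuki_of_card (hQ : Nat.card Q = Nat.card E ^ 2) : Cfsg.Lie.IsoSuzuki (qtGroup t Q) := by
  classical
  have hbig := S.big_small (Or.inr hQ)
  haveI := finite_points S.rank
  letI : Fintype Ω := Fintype.ofFinite Ω
  haveI := S.simple_qt hbig
  have hL := S.rank_qt hbig
  have hcard : Nat.card (Q.subgroupOf (qtGroup t Q)) = Nat.card Q :=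
    Nat.card_congr (Subgroup.subgroupOfEquivOfLe S.Q_le_qt).toEquiv
  have P : CfsgLib.Char.FeitZ.Pt (qtGroup t Q) a ((⟨t, S.t_mem_qt⟩ : qtGroup t Q) • a) (Q.subgroupOf (qtGroup t Q)) :=
    ⟨S.zassenhaus_qt hbig, (ta_ne S.rank).symm, hL.le,
      by rw [hcard, ← Nat.card_eq_fintype_card, card_points S.rank],
      fun u hu hu1 c hc => by_contra fun hca => hu1 (eq_one_of_fix hL hu hca hc), hL.odd_card⟩
  refine CfsgLib.SzUnique.isoSuzuki_of_pt P (fun u => ?_) ?_
  · obtain ⟨k, hk⟩ := S.two ⟨((u : qtGroup t Q) : G), u.2⟩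
    exact ⟨k, Subtype.ext (Subtype.ext (congrArg (fun z : Q => (z : G)) hk))⟩
  · by_contra hna
    push Not at hna
    have hcomm : ∀ x ∈ Q, ∀ y ∈ Q, x * y = y * x := fun x hx y hy =>
      congrArg (fun z : Q.subgroupOf (qtGroup t Q) => ((z : qtGroup t Q) : G))
        (hna ⟨⟨x, S.Q_le_qt hx⟩, hx⟩ ⟨⟨y, S.Q_le_qt hy⟩, hy⟩)
    have h1 := (exists_data S.rank S.faithful S.pair).sq_eq_one_of_comm hcomm
    have h2 : Nat.card {x : Q // x * x = 1} = Nat.card E := Nat.card_congr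
      { toFun := fun x => ⟨(x.1 : G), (S.mem_E _).2 ⟨x.1.2, congrArg Subtype.val x.2⟩⟩
        invFun := fun e => ⟨⟨e.1, S.base.le e.2⟩, Subtype.ext (S.base.e_sq _ e.2)⟩
        left_inv := fun _ => rfl
        right_inv := fun _ => rfl }
    rw [h2, hQ] at h1
    have := S.four
    nlinarith

/-- **The small cases.** -/
theorem small_cases (h : Nat.card Q = Nat.card E ∨ Nat.card Q = Nat.card E ^ 2) :
    ∃ L : Subgroup G, L.Normal ∧ Odd L.index ∧
      ((∃ (F : Type) (_ : Field F) (_ : Fintype F), (∃ n : ℕ, 2 ≤ n ∧ Fintype.card F = 2 ^ n) ∧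
          Nonempty (L ≃* Matrix.ProjectiveSpecialLinearGroup (Fin 2) F)) ∨
        Cfsg.Lie.IsoSuzuki L) := by
  obtain ⟨hn, hi⟩ := normal_of_simple S.rank (S.simple_qt (S.big_small h))
  exact ⟨qtGroup t Q, hn, hi, h.imp S.psl_of_card S.suzuki_of_card⟩

end Setting

end CfsgLib.Bender.Suzuki
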