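import Cfsg.Agent.Lib.RootSub.OddPartner.Bruhat
import Cfsg.Prelude.Def_LieRecognition
import Mathlib.GroupTheory.PGroup
import Mathlib.GroupTheory.SpecificGroups.Cyclic

/-!
# Suzuki's theorem on split doubly transitive groups: the setting

`E` is `1` with the involutions of `Q`, `K` the elements of the two point stabiliser inverted by `t`,
`t s t = r⁻¹ t r`.  The lines are the images of `{a} ∪ E (t a)`.
-/

set_option autoImplicit false

namespace CfsgLib.Bender.Suzuki

open MulAction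
open scoped Pointwise

variable {G Ω : Type*} [Group G] [MulAction G Ω]

/-- The two-point stabiliser. -/
abbrev pairStab (a : Ω) (t : G) : Subgroup G := stabilizer G a ⊓ stabilizer G (t • a)

/-- The pointwise stabiliser of the base line. -/
abbrev lineKer (a : Ω) (t : G) (E : Subgroup G) : Subgroup G :=
  pairStab a t ⊓ Subgroup.centralizer (E : Set G)

/-- The group of the base line, a copy of `SL₂(q)`. -/
def baseGroup (t : G) (E : Subgroup G) : Subgroup G := Subgroup.closure ((E : Set G) ∪ {t})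

/-- The base line. -/
def baseLine (a : Ω) (t : G) (E : Subgroup G) : Set Ω := insert a ((fun e => e • t • a) '' (E : Set G))

/-- A line is an image of the base line. -/
def IsLine (a : Ω) (t : G) (E : Subgroup G) (Λ : Set Ω) : Prop := ∃ g : G, Λ = g • baseLine a t E

/-- `x` lies in the group of the line `Λ`. -/
def InLineGroup (a : Ω) (t : G) (E : Subgroup G) (x : G) (Λ : Set Ω) : Prop :=
  ∃ g : G, Λ = g • baseLine a t E ∧ g⁻¹ * x * g ∈ baseGroup t E

/-- The setting. -/
structure Setting (a : Ω) (t : G) (Q E K : Subgroup G) (s r : G) : Prop where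
  rank : Cfsg.IsRankOneSetup G Ω a t Q
  faithful : ∀ g : G, (∀ b : Ω, g • b = b) → g = 1
  pair : ∃ x y : G, x ≠ 1 ∧ y ≠ 1 ∧ x ≠ y ∧ x * x = 1 ∧ y * y = 1 ∧ x * y = y * x
  two : IsPGroup 2 Q
  mem_E : ∀ x, x ∈ E ↔ x ∈ Q ∧ x * x = 1
  mem_K : ∀ x, x ∈ K ↔ x ∈ Cfsg.invertedBy (pairStab a t) t
  base : CfsgLib.RootInvol.OddPartner.Setting Q E K t s r
  cyclic : IsCyclic K
  four : 4 ≤ Nat.card E

/-- The case of the unitary groups. -/
structure Cubic (a : Ω) (t : G) (Q E K : Subgroup G) (s r : G) : Prop extends Setting a t Q E K s r where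
  card_Q : Nat.card Q = Nat.card E ^ 3
  r_mem : r ∈ E

/-- Coordinates on `E` in the subfield of fixed points of `bar`. -/
structure EField (E K : Subgroup G) (s : G) (F : Type) [Field F] where
  /-- the degree -/
  f : ℕ
  two_le : 2 ≤ f
  card : Nat.card F = (2 ^ f) ^ 2
  card_E : Nat.card E = 2 ^ f
  /-- the conjugation -/
  bar : F →+* F
  bar_apply : ∀ x, bar x = x ^ 2 ^ f
  bar_bar : ∀ x, bar (bar x) = x
  /-- the coordinate -/
  eps : G → F
  eps_fix : ∀ e ∈ E, bar (eps e) = eps e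
  eps_mul : ∀ e ∈ E, ∀ e' ∈ E, eps (e * e') = eps e + eps e'
  eps_inj : Set.InjOn eps E
  eps_surj : ∀ x, bar x = x → ∃ e ∈ E, eps e = x
  eps_s : eps s = 1
  /-- the multiplier -/
  lam : G → F
  lam_fix : ∀ k ∈ K, bar (lam k) = lam k
  lam_ne : ∀ k ∈ K, lam k ≠ 0
  lam_mul : ∀ k ∈ K, ∀ k' ∈ K, lam (k * k') = lam k * lam k'
  lam_surj : ∀ x, bar x = x → x ≠ 0 → ∃ k ∈ K, lam k = x
  eps_conj : ∀ k ∈ K, ∀ e ∈ E, eps (k * e * k⁻¹) = lam k ^ 2 * eps e

/-- An element of prime order fixing the base line pointwise. -/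
structure Kernel (a : Ω) (t : G) (E : Subgroup G) (f p : ℕ) (w : G) : Prop where
  prime : p.Prime
  three_le : 3 ≤ p
  dvd : p ∣ 2 ^ f + 1
  irreducible : ∀ j, 0 < j → j < 2 * f → ¬ (2 ^ f - 1) * p ∣ 2 ^ j - 1
  primitive : f ≠ 3 → ∀ j, 0 < j → j < 2 * f → ¬ p ∣ 2 ^ j - 1
  mem : w ∈ lineKer a t E
  order : orderOf w = p

end CfsgLib.Bender.Suzuki
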