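import Cfsg.Agent.Lib.Bender.Suzuki.Lines

/-!
# Suzuki's theorem: coordinates off the base line

The group of the base line is regular off it; the eigenvector of the matrix attached to an element fixing
the base line pointwise turns this into coordinates.
-/

set_option autoImplicit false
set_option linter.style.haveILetI false
set_option linter.unusedSectionVars false

namespace CfsgLib.Bender.Suzuki

open MulAction CfsgLib.RootSub.Setup Matrix
open scoped Pointwise
open CfsgLib.Bender.Suzuki.Setting (det_eq inSL_mul inSL_up inSL_dg inSL_sw)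

variable {G Ω : Type*} [Group G] [Finite G] [MulAction G Ω] {a : Ω} {t : G} {Q E K : Subgroup G} {s r : G}
variable {F : Type} [Field F] [Finite F] [CharP F 2] (C : EField E K s F)

/-- The hermitian form of the coordinates. -/
def hForm (v : F × F) : F := v.1 * C.bar v.2 + C.bar v.1 * v.2

/-- The action on column vectors. -/
def app (M : Matrix (Fin 2) (Fin 2) F) (v : F × F) : F × F :=
  (M 0 0 * v.1 + M 0 1 * v.2, M 1 0 * v.1 + M 1 1 * v.2)

omit C in
theorem app_mul (M N : Matrix (Fin 2) (Fin 2) F) (v : F × F) : app (M * N) v = app M (app N v) := by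
  simp only [app, Matrix.mul_apply, Fin.sum_univ_two, Prod.mk.injEq]
  constructor <;> ring

omit C in
theorem app_one (v : F × F) : app (1 : Matrix (Fin 2) (Fin 2) F) v = v := by simp [app]

theorem hForm_app {M : Matrix (Fin 2) (Fin 2) F} (hM : C.InSL M) (v : F × F) :
    hForm C (app M v) = hForm C v := by
  have hd := det_eq C hM
  have h2 : (2 : F) = 0 := CharTwo.two_eq_zero
  simp only [hForm, app, map_add, map_mul, hM.2]
  linear_combination (v.1 * C.bar v.2 + C.bar v.1 * v.2) * hd +
    (M 0 0 * M 1 0 * v.1 * C.bar v.1 + M 0 1 * M 1 1 * v.2 * C.bar v.2) * h2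

namespace Setting

variable (S : Setting a t Q E K s r) (hr : r ∈ E)
include S hr

omit C in
theorem card_baseGroup {q : ℕ} (hq : Nat.card E = q) : q * (q - 1) + q * (q - 1) * q ≤ Nat.card (baseGroup t E) := by
  classical
  have hK : Nat.card K = q - 1 := by rw [← hq]; exact Nat.eq_sub_of_add_eq S.base.card_E
  let φ : (E × K) ⊕ (E × K × E) → baseGroup t E := Sum.elim
    (fun p => ⟨p.1 * p.2, mul_mem (Subgroup.subset_closure (Or.inl p.1.2)) (S.K_le hr p.2.2)⟩)
    (fun p => ⟨p.1 * p.2.1 * t * p.2.2, mul_mem (mul_mem (mul_mem (Subgroup.subset_closure (Or.inl p.1.2))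
      (S.K_le hr p.2.1.2)) (Subgroup.subset_closure (Or.inr rfl))) (Subgroup.subset_closure (Or.inl p.2.2.2))⟩)
  have h1 : ∀ (e : E) (k : K), ((e : G) * k) • a = a := fun e k => by
    rw [mul_smul, (S.K_fix k.2).1, S.fix_a_of_E e.2]
  have h2 : ∀ (e : E) (k : K) (e' : E), ((e : G) * k * t * e') • a = (e : G) • t • a := fun e k e' => by
    rw [mul_smul, mul_smul, mul_smul, S.fix_a_of_E e'.2, (S.K_fix k.2).2]
  have hne : ∀ e : E, (e : G) • t • a ≠ a := fun e h =>
    ta_ne S.rank (smul_left_cancel (e : G) (h.trans (S.fix_a_of_E e.2).symm))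
  have huniq : ∀ e e' : E, ∀ k k' : K, (e : G) * k = e' * k' → e = e' ∧ k = k' := by
    intro e e' k k' h
    have h3 : (e'.1⁻¹ * e.1) • (t • a) = t • a := by
      rw [show e'.1⁻¹ * e.1 = k'.1 * k.1⁻¹ by rw [eq_mul_inv_iff_mul_eq, mul_assoc, h, inv_mul_cancel_left],
        mul_smul, (S.K_fix (inv_mem k.2)).2, (S.K_fix k'.2).2]
    have h4 : e = e' := Subtype.ext (inv_mul_eq_one.1
      (S.eq_one_of_fix_o (S.base.le (mul_mem (inv_mem e'.2) e.2)) h3)).symm
    subst h4
    exact ⟨rfl, Subtype.ext (mul_left_cancel h)⟩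
  have hφ : Function.Injective φ := by
    rintro (⟨e, k⟩ | ⟨e, k, e'⟩) (⟨e₁, k₁⟩ | ⟨e₁, k₁, e₁'⟩) h <;> have h' := congrArg Subtype.val h <;>
      simp only [φ, Sum.elim_inl, Sum.elim_inr] at h'
    · obtain ⟨rfl, rfl⟩ := huniq _ _ _ _ h'
      rfl
    · exact absurd (by rw [← h2 e₁ k₁ e₁', ← h', h1]) (hne e₁)
    · exact absurd (by rw [← h2 e k e', h', h1]) (hne e)
    · have h5 : (e : G) • t • a = (e₁ : G) • t • a := by rw [← h2 e k e', h', h2]
      have h6 : e = e₁ := Subtype.ext (inv_mul_eq_one.1 (S.eq_one_of_fix_o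
        (S.base.le (mul_mem (inv_mem e₁.2) e.2)) (by rw [mul_smul, inv_smul_eq_iff, h5]))).symm
      subst h6
      have h7 : (k : G) * t * e' = k₁ * t * e₁' := by
        simpa only [mul_assoc, mul_right_inj] using h'
      have h8 : (e' : G) * (e₁' : G)⁻¹ = k.1 * k₁.1⁻¹ := by
        calc (e' : G) * (e₁' : G)⁻¹ = t⁻¹ * (k.1⁻¹ * (k.1 * t * e')) * (e₁' : G)⁻¹ := by group
          _ = t⁻¹ * (k.1⁻¹ * k₁.1) * t := by rw [h7]; group
          _ = (k.1⁻¹ * k₁.1)⁻¹ := by rw [t_inv S.rank, S.base.inv _ (mul_mem (inv_mem k.2) k₁.2)]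
          _ = k.1 * k₁.1⁻¹ := by
            rw [_root_.mul_inv_rev, inv_inv]
            exact (S.base.k_comm _ (inv_mem k₁.2) _ k.2).eq
      have h9 := S.eq_one_of_fix_o (S.base.le (mul_mem e'.2 (inv_mem e₁'.2))) (by
        rw [h8]; exact (S.K_fix (mul_mem k.2 (inv_mem k₁.2))).2)
      obtain rfl : e' = e₁' := Subtype.ext (mul_inv_eq_one.1 h9)
      obtain rfl : k = k₁ := Subtype.ext (mul_right_cancel (mul_right_cancel h7))
      rfl
  refine le_trans (le_of_eq ?_) (Nat.card_le_card_of_injective φ hφ)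
  rw [Nat.card_sum, Nat.card_prod, Nat.card_prod, Nat.card_prod, hq, hK]
  ring

omit C in
/-- The group of the base line is transitive off it. -/
theorem exists_smul_off (hQ : Nat.card Q = Nat.card E ^ 3) {P c : Ω} (hP : P ∉ baseLine a t E)
    (hc : c ∉ baseLine a t E) : ∃ x ∈ baseGroup t E, x • P = c := by
  classical
  haveI := finite_points S.rank
  have hmem : ∀ x ∈ baseGroup t E, ∀ d, d ∉ baseLine a t E → x • d ∉ baseLine a t E := fun x hx d hd h => hd (by
    rw [← S.group_line hr hx, Set.smul_mem_smul_set_iff] at h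
    exact h)
  let φ : baseGroup t E → ↥((baseLine a t E)ᶜ) := fun x => ⟨(x : G) • P, hmem x x.2 P hP⟩
  have hφ : Function.Injective φ := fun x y h => by
    have h' : (x : G) • P = (y : G) • P := congrArg Subtype.val h
    by_contra hne
    refine S.free hr (mul_mem (inv_mem y.2) x.2) (fun e => hne (Subtype.ext (inv_mul_eq_one.1 e).symm)) hP ?_
    rw [mul_smul, h', inv_smul_smul]
  have hcard : Nat.card ↥((baseLine a t E)ᶜ) ≤ Nat.card (baseGroup t E) := by
    refine le_trans (le_of_eq ?_) (S.card_baseGroup hr rfl)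
    rw [Nat.card_coe_set_eq, Set.ncard_compl, card_points S.rank, hQ,
      S.card_line ⟨1, (one_smul _ _).symm⟩]
    obtain ⟨q, hq⟩ : ∃ q, q + 1 = Nat.card E := ⟨Nat.card E - 1, by have := S.four; omega⟩
    rw [← hq, Nat.add_sub_cancel, show (q + 1) ^ 3 + 1 = (q + 1) * q + (q + 1) * q * (q + 1) + (q + 1 + 1) by ring,
      Nat.add_sub_cancel]
  obtain ⟨x, hx⟩ := (hφ.bijective_of_nat_card_le hcard).2 ⟨c, hc⟩
  exact ⟨x, x.2, congrArg Subtype.val hx⟩

end Setting

/-- **Coordinates off the base line.** -/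
theorem Cubic.exists_coords (S : Cubic a t Q E K s r) {p : ℕ} {w : G} (hw : Kernel a t E C.f p w) :
    Nonempty (Coords a t E K s C p w) := by
  classical
  haveI := finite_points S.rank
  haveI := Fact.mk hw.prime
  have hE : Nat.card E = 2 ^ C.f := C.card_E
  have hmem : ∀ x ∈ baseGroup t E, ∀ d, d ∉ baseLine a t E → x • d ∉ baseLine a t E := fun x hx d hd h => hd (by
    rw [← S.group_line S.r_mem hx, Set.smul_mem_smul_set_iff] at h
    exact h)
  -- a base point
  obtain ⟨P, hP⟩ : ∃ P, P ∉ baseLine a t E := by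
    by_contra! hh
    have h1 := S.toSetting.card_line (Λ := baseLine a t E) ⟨1, (one_smul _ _).symm⟩
    rw [show baseLine a t E = Set.univ from Set.eq_univ_of_forall hh, Set.ncard_univ, card_points S.rank,
      S.card_Q] at h1
    have h4 := S.four
    nlinarith [Nat.pow_le_pow_left h4 2]
  have hwL := hw.mem
  have hw1 : w ≠ 1 := fun e => hw.prime.ne_one (by rw [← hw.order, e, orderOf_one])
  have hmemw : ∀ d, d ∉ baseLine a t E → w • d ∉ baseLine a t E := fun d hd h => hd (by
    have h2 := S.toSetting.ker_fix hwL h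
    rw [smul_left_cancel w h2] at h
    exact h)
  obtain ⟨xw, hxw, hxwP⟩ := S.toSetting.exists_smul_off S.r_mem S.card_Q hP (hmemw P hP)
  have hcomm : ∀ x ∈ baseGroup t E, Commute w x := fun x hx => S.toSetting.ker_comm hwL hx
  have hpow : ∀ n : ℕ, xw ^ n • P = w ^ n • P := by
    intro n
    induction n with
    | zero => simp
    | succ n ih =>
      rw [pow_succ, mul_smul, hxwP, ← mul_smul, ((hcomm _ (pow_mem hxw n))).eq.symm, mul_smul, ih, ← mul_smul,
        ← pow_succ']
  have hxwp : xw ^ p = 1 := by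
    by_contra h1
    exact S.toSetting.free S.r_mem (pow_mem hxw p) h1 hP (by rw [hpow, ← hw.order, pow_orderOf_eq_one, one_smul])
  have hxw1 : xw ≠ 1 := fun e => S.toSetting.ker_free S.r_mem hE S.card_Q hwL hw1 hP (by rw [← hxwP, e, one_smul])
  have hxo : orderOf xw = p := orderOf_eq_prime hxwp hxw1
  obtain ⟨M, hM, hMx⟩ := S.toSetting.exists_mat C S.r_mem hxw
  obtain ⟨hMp, hM1⟩ := S.toSetting.mat_of_order S.r_mem hw.prime hxo C hM hMx
  obtain ⟨hc10, hT, z, hz, hzp, hz1, hzf⟩ := S.toSetting.exists_eig C S.r_mem hM hw.prime hw.dvd hMp hM1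
  have hzbar : C.bar z = z⁻¹ := by
    refine eq_inv_of_mul_eq_one_left ?_
    obtain ⟨m, hm⟩ := hw.dvd
    rw [C.bar_apply, ← pow_succ, hm, pow_mul, hzp, one_pow]
  set v₀ : F × F := (z + M 1 1, M 1 0) with hv₀
  have heig : app M v₀ = (z * v₀.1, z * v₀.2) := by
    have hd := det_eq C hM
    have h2 : (2 : F) = 0 := CharTwo.two_eq_zero
    simp only [app, hv₀, Prod.mk.injEq]
    constructor
    · linear_combination hd - hz + (M 0 0 * z + 1) * h2
    · linear_combination (M 1 0 * M 1 1) * h2
  have hc₀ne : hForm C v₀ ≠ 0 := by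
    simp only [hForm, hv₀, map_add, hM.2]
    intro e
    have h2 : (2 : F) = 0 := CharTwo.two_eq_zero
    have h3 : M 1 0 * (z + C.bar z) = 0 := by linear_combination e - (M 1 0 * M 1 1) * h2
    rcases mul_eq_zero.1 h3 with h4 | h4
    · exact hc10 h4
    · exact hzf (CharTwo.add_eq_zero.1 h4).symm
  -- the matrix of a point
  have hexP : ∀ c : Ω, ∃ N, C.InSL N ∧ (c ∉ baseLine a t E → C.toG t N • P = c) := by
    intro c
    by_cases hc : c ∈ baseLine a t E
    · exact ⟨1, inSL_one C, fun h => absurd hc h⟩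
    · obtain ⟨x, hx, hxc⟩ := S.toSetting.exists_smul_off S.r_mem S.card_Q hP hc
      obtain ⟨N, hN, hNx⟩ := S.toSetting.exists_mat C S.r_mem hx
      exact ⟨N, hN, fun _ => by rw [hNx]; exact hxc⟩
  choose N hN hNP using hexP
  set vec : Ω → F × F := fun c => app (N c) v₀ with hvec
  have hequiv : ∀ L, C.InSL L → ∀ c, c ∉ baseLine a t E → vec (C.toG t L • c) = app L (vec c) := by
    intro L hL c hc
    have hd := hmem _ (S.toSetting.toG_mem C S.r_mem hL) c hc
    have h1 : C.toG t (N (C.toG t L • c)) = C.toG t (L * N c) := by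
      by_contra hne
      refine S.toSetting.free S.r_mem (mul_mem (inv_mem (S.toSetting.toG_mem C S.r_mem (inSL_mul C hL (hN c))))
        (S.toSetting.toG_mem C S.r_mem (hN (C.toG t L • c)))) (fun e => hne (inv_mul_eq_one.1 e).symm) hP ?_
      rw [mul_smul, hNP _ hd, inv_smul_eq_iff, S.toSetting.toG_mul C S.r_mem hL (hN c), mul_smul, hNP c hc]
    show app (N (C.toG t L • c)) v₀ = app L (app (N c) v₀)
    rw [S.toSetting.toG_inj C S.r_mem (hN _) (inSL_mul C hL (hN c)) h1, app_mul]
  have hvw : ∀ c, c ∉ baseLine a t E → vec (w • c) = (z * (vec c).1, z * (vec c).2) := by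
    intro c hc
    have h0 : w • c = C.toG t (N c * M) • P := by
      rw [S.toSetting.toG_mul C S.r_mem (hN c) hM, mul_smul, hMx, hxwP, ← mul_smul,
        ← (hcomm _ (S.toSetting.toG_mem C S.r_mem (hN c))).eq, mul_smul, hNP c hc]
    have h1 : vec (w • c) = app (N c * M) v₀ := by
      rw [h0, hequiv _ (inSL_mul C (hN c) hM) P hP]
      congr 1
      show app (N P) v₀ = v₀
      have h2 : N P = 1 := S.toSetting.toG_inj C S.r_mem (hN P) (inSL_one C) (by
        rw [S.toSetting.toG_one C]
        by_contra hne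
        exact S.toSetting.free S.r_mem (S.toSetting.toG_mem C S.r_mem (hN P)) hne hP (hNP P hP))
      rw [h2, app_one]
    rw [h1, app_mul, heig]
    simp only [hvec, app, Prod.mk.injEq]
    constructor <;> ring
  have hB : ∀ c, c ∉ baseLine a t E → (vec c).2 ≠ 0 := by
    intro c _ e
    have h := hForm_app C (hN c) v₀
    rw [show app (N c) v₀ = vec c from rfl] at h
    refine hc₀ne (h ▸ ?_)
    simp [hForm, e]
  refine ⟨
    { θ := fun c => (vec c).1 / (vec c).2
      J := fun c => (vec c).2
      c₀ := hForm C v₀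
      c₀_fix := by simp only [hForm, map_add, map_mul, C.bar_bar]; ring
      c₀_ne := hc₀ne
      η := z
      η_order := orderOf_eq_prime hzp hz1
      η_bar := hzbar
      J_ne := hB
      herm := fun c hc => ?_
      θ_E := fun e he c hc => ?_
      θ_K := fun k hk c hc => ?_
      θ_t := fun c hc => ?_
      θ_w := fun c hc => ?_
      J_inj := fun c hc c' hc' h => ?_ }⟩
  · have h := hForm_app C (hN c) v₀
    rw [← h, show app (N c) v₀ = vec c from rfl]
    have hb2 : C.bar (vec c).2 ≠ 0 := (map_ne_zero C.bar).2 (hB c hc)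
    have hb := hB c hc
    simp only [hForm, map_div₀]
    field_simp
  · have h := hequiv _ (inSL_up C (C.eps_fix e he)) c hc
    rw [S.toSetting.toG_up C, el_eps he] at h
    have hb := hB c hc
    simp only [h, app, upM]
    simp
    field_simp
  · have hl := C.lam_fix k hk
    have hl0 := C.lam_ne k hk
    have h := hequiv _ (inSL_dg C hl hl0) c hc
    rw [S.toSetting.toG_dg C, S.toSetting.kl_lam C hk] at h
    have hb := hB c hc
    simp only [h, app, dgM]
    simp
    constructor <;> field_simp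
  · have h := hequiv _ (inSL_sw C) c hc
    rw [S.toSetting.toG_sw C] at h
    have hb := hB c hc
    simp only [h, app, swM]
    simp [hb]
  · have h := hvw c hc
    have hz0 : z ≠ 0 := fun e => by rw [e, zero_pow hw.prime.ne_zero] at hzp; exact zero_ne_one hzp
    simp only [h]
    exact ⟨mul_div_mul_left _ _ hz0, trivial⟩
  · have hb : (vec c).2 ≠ 0 := hB c hc
    have hb2 : C.bar (vec c).2 ≠ 0 := (map_ne_zero C.bar).2 hb
    replace h : (vec c).2 = (vec c').2 := h
    set d := ((vec c).1 + (vec c').1) / (vec c).2 with hd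
    have hdf : C.bar d = d := by
      have h1 := hForm_app C (hN c) v₀
      have h2 := hForm_app C (hN c') v₀
      rw [← h2, show app (N c) v₀ = vec c from rfl, show app (N c') v₀ = vec c' from rfl] at h1
      simp only [hForm] at h1
      rw [← h] at h1
      rw [hd, map_div₀, map_add, div_eq_div_iff hb2 hb]
      linear_combination h1 + (C.bar (vec c').1 * (vec c).2 - (vec c).1 * C.bar (vec c).2) *
        (CharTwo.two_eq_zero : (2 : F) = 0)
    refine ⟨C.el d, el_mem hdf, ?_⟩
    have he : vec (C.el d • c) = vec c' := by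
      rw [← S.toSetting.toG_up C, hequiv _ (inSL_up C hdf) c hc]
      refine Prod.ext ?_ ?_
      · have h2 : (2 : F) = 0 := CharTwo.two_eq_zero
        simp [app, upM, hd]
        field_simp
        linear_combination (vec c).1 * h2
      · simp [app, upM, h]
    set e := C.el d • c with hedef
    have hce : e ∉ baseLine a t E := hmem _ (Subgroup.subset_closure (Or.inl (el_mem hdf))) c hc
    obtain ⟨hI, hIN⟩ := inSL_inv C (hN e)
    set L := invM (N e) * N c' with hL
    have hLs : C.InSL L := inSL_mul C hI (hN c')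
    have hLv : app L v₀ = v₀ := by
      rw [hL, app_mul, show app (N c') v₀ = vec c' from rfl, ← he, show vec e = app (N e) v₀ from rfl, ← app_mul,
        hIN, app_one]
    have hL1 : L = 1 := by
      simp only [app, hv₀, Prod.mk.injEq] at hLv
      obtain ⟨r1, r2⟩ := hLv
      have h2 : (2 : F) = 0 := CharTwo.two_eq_zero
      obtain ⟨x1, y1⟩ := coe_fixed_eq C (a := L 0 0 + 1) (b := (L 0 0 + 1) * M 1 1 + L 0 1 * M 1 0 + 1)
        (fix_add (hLs.2 0 0) (map_one _))
        (fix_add (fix_add (fix_mul (fix_add (hLs.2 0 0) (map_one _)) (hM.2 1 1)) (fix_mul (hLs.2 0 1) (hM.2 1 0)))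
          (map_one _)) hzf (by linear_combination r1 + (z + M 1 1) * h2)
      obtain ⟨x2, y2⟩ := coe_fixed_eq C (a := L 1 0) (b := L 1 0 * M 1 1 + (L 1 1 + 1) * M 1 0 + 1)
        (hLs.2 1 0)
        (fix_add (fix_add (fix_mul (hLs.2 1 0) (hM.2 1 1)) (fix_mul (fix_add (hLs.2 1 1) (map_one _)) (hM.2 1 0)))
          (map_one _)) hzf (by linear_combination r2 + M 1 0 * h2)
      rw [x1, zero_mul, zero_add, add_eq_right] at y1
      rw [x2, zero_mul, zero_add, add_eq_right] at y2
      have z1 := (mul_eq_zero.1 y1).resolve_right hc10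
      have z2 := (mul_eq_zero.1 y2).resolve_right hc10
      ext i j
      fin_cases i <;> fin_cases j
      · simpa using CharTwo.add_eq_zero.1 x1
      · simpa using z1
      · simpa using x2
      · simpa using CharTwo.add_eq_zero.1 z2
    have hNN : N c' = N e := by
      calc N c' = N e * invM (N e) * N c' := by rw [mul_eq_one_comm.1 hIN, Matrix.one_mul]
        _ = N e := by rw [Matrix.mul_assoc, ← hL, hL1, Matrix.mul_one]
    rw [← hNP c' hc', hNN, hNP e hce]

end CfsgLib.Bender.Suzuki
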