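import Cfsg.Agent.Lib.Bender.Suzuki.QModel.Shift
import Cfsg.Agent.Lib.Bender.Suzuki.Mat

/-!
# Suzuki's theorem: the model of `Q` and the swap

`Q` gets the coordinates of the unital; the swap of `t` satisfies the hypotheses of `Unital.SwapData`, so
it is the unitary one.
-/

set_option autoImplicit false
set_option linter.style.haveILetI false
set_option linter.unusedSectionVars false

namespace CfsgLib.Bender.Suzuki

open MulAction CfsgLib.RootSub.Setup
open scoped Pointwise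

variable {G Ω : Type*} [Group G] [Finite G] [MulAction G Ω] {a : Ω} {t : G} {Q E K : Subgroup G} {s r : G}
  {F : Type} [Field F] [Finite F] [CharP F 2] (S : Cubic a t Q E K s r) {C : EField E K s F} {p : ℕ} {w : G}
  (hw : Kernel a t E C.f p w) (D : Coords a t E K s C p w)

namespace Cubic

include S

/-- The swap inside the base line. -/
theorem swap_el {e : F} (he : C.bar e = e) (he0 : e ≠ 0) :
    C.el e⁻¹ • t • a = t • C.el e • t • a := by
  have hk := kl_mem (C := C) (fix_inv (C := C) he) (inv_ne_zero he0)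
  have h1 := S.toSetting.t_el_t C S.r_mem he he0
  symm
  calc t • C.el e • t • a = (t * C.el e * t) • a := by rw [mul_smul, mul_smul]
    _ = C.el e⁻¹ • C.kl e⁻¹ • t • C.el e⁻¹ • a := by rw [h1]; simp only [mul_smul]
    _ = _ := by
      rw [fix_a S.rank (S.base.le (el_mem (C := C) (fix_inv (C := C) he))),
        (S.toSetting.K_fix hk).2]

include hw D

/-- The coordinates of `Q` from a class map and its shift. -/
theorem exists_qcoords {k₀ : G} (hk₀ : k₀ ∈ K) (hkgen : ∀ k ∈ K, ∃ i : ℕ, k₀ ^ i = k)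
    (hlam : ∀ i : ℕ, C.lam (k₀ ^ i) = C.lam k₀ ^ i) {U : G → F} {ζ : F}
    (h : ClassMap Q E k₀ w C.bar p U (C.lam k₀) ζ) {b : F → F} (hb : Shift (Q := Q) D k₀ U ζ b) :
    ∃ QC : QCoords Q E K s C p w, QC.ζ = ζ ∧ (∀ y ∈ Q, QC.φ (pairQ D U b y) = y) ∧
      ∀ z ∈ Unital.Pts C.bar, pairQ D U b (QC.φ z) = z := by
  classical
  set Ψ := pairQ D U b with hΨ
  have hΨE : ∀ e ∈ E, Ψ e = (0, C.eps e) := fun e he => by
    have h0 := (h.zero_iff e (S.base.le he)).2 he
    refine Prod.ext h0 ?_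
    show thetaQ D e + b (U e) = _
    rw [h0, hb.zero, add_zero, thetaQ_of_mem D he]
  have hinj : ∀ y ∈ Q, ∀ v ∈ Q, Ψ y = Ψ v → y = v := fun y hy v hv e => by
    obtain ⟨d, hd, rfl⟩ := S.classMap_diff h hy hv (congrArg Prod.fst e).symm
    have h1 := congrArg Prod.snd (hb.mul d (S.base.le hd) y hy)
    rw [← hΨ, ← e, hΨE d hd] at h1
    simp only [Unital.pm, map_zero, zero_mul, add_zero] at h1
    rw [right_eq_add] at h1
    rw [C.eps_inj hd (one_mem E) (h1.trans S.eps_one.symm), one_mul]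
  have hsurj : ∀ z ∈ Unital.Pts C.bar, ∃ y ∈ Q, Ψ y = z := fun z hz => by
    obtain ⟨y, hy, hyu⟩ := h.surj z.1
    have h1 : (Ψ y).2 + C.bar (Ψ y).2 = C.bar (Ψ y).1 * (Ψ y).1 := hb.pts y hy
    rw [show (Ψ y).1 = z.1 from hyu] at h1
    have hz' : z.2 + C.bar z.2 = C.bar z.1 * z.1 := hz
    obtain ⟨e, he, hee⟩ := C.eps_surj (z.2 + (Ψ y).2) (by
      rw [map_add]
      refine CharTwo.add_eq_zero.1 ?_
      linear_combination (norm := (ring_nf; simp [CharTwo.two_eq_zero])) hz' + h1)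
    refine ⟨e * y, mul_mem (S.base.le he) hy, ?_⟩
    rw [hΨ, hb.mul e (S.base.le he) y hy, ← hΨ, hΨE e he, hee]
    refine Prod.ext ?_ ?_
    · show 0 + (Ψ y).1 = z.1
      rw [zero_add]; exact hyu
    · show z.2 + (Ψ y).2 + (Ψ y).2 + C.bar 0 * _ = z.2
      rw [map_zero, zero_mul, add_zero, add_assoc, CharTwo.add_self_eq_zero, add_zero]
  choose φ₀ hφ₀ hφ₀' using hsurj
  let φ : F × F → G := fun z => if hz : z ∈ Unital.Pts C.bar then φ₀ z hz else 1
  have hφQ : ∀ z ∈ Unital.Pts C.bar, φ z ∈ Q := fun z hz => by simp only [φ, dif_pos hz]; exact hφ₀ z hz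
  have hφ : ∀ z ∈ Unital.Pts C.bar, Ψ (φ z) = z := fun z hz => by simp only [φ, dif_pos hz]; exact hφ₀' z hz
  have hφΨ : ∀ y ∈ Q, φ (Ψ y) = y := fun y hy => hinj _ (hφQ _ (hb.pts y hy)) y hy (hφ _ (hb.pts y hy))
  refine ⟨
    { φ := φ
      mem := hφQ
      inj := fun z hz z' hz' e => by rw [← hφ z hz, ← hφ z' hz', e]
      surj := fun y hy => ⟨Ψ y, hb.pts y hy, hφΨ y hy⟩
      mul := fun z hz z' hz' => by
        have h1 := hb.mul _ (hφQ z hz) _ (hφQ z' hz')
        rw [← hΨ, hφ z hz, hφ z' hz'] at h1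
        rw [← h1]
        exact hφΨ _ (mul_mem (hφQ z hz) (hφQ z' hz'))
      phi_E := fun e he => by rw [← hΨE e he]; exact hφΨ e (S.base.le he)
      conj_K := ?_
      ζ := ζ
      ζ_order := h.ζ_order
      ζ_bar := h.ζ_bar
      conj_w := ?_ }, rfl, hφΨ, hφ⟩
  · intro k hk z hz
    obtain ⟨i, rfl⟩ := hkgen k hk
    obtain ⟨h1, h2, -, h3⟩ := S.classMap_iter hw D hk₀ h (hφQ z hz) i 0
    simp only [pow_zero, mul_one] at h1 h2 h3
    rw [← hφΨ _ h1]
    congr 1
    show (U _, thetaQ D _ + b (U _)) = _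
    rw [h2, h3, hb.real, hlam]
    conv_rhs => rw [← hφ z hz]
    show _ = (C.lam k₀ ^ i * U (φ z), (C.lam k₀ ^ i) ^ 2 * (thetaQ D (φ z) + b (U (φ z))))
    rw [mul_add]
  · intro z hz
    have h1 : w * φ z * w⁻¹ ∈ Q := S.rank.conj_mem w hw.mem.1.1 _ (hφQ z hz)
    rw [← hφΨ _ h1]
    congr 1
    show (U _, thetaQ D _ + b (U _)) = _
    rw [h.conj_w _ (hφQ z hz), (S.conjW D hw (hφQ z hz)).1, hb.inv]
    conv_rhs => rw [← hφ z hz]
    rfl

/-- **The model of `Q`: the swap is the unitary one.** -/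
theorem exists_unital : ∃ QC : QCoords Q E K s C p w, IsUnitalAction a t C.bar QC.φ := by
  classical
  obtain ⟨k₀, hk₀, hord, hk₀n, hkgen, hlam, hlgen⟩ := S.exists_gen (C := C)
  rcases S.exists_classMap hw D hk₀ hord hk₀n hlgen with ⟨U, ζ, h, hsq⟩ | ⟨U, ξ, ζ, h, hf, hp, hξ, hξf⟩
  swap
  · exact (S.false_of_weight hw D hk₀ hord h hf hp hξ hξf).elim
  obtain ⟨b, hb⟩ := S.exists_shift hw D hk₀ hord h hsq
  obtain ⟨QC, hζ, hφΨ, hΨφ⟩ := S.exists_qcoords hw D hk₀ hkgen hlam h hb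
  refine ⟨QC, ?_⟩
  set φ := QC.φ
  set Ψ := pairQ D U b with hΨ
  have hΨ0 : Ψ 1 = 0 := by
    have h0 := (h.zero_iff 1 (one_mem Q)).2 (one_mem E)
    refine Prod.ext h0 ?_
    show thetaQ D 1 + b (U 1) = 0
    rw [h0, hb.zero, add_zero, thetaQ_of_mem D (one_mem E), S.eps_one]
  have hφne : ∀ z ∈ Unital.Pts C.bar, z ≠ 0 → φ z ≠ 1 := fun z hz hz0 e => hz0 (by
    rw [← hΨφ z hz, e, hΨ0])
  have hE : ∀ z ∈ Unital.Pts C.bar, z.1 ≠ 0 → φ z ∉ E := fun z hz hu hh => hu (by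
    conv_lhs => rw [← hΨφ z hz]
    exact (h.zero_iff _ (QC.mem z hz)).2 hh)
  have hUne : ∀ y ∈ Q, y ∉ E → U y ≠ 0 := fun y hy hyE e => hyE ((h.zero_iff y hy).1 e)
  -- the swap
  have hsw : ∀ y ∈ Q, y ≠ 1 → ∃ g ∈ Q, g ≠ 1 ∧ g • t • a = t • y • t • a := by
    intro y hy hy1
    have hne : t • y • t • a ≠ a := fun e => hy1 (eq_one_of_fix S.rank hy (ta_ne S.rank)
      (show y • t • a = t • a by rw [← smul_left_cancel_iff t, e, t_t S.rank]))
    obtain ⟨g, hg, hgp⟩ := exists_Q S.rank hne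
    refine ⟨g, hg, fun e => ta_ne S.rank ?_, hgp⟩
    have h1 : t • t • a = t • t • y • t • a := by rw [← hgp, e, one_smul]
    rw [t_t S.rank, t_t S.rank] at h1
    refine smul_left_cancel y ?_
    rw [← h1, fix_a S.rank hy]
  let sw : G → G := fun y => if hy : y ∈ Q ∧ y ≠ 1 then (hsw y hy.1 hy.2).choose else 1
  have hswP : ∀ y ∈ Q, y ≠ 1 → sw y ∈ Q ∧ sw y ≠ 1 ∧ sw y • t • a = t • y • t • a := fun y hy hy1 => by
    simp only [sw, dif_pos (And.intro hy hy1)]
    exact (hsw y hy hy1).choose_spec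
  have hswE : ∀ y ∈ Q, y ∉ E → sw y ∉ E := fun y hy hyE => by
    have hy1 : y ≠ 1 := fun e => hyE (e ▸ one_mem E)
    obtain ⟨g, hg, hgE, hgp⟩ := S.exists_swap hy hyE
    obtain ⟨h1, -, h3⟩ := hswP y hy hy1
    rw [S.eq_of_point h1 hg (h3.trans hgp.symm)]
    exact hgE
  have hswU : ∀ y ∈ Q, y ≠ 1 → ∀ g ∈ Q, g • t • a = t • y • t • a → sw y = g := fun y hy hy1 g hg hgp => by
    obtain ⟨h1, -, h3⟩ := hswP y hy hy1
    exact S.eq_of_point h1 hg (h3.trans hgp.symm)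
  -- representatives and the automorphy factor
  choose Y hYQ hY using h.surj
  have hYE : ∀ u, u ≠ 0 → Y u ∉ E := fun u hu hh => hu (by rw [← hY u, (h.zero_iff _ (hYQ u)).2 hh])
  have hJU : ∀ y ∈ Q, y ∉ E → jQ D y = jQ D (Y (U y)) := fun y hy hyE => by
    obtain ⟨e, he, hye⟩ := S.classMap_diff h (hYQ (U y)) hy (hY (U y)).symm
    conv_lhs => rw [hye]
    exact S.jQ_mul D he (hYQ _) (hYE _ (hUne y hy hyE))
  have hηm : ∃ m : ℕ, ζ ^ m = D.η := by
    haveI : NeZero p := ⟨hw.prime.ne_zero⟩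
    have hprim : IsPrimitiveRoot ζ p := by rw [← h.ζ_order]; exact IsPrimitiveRoot.orderOf ζ
    obtain ⟨m, -, hm⟩ := hprim.eq_pow_of_pow_eq_one
      (show D.η ^ p = 1 by have h1 := pow_orderOf_eq_one D.η; rwa [D.η_order] at h1)
    exact ⟨m, hm⟩
  obtain ⟨m, hm⟩ := hηm
  have hnontriv : ∃ x, C.bar x ≠ x := ⟨ζ, fun e => by
    have h0 : ζ ≠ 0 := fun e0 => by
      have h1 := pow_orderOf_eq_one ζ
      rw [h.ζ_order, e0, zero_pow hw.prime.ne_zero] at h1
      exact zero_ne_one h1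
    have h1 : ζ = 1 := SuzukiOne.eq_one_of_sq (by
      nth_rewrite 1 [← e]
      rw [h.ζ_bar, inv_mul_cancel₀ h0])
    exact hw.prime.ne_one (by rw [← h.ζ_order, h1, orderOf_one])⟩
  have hθ : ∀ z ∈ Unital.Pts C.bar, thetaQ D (φ z) = z.2 + b z.1 := fun z hz => by
    conv_rhs => rw [← hΨφ z hz]
    show _ = thetaQ D (φ z) + b (U (φ z)) + b (U (φ z))
    rw [CharTwo.add_cancel_right]
  have hU : ∀ z ∈ Unital.Pts C.bar, U (φ z) = z.1 := fun z hz => congrArg Prod.fst (hΨφ z hz)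
  let SD : Unital.SwapData C.bar p :=
    { bar_bar := C.bar_bar
      nontriv := hnontriv
      prime := hw.prime
      three_le := hw.three_le
      ζ := ζ
      ζ_order := h.ζ_order
      ζ_bar := h.ζ_bar
      T := fun z => Ψ (sw (φ z))
      T_mem := fun z hz hz0 => by
        obtain ⟨h1, h2, -⟩ := hswP _ (QC.mem z hz) (hφne z hz hz0)
        refine ⟨hb.pts _ h1, fun e => h2 ?_⟩
        exact ((hφΨ _ h1).symm.trans ((congrArg φ (e.trans hΨ0.symm)).trans (hφΨ 1 (one_mem Q))))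
      T_E := ?_
      T_off := fun z hz hu => hUne _ (hswP _ (QC.mem z hz) (hφne z hz fun e => hu (by rw [e]; rfl))).1
        (hswE _ (QC.mem z hz) (hE z hz hu))
      b := b
      b_real := fun x hx hx0 u => by
        obtain ⟨i, rfl⟩ := hlgen x hx hx0
        exact hb.real i u
      b_zeta := hb.inv
      J := fun u => jQ D (Y u)
      J_ne := fun u hu => S.jQ_ne D (hYQ u) (hYE u hu)
      J_inj := fun u u' hu hu' e => by
        obtain ⟨d, hd, hde⟩ := S.jQ_inj D (hYQ u) (hYE u hu) (hYQ u') (hYE u' hu') e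
        rw [← hY u', hde, h.mul d (S.base.le hd) _ (hYQ u), (h.zero_iff d (S.base.le hd)).2 hd, zero_add, hY]
      J_real := fun x hx hx0 u hu => by
        obtain ⟨i, rfl⟩ := hlgen x hx hx0
        obtain ⟨h1, h2, h3, -⟩ := S.classMap_iter hw D hk₀ h (hYQ u) i 0
        obtain ⟨h4, h5⟩ := h3 (hYE u hu)
        simp only [pow_zero, mul_one, hY] at h1 h2 h4 h5
        show jQ D (Y _) = _
        rw [← h2, ← hJU _ h1 h4, h5]
        ring
      m := m
      J_zeta := fun u hu => by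
        obtain ⟨h1, h2, h3, -⟩ := S.classMap_iter hw D hk₀ h (hYQ u) 0 1
        obtain ⟨h4, h5⟩ := h3 (hYE u hu)
        simp only [pow_zero, pow_one, one_mul, hY] at h1 h2 h4 h5
        show jQ D (Y _) = _
        rw [← h2, ← hJU _ h1 h4, h5, hm, div_one]
      c₀ := D.c₀
      c₀_ne := D.c₀_ne
      c₀_fix := D.c₀_fix
      herm := fun z hz hu => by
        rw [← hθ z hz, ← hU z hz, ← hJU _ (QC.mem z hz) (hE z hz hu)]
        exact S.trace D (QC.mem z hz) (hE z hz hu)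
      T_θ := fun z hz hu => by
        have hy := QC.mem z hz
        have hyE := hE z hz hu
        obtain ⟨h1, -, h3⟩ := hswP _ hy (hφne z hz fun e => hu (by rw [e]; rfl))
        have h4 := hswE _ hy hyE
        obtain ⟨h5, h6⟩ := S.coords_swap D hy hyE h4 h3
        rw [← hθ z hz, ← hU z hz, ← hJU _ hy hyE]
        refine ⟨?_, ?_⟩
        · show thetaQ D (sw (φ z)) + b (U (sw (φ z))) + b (U (sw (φ z))) = _
          rw [CharTwo.add_cancel_right, h5]
        · show jQ D (Y (U (sw (φ z)))) = _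
          rw [← hJU _ h1 h4, h6]
      key := ?_ }
  · intro z hz hz0
    obtain ⟨h1, -, h3⟩ := hswP _ (QC.mem z hz) (hφne z hz hz0)
    have h4 : φ (Unital.swap z) = sw (φ z) := by
      rw [← SD.swap_eq z hz hz0]
      exact hφΨ _ h1
    rw [h4, h3]
  · -- inside the base line
    intro e he he0
    have hel := el_mem (C := C) he
    have hel' := el_mem (C := C) (fix_inv (C := C) he)
    have h1 : φ (0, e) = C.el e := by
      have := QC.phi_E _ hel
      rwa [eps_el (C := C) he] at this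
    have h0 : C.el e ≠ 1 := fun h0 => he0 (by rw [← eps_el (C := C) he, h0, S.eps_one])
    show Ψ (sw (φ (0, e))) = _
    rw [h1, hswU _ (S.base.le hel) h0 _ (S.base.le hel') (S.swap_el he he0)]
    have h2 := (h.zero_iff _ (S.base.le hel')).2 hel'
    refine Prod.ext h2 ?_
    show thetaQ D (C.el e⁻¹) + b (U (C.el e⁻¹)) = _
    rw [h2, hb.zero, add_zero, thetaQ_of_mem D hel', eps_el (C := C) (fix_inv (C := C) he)]
  · -- the functional identity
    intro z hz hu e he he0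
    have hy := QC.mem z hz
    have hyE := hE z hz hu
    have hy1 : φ z ≠ 1 := fun e1 => hyE (e1 ▸ one_mem E)
    have hel := el_mem (C := C) he
    have hel1 : C.el e ≠ 1 := fun h0 => he0 (by rw [← eps_el (C := C) he, h0, S.eps_one])
    obtain ⟨hg, -, hgp⟩ := hswP _ hy hy1
    have hgE := hswE _ hy hyE
    have hinv : Unital.pinv C.bar z = Ψ (φ z)⁻¹ := by
      have h1 : Ψ (φ z * (φ z)⁻¹) = _ := hb.mul _ hy _ (inv_mem hy)
      rw [mul_inv_cancel, hΨ0, ← hΨ, hΨφ z hz] at h1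
      have h2 : (0 : F) = z.1 + (Ψ (φ z)⁻¹).1 := congrArg Prod.fst h1
      have h3 : (0 : F) = z.2 + (Ψ (φ z)⁻¹).2 + C.bar z.1 * (Ψ (φ z)⁻¹).1 := congrArg Prod.snd h1
      have h4 : z.1 = (Ψ (φ z)⁻¹).1 := CharTwo.add_eq_zero.1 h2.symm
      have hz' : z.2 + C.bar z.2 = C.bar z.1 * z.1 := hz
      refine Prod.ext h4 ?_
      show C.bar z.2 = _
      rw [← h4] at h3
      linear_combination (norm := (ring_nf; simp [CharTwo.two_eq_zero])) hz' + h3
    have hfE := hswE _ (inv_mem hy) fun hh => hyE (inv_inv (φ z) ▸ inv_mem hh)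
    obtain ⟨hf, -, hfp⟩ := hswP _ (inv_mem hy) (inv_ne_one.2 hy1)
    show (Ψ (sw (φ (Unital.pm C.bar z (Ψ (sw (φ (Unital.pm C.bar (Ψ (sw (φ (Unital.pinv C.bar z)))) (0, e))))))))).1 =
      (Ψ (sw (φ z))).1
    rw [hinv, hφΨ _ (inv_mem hy)]
    set f := sw (φ z)⁻¹ with hfd
    have hfeQ : f * C.el e ∈ Q := mul_mem hf (S.base.le hel)
    have hfeE : f * C.el e ∉ E := fun hh => hfE (by
      have := mul_mem hh (inv_mem hel)
      rwa [mul_inv_cancel_right] at this)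
    have h5 : φ (Unital.pm C.bar (Ψ f) (0, e)) = f * C.el e := by
      have hpe : (0, e) = Ψ (C.el e) := by
        have h2 := (h.zero_iff _ (S.base.le hel)).2 hel
        refine Prod.ext h2.symm ?_
        show e = thetaQ D (C.el e) + b (U (C.el e))
        rw [h2, hb.zero, add_zero, thetaQ_of_mem D hel, eps_el (C := C) he]
      rw [hpe, hΨ, ← hb.mul f hf _ (S.base.le hel), ← hΨ, hφΨ _ hfeQ]
    rw [h5]
    obtain ⟨hv, -, hvp⟩ := hswP _ hfeQ fun e1 => hfeE (e1 ▸ one_mem E)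
    set v := sw (f * C.el e) with hvd
    have h6 : φ (Unital.pm C.bar z (Ψ v)) = φ z * v := by
      exact (QC.mul z hz _ (hb.pts v hv)).trans (congrArg (φ z * ·) (hφΨ v hv))
    rw [h6]
    obtain ⟨hyv, e', he', hpt⟩ := S.key_point hy hyE hg hgE hgp hf hfp hel hel1 hv hvp
    rw [hswU _ (mul_mem hy hv) (fun e1 => hyv (e1 ▸ one_mem E)) _ (mul_mem hg (S.base.le he')) hpt.symm]
    show U (sw (φ z) * e') = U (sw (φ z))
    rw [h.mul _ hg _ (S.base.le he'), (h.zero_iff e' (S.base.le he')).2 he', add_zero]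

end Cubic

end CfsgLib.Bender.Suzuki
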