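import Cfsg.Agent.Lib.Bender.Suzuki.Defs
import Cfsg.Agent.Lib.PGroup.TransInvol.Cyclic
import Cfsg.Agent.Lib.PGroup.TransInvol.FieldEnd
import Cfsg.Agent.Lib.RootSub.Setup2
import Mathlib.FieldTheory.Finite.Extension

/-!
# Suzuki's theorem: field coordinates on `E`

`K` is a Singer cycle of `E`, so `E` is the subfield of order `q` of the field with `q ^ 2` elements, and
the elements of `C_D(t)` act as field automorphisms.
-/

set_option autoImplicit false
set_option linter.style.haveILetI false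
set_option linter.unusedSectionVars false

namespace CfsgLib.Bender.Suzuki

open MulAction CfsgLib.RootSub.Setup

variable {G Ω : Type*} [Group G] [Finite G] [MulAction G Ω] {a : Ω} {t : G} {Q E K : Subgroup G} {s r : G}

namespace Setting

variable (S : Setting a t Q E K s r)
include S

theorem mem_pair {k : G} (hk : k ∈ K) : k ∈ pairStab a t := ((S.mem_K k).1 hk).1

theorem conj_K {v k : G} (hv : v ∈ pairStab a t) (hvt : Commute v t) (hk : k ∈ K) : v * k * v⁻¹ ∈ K := by
  refine (S.mem_K _).2 ⟨mul_mem (mul_mem hv (S.mem_pair hk)) (inv_mem hv), ?_⟩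
  rw [show t * (v * k * v⁻¹) * t⁻¹ = t * v * k * (t * v)⁻¹ by group, ← hvt.eq,
    show v * t * k * (v * t)⁻¹ = v * (t * k * t⁻¹) * v⁻¹ by group, ((S.mem_K k).1 hk).2]
  group

theorem conj_E {v e : G} (hv : v ∈ pairStab a t) (he : e ∈ E) : v * e * v⁻¹ ∈ E := by
  obtain ⟨heQ, he2⟩ := (S.mem_E e).1 he
  exact (S.mem_E _).2 ⟨S.rank.conj_mem v hv.1 e heQ, by
    rw [show v * e * v⁻¹ * (v * e * v⁻¹) = v * (e * e) * v⁻¹ by group, he2]; group⟩

theorem conj_s {v : G} (hv : v ∈ pairStab a t) (hvt : Commute v t) : v * s * v⁻¹ = s := by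
  have hs : s ∈ Cfsg.involutionsIn (stabilizer G a : Set G) :=
    ⟨S.rank.le ((S.mem_E s).1 S.base.s_mem).1, S.base.s_ne, S.base.e_sq s S.base.s_mem⟩
  rw [((commute_t_iff S.rank hs S.base.r_mem S.base.rel hv).1 hvt.eq), mul_inv_cancel_right]

/-- **Coordinates on `E`.** -/
theorem exists_efield : ∃ (F : Type) (_ : Field F) (_ : Finite F) (_ : CharP F 2) (C : EField E K s F),
    ∀ v ∈ pairStab a t, Commute v t →
      ∃ i, ∀ e ∈ E, C.eps (v * e * v⁻¹) = C.eps e ^ 2 ^ i := by
  classical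
  have hEQ := S.base.le
  haveI := S.cyclic
  obtain ⟨⟨k₀, hk₀⟩, hgen⟩ := IsCyclic.exists_monoid_generator (α := K)
  have hpow : ∀ k ∈ K, ∃ i : ℕ, k₀ ^ i = k := fun k hk => by
    obtain ⟨i, hi⟩ := (Submonoid.mem_powers_iff _ _).1 (hgen ⟨k, hk⟩)
    exact ⟨i, congrArg Subtype.val hi⟩
  let kA : MulAut E :=
    { toFun := fun e => ⟨k₀ * e * k₀⁻¹, S.base.k_e k₀ hk₀ e e.2⟩
      invFun := fun e => ⟨k₀⁻¹ * e * k₀, by simpa using S.base.k_e k₀⁻¹ (inv_mem hk₀) e e.2⟩
      left_inv := fun e => Subtype.ext (show k₀⁻¹ * (k₀ * (e : G) * k₀⁻¹) * k₀ = e by group)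
      right_inv := fun e => Subtype.ext (show k₀ * (k₀⁻¹ * (e : G) * k₀) * k₀⁻¹ = e by group)
      map_mul' := fun e e' => Subtype.ext
        (show k₀ * ((e : G) * e') * k₀⁻¹ = k₀ * e * k₀⁻¹ * (k₀ * e' * k₀⁻¹) by group) }
  have hkA : ∀ (i : ℕ) (e : E), ((kA ^ i) e : G) = k₀ ^ i * e * (k₀ ^ i)⁻¹ := by
    intro i
    induction i with
    | zero => intro e; simp
    | succ i ih =>
      intro e
      rw [pow_succ', MulAut.mul_apply, pow_succ' k₀]
      show k₀ * ((kA ^ i) e : G) * k₀⁻¹ = _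
      rw [ih]; group
  obtain ⟨F₁, i₁, i₂, i₃, ⟨A⟩⟩ := CfsgLib.TransInvol.exists_singer (G := E) (k := kA)
    (by
      haveI := Fintype.ofFinite E
      have h4 := S.four
      rw [Nat.card_eq_fintype_card] at h4
      obtain ⟨x, hx⟩ := Finset.exists_mem_notMem_of_card_lt_card (s := ({1} : Finset E)) (t := Finset.univ)
        (by rw [Finset.card_singleton, Finset.card_univ]; omega)
      obtain ⟨y, hy⟩ := Finset.exists_mem_notMem_of_card_lt_card (s := ({1, x} : Finset E)) (t := Finset.univ)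
        (lt_of_le_of_lt Finset.card_le_two (by rw [Finset.card_univ]; omega))
      simp only [Finset.mem_insert, Finset.mem_singleton, not_or] at hx hy
      exact ⟨x, y, fun e => hy.2.2 e.symm, hx.2, Subtype.ext (by rw [SubgroupClass.coe_pow, pow_two]; exact S.base.e_sq _ x.2),
        hy.2.1, Subtype.ext (by rw [SubgroupClass.coe_pow, pow_two]; exact S.base.e_sq _ y.2)⟩)
    (fun x _ g => Subtype.ext (S.base.e_comm _ x.2 _ (hEQ g.2)).eq)
    (fun x y hx _ hy _ => by
      obtain ⟨c, ⟨hc, hcx⟩, -⟩ := S.base.reg x x.2 (fun e => hx (Subtype.ext e))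
      obtain ⟨d, ⟨hd, hdy⟩, -⟩ := S.base.reg y y.2 (fun e => hy (Subtype.ext e))
      obtain ⟨i, hi⟩ := hpow _ (mul_mem hd (inv_mem hc))
      refine ⟨i, Subtype.ext ?_⟩
      rw [hkA, hi, ← hcx, ← hdy]
      group)
  have hι0 : A.ι 0 = 1 := by
    have := A.ι_add 0 0
    rwa [add_zero, left_eq_mul] at this
  obtain ⟨u₀, hu₀⟩ := (A.mem_iff ⟨s, S.base.s_mem⟩).1 (Subtype.ext (by
    rw [SubgroupClass.coe_pow, pow_two]; exact S.base.e_sq _ S.base.s_mem))
  have hu00 : u₀ ≠ 0 := fun e => S.base.s_ne (congrArg Subtype.val (hu₀.symm.trans (e ▸ hι0)))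
  set j : F₁ → G := fun u => (A.ι (u * u₀) : G) with hj
  have hj_inj : Function.Injective j := fun u v e => mul_right_cancel₀ hu00 (A.ι_inj (Subtype.ext e))
  have hj_add : ∀ u v, j (u + v) = j u * j v := fun u v => by
    simp only [hj, add_mul, A.ι_add, Subgroup.coe_mul]
  have hjE : ∀ u, j u ∈ E := fun u => (A.ι (u * u₀)).2
  have hj1 : j 1 = s := by simp only [hj, one_mul, hu₀]
  have hj0 : j 0 = 1 := by simp only [hj, zero_mul, hι0, OneMemClass.coe_one]
  have hjsurj : ∀ e ∈ E, ∃ u, j u = e := fun e he => by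
    obtain ⟨w, hw⟩ := (A.mem_iff ⟨e, he⟩).1 (Subtype.ext (by
      rw [SubgroupClass.coe_pow, pow_two]; exact S.base.e_sq _ he))
    exact ⟨w / u₀, by simp only [hj, div_mul_cancel₀ _ hu00, hw]⟩
  have hk1 : ∀ u, k₀ * j u * k₀⁻¹ = j ((A.g : F₁) * u) := fun u => by
    simp only [hj, mul_assoc]
    rw [← A.k_ι]
    show k₀ * ((A.ι (u * u₀) : G) * k₀⁻¹) = k₀ * (A.ι (u * u₀) : G) * k₀⁻¹
    rw [mul_assoc]
  have hki : ∀ (i : ℕ) u, k₀ ^ i * j u * (k₀ ^ i)⁻¹ = j ((A.g : F₁) ^ i * u) := by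
    intro i
    induction i with
    | zero => intro u; simp
    | succ i ih =>
      intro u
      rw [show k₀ ^ (i + 1) * j u * (k₀ ^ (i + 1))⁻¹ = k₀ * (k₀ ^ i * j u * (k₀ ^ i)⁻¹) * k₀⁻¹ by
        rw [pow_succ']; group, ih, hk1, pow_succ', mul_assoc]
  obtain ⟨μ, hμdef⟩ : ∃ μ : G → F₁, ∀ k, μ k = Function.invFun j (k * s * k⁻¹) := ⟨_, fun _ => rfl⟩
  have hμ : ∀ k ∈ K, ∀ u, k * j u * k⁻¹ = j (μ k * u) := by
    intro k hk u
    obtain ⟨i, rfl⟩ := hpow k hk
    have h1 : μ (k₀ ^ i) = (A.g : F₁) ^ i := by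
      rw [hμdef, ← hj1, hki, mul_one]
      exact Function.leftInverse_invFun hj_inj _
    rw [h1, hki]
  have hμ_ne : ∀ k ∈ K, μ k ≠ 0 := fun k hk e => S.base.s_ne (by
    have h1 := hμ k hk 1
    rw [e, zero_mul, hj0, hj1] at h1
    simpa [mul_assoc] using congrArg (fun x => k⁻¹ * x * k) h1)
  have hμ_mul : ∀ k ∈ K, ∀ k' ∈ K, μ (k * k') = μ k * μ k' := fun k hk k' hk' => by
    apply hj_inj
    have h1 := hμ _ (mul_mem hk hk') 1
    rw [mul_one] at h1
    rw [← h1, show k * k' * j 1 * (k * k')⁻¹ = k * (k' * j 1 * k'⁻¹) * k⁻¹ by group, hμ k' hk', mul_one, hμ k hk]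
  have hμ_surj : ∀ x : F₁, x ≠ 0 → ∃ k ∈ K, μ k = x := fun x hx => by
    obtain ⟨k, ⟨hk, hke⟩, -⟩ := S.base.reg (j x) (hjE x) (fun e => hx (hj_inj (e.trans hj0.symm)))
    refine ⟨k, hk, hj_inj ?_⟩
    rw [← hke, ← hj1, hμ k hk, mul_one]
  -- the quadratic extension
  haveI : Fact (Nat.Prime 2) := ⟨Nat.prime_two⟩
  set F := FiniteField.Extension F₁ 2 2
  haveI : CharP F 2 := charP_of_injective_algebraMap (algebraMap F₁ F).injective 2
  set al := algebraMap F₁ F with hal
  have hn : Nat.card F₁ = 2 ^ A.n := A.card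
  have hfix₁ : ∀ x : F₁, x ^ 2 ^ A.n = x := fun x => by
    haveI := Fintype.ofFinite F₁
    rw [← hn, Nat.card_eq_fintype_card]
    exact FiniteField.pow_card x
  have hcardF : Nat.card F = (2 ^ A.n) ^ 2 := by rw [FiniteField.natCard_extension, hn]
  have hbar : ∀ x : F, (iterateFrobenius F 2 A.n) x = x ^ 2 ^ A.n := fun x => iterateFrobenius_def _ _ _
  have hsub : ∀ x : F, x ^ 2 ^ A.n = x → ∃ u, al u = x := by
    intro x hx
    have hsubset : Set.range al ⊆ {y : F | y ^ 2 ^ A.n = y} := by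
      rintro _ ⟨u, rfl⟩
      show al u ^ 2 ^ A.n = al u
      rw [← map_pow, hfix₁]
    have hle : ({y : F | y ^ 2 ^ A.n = y}).ncard ≤ (Set.range al).ncard := by
      rw [Set.ncard_range_of_injective al.injective, hn]
      have h2 : 1 < 2 ^ A.n := Nat.one_lt_two_pow (by have := A.two_le; omega)
      have hp := FiniteField.X_pow_card_sub_X_natDegree_eq F h2
      have hset : {y : F | y ^ 2 ^ A.n = y} ⊆
          ↑((Polynomial.X ^ (2 ^ A.n) - Polynomial.X : Polynomial F).roots.toFinset) := by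
        intro y hy
        simp only [Finset.mem_coe, Multiset.mem_toFinset, Polynomial.mem_roots', Polynomial.IsRoot,
          Polynomial.eval_sub, Polynomial.eval_pow, Polynomial.eval_X]
        exact ⟨FiniteField.X_pow_card_sub_X_ne_zero F h2, sub_eq_zero.2 hy⟩
      refine ((Set.ncard_le_ncard hset (Finset.finite_toSet _)).trans ?_)
      rw [Set.ncard_coe_finset]
      exact (Multiset.toFinset_card_le _).trans ((Polynomial.card_roots' _).trans hp.le)
    have := Set.eq_of_subset_of_ncard_le hsubset hle (Set.toFinite _)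
    exact (Set.ext_iff.1 this x).2 hx
  have hsq : ∀ x : F₁, (x ^ 2 ^ (A.n - 1)) ^ 2 = x := fun x => by
    rw [← pow_mul, ← pow_succ, show A.n - 1 + 1 = A.n by have := A.two_le; omega, hfix₁]
  have hinv : ∀ e ∈ E, j (Function.invFun j e) = e := fun e he => Function.invFun_eq (hjsurj e he)
  refine ⟨F, inferInstance, inferInstance, inferInstance,
    { f := A.n
      two_le := A.two_le
      card := hcardF
      card_E := ?_
      bar := iterateFrobenius F 2 A.n
      bar_apply := hbar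
      bar_bar := fun x => by
        rw [hbar, hbar, ← pow_mul]
        haveI := Fintype.ofFinite F
        rw [← pow_two, ← hcardF, Nat.card_eq_fintype_card]
        exact FiniteField.pow_card x
      eps := fun e => al (Function.invFun j e)
      eps_fix := fun e _ => by rw [hbar, ← map_pow, hfix₁]
      eps_mul := fun e he e' he' => by
        rw [← map_add]
        congr 1
        apply hj_inj
        rw [hj_add, hinv e he, hinv e' he', hinv _ (mul_mem he he')]
      eps_inj := fun e he e' he' h => by rw [← hinv e he, al.injective h, hinv e' he']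
      eps_surj := fun x hx => by
        obtain ⟨u, rfl⟩ := hsub x (by rw [← hbar]; exact hx)
        exact ⟨j u, hjE u, congrArg al (Function.leftInverse_invFun hj_inj u)⟩
      eps_s := by rw [← hj1, Function.leftInverse_invFun hj_inj, map_one]
      lam := fun k => al (μ k ^ 2 ^ (A.n - 1))
      lam_fix := fun k _ => by rw [hbar, ← map_pow, hfix₁]
      lam_ne := fun k hk => (map_ne_zero al).2 (pow_ne_zero _ (hμ_ne k hk))
      lam_mul := fun k hk k' hk' => by rw [hμ_mul k hk k' hk', mul_pow, map_mul]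
      lam_surj := fun x hx hx0 => by
        obtain ⟨u, rfl⟩ := hsub x (by rw [← hbar]; exact hx)
        obtain ⟨k, hk, hku⟩ := hμ_surj (u ^ 2) (pow_ne_zero _ ((map_ne_zero al).1 hx0))
        refine ⟨k, hk, congrArg al ?_⟩
        rw [hku, ← pow_mul, mul_comm, pow_mul, hsq]
      eps_conj := fun k hk e he => by
        rw [← map_pow, hsq, ← map_mul]
        congr 1
        apply hj_inj
        rw [hinv _ (S.base.k_e k hk e he), ← hμ k hk, hinv e he] }, ?_⟩
  · rw [← hn]
    exact (Nat.card_eq_of_bijective (fun u => (⟨j u, hjE u⟩ : E))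
      ⟨fun u v e => hj_inj (congrArg Subtype.val e), fun e => (hjsurj e e.2).imp fun u hu => Subtype.ext hu⟩).symm
  -- the automorphisms
  intro v hv hvt
  choose τ hτ using fun u => hjsurj _ (S.conj_E hv (hjE u))
  have hτ1 : τ 1 = 1 := hj_inj (by rw [hτ, hj1, S.conj_s hv hvt])
  have hτadd : ∀ u w, τ (u + w) = τ u + τ w := fun u w => hj_inj (by rw [hτ, hj_add, hj_add, hτ, hτ]; group)
  have hτinj : Function.Injective τ := fun u w e => hj_inj (by
    have := (hτ u).symm.trans ((congrArg j e).trans (hτ w))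
    exact mul_left_cancel (mul_right_cancel this))
  have hτmul : ∀ u w, τ (u * w) = τ u * τ w := by
    intro u w
    by_cases hu : u = 0
    · have h0 : τ 0 = 0 := by have := hτadd 0 0; rwa [add_zero, left_eq_add] at this
      rw [hu, zero_mul, h0, zero_mul]
    obtain ⟨k, hk, rfl⟩ := hμ_surj u hu
    have hk' := S.conj_K hv hvt hk
    have key : ∀ w, τ (μ k * w) = μ (v * k * v⁻¹) * τ w := fun w => hj_inj (by
      rw [← hμ _ hk', hτ, hτ, ← hμ k hk]; group)
    rw [key w]
    congr 1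
    have := key 1
    rw [mul_one, hτ1, mul_one] at this
    exact this.symm
  letI := ZMod.algebra F₁ 2
  let σ : F₁ ≃+* F₁ := RingEquiv.ofBijective
    ({ toFun := τ, map_one' := hτ1, map_mul' := hτmul
       map_zero' := by have := hτadd 0 0; rwa [add_zero, left_eq_add] at this
       map_add' := hτadd } : F₁ →+* F₁) (Finite.injective_iff_bijective.1 hτinj)
  obtain ⟨i, -, hi⟩ := CfsgLib.TransInvol.exists_eq_pow_of_algEquiv A.card ({ σ with
    commutes' := fun x => RingHom.congr_fun (Subsingleton.elim ((σ : F₁ →+* F₁).comp (algebraMap (ZMod 2) F₁))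
      (algebraMap (ZMod 2) F₁)) x } : F₁ ≃ₐ[ZMod 2] F₁)
  refine ⟨i, fun e he => ?_⟩
  show al (Function.invFun j (v * e * v⁻¹)) = al (Function.invFun j e) ^ 2 ^ i
  rw [← map_pow]
  congr 1
  apply hj_inj
  rw [hinv _ (S.conj_E hv he), ← hi]
  show _ = j (τ (Function.invFun j e))
  rw [hτ, hinv e he]

end Setting

end CfsgLib.Bender.Suzuki
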