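import Cfsg.Agent.Lib.Bender.Suzuki.Small
import Cfsg.Agent.Lib.Bender.Suzuki.CoordOff
import Cfsg.Agent.Lib.Bender.Suzuki.WBound.Main
import Cfsg.Agent.Lib.Bender.Suzuki.QModel
import Cfsg.Agent.Lib.Bender.Suzuki.Recognise

/-!
# Suzuki's theorem: the classification

Bender's shape theorem gives `|Q| ∈ {q, q ^ 2, q ^ 3}`; the three cases give the three families.
-/

set_option autoImplicit false
set_option linter.style.haveILetI false

namespace CfsgLib.Bender.Suzuki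

open MulAction

universe u v

variable {G : Type u} {Ω : Type v} [Group G] [Finite G] [MulAction G Ω] {a : Ω} {t : G} {Q E K : Subgroup G} {s r : G}

/-- `|Q| = q ^ 3`: a unitary group. -/
theorem Cubic.exists_psu_sub [FaithfulSMul G Ω] (S : Cubic a t Q E K s r) :
    ∃ L : Subgroup G, L.Normal ∧ Odd L.index ∧
      ∃ (F : Type) (_ : Field F) (_ : Fintype F) (n : ℕ), 2 ≤ n ∧ Fintype.card F = (2 ^ n) ^ 2 ∧
        Nonempty (L ≃* Cfsg.PSU 3 F (2 ^ n)) := by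
  obtain ⟨F, i₁, i₂, i₃, C, -⟩ := S.toSetting.exists_efield
  letI : Fintype F := Fintype.ofFinite F
  obtain ⟨p, w, hw⟩ := (S.lineFacts C.card_E).exists_kernel S
  obtain ⟨D⟩ := Cubic.exists_coords C S hw
  obtain ⟨QC, hact⟩ := S.exists_unital hw D
  obtain ⟨L, hn, hi, e⟩ := exists_psu S.rank C QC.mem QC.inj QC.surj QC.mul hact
  exact ⟨L, hn, hi, F, inferInstance, inferInstance, C.f, C.two_le,
    by rw [← Nat.card_eq_fintype_card, C.card], e⟩

/-- **Suzuki's theorem.** -/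
theorem classification [FaithfulSMul G Ω] (hS : Cfsg.IsRankOneSetup G Ω a t Q)
    (h2 : ∃ x y : G, x ≠ 1 ∧ y ≠ 1 ∧ x ≠ y ∧ x * x = 1 ∧ y * y = 1 ∧ x * y = y * x) :
    ∃ L : Subgroup G, L.Normal ∧ Odd L.index ∧
      ((∃ (F : Type) (_ : Field F) (_ : Fintype F), (∃ n : ℕ, 2 ≤ n ∧ Fintype.card F = 2 ^ n) ∧
          Nonempty (L ≃* Matrix.ProjectiveSpecialLinearGroup (Fin 2) F)) ∨
        Cfsg.Lie.IsoSuzuki L ∨
        (∃ (F : Type) (_ : Field F) (_ : Fintype F) (n : ℕ), 2 ≤ n ∧ Fintype.card F = (2 ^ n) ^ 2 ∧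
          Nonempty (L ≃* Cfsg.PSU 3 F (2 ^ n)))) := by
  obtain ⟨E, K, s, r, S, hcard⟩ := exists_setting hS h2
  rcases hcard with h | h | h
  · obtain ⟨L, hn, hi, hL⟩ := S.small_cases (Or.inl h)
    exact ⟨L, hn, hi, hL.imp_right Or.inl⟩
  · obtain ⟨L, hn, hi, hL⟩ := S.small_cases (Or.inr h)
    exact ⟨L, hn, hi, hL.imp_right Or.inl⟩
  · obtain ⟨L, hn, hi, hL⟩ := (S.cubic h).exists_psu_sub
    exact ⟨L, hn, hi, Or.inr (Or.inr hL)⟩

end CfsgLib.Bender.Suzuki
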