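import Cfsg.Agent.Lib.Bender.Suzuki.Mat
import Cfsg.Agent.Lib.Bender.Suzuki.Field

/-!
# Suzuki's theorem: the group of the base line and its action on it
-/

set_option autoImplicit false
set_option linter.style.haveILetI false
set_option linter.unusedSectionVars false

namespace CfsgLib.Bender.Suzuki

open MulAction CfsgLib.RootSub.Setup Matrix
open scoped Pointwise

variable {G Ω : Type*} [Group G] [Finite G] [MulAction G Ω] {a : Ω} {t : G} {Q E K : Subgroup G} {s r : G}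
variable {F : Type} [Field F] [CharP F 2] (C : EField E K s F)

theorem inSL_one : C.InSL (1 : Matrix (Fin 2) (Fin 2) F) :=
  ⟨Matrix.det_one, fun i j => by fin_cases i <;> fin_cases j <;> simp⟩

/-- The inverse of a matrix of determinant one. -/
def invM (M : Matrix (Fin 2) (Fin 2) F) : Matrix (Fin 2) (Fin 2) F := !![M 1 1, M 0 1; M 1 0, M 0 0]

theorem inSL_inv {M : Matrix (Fin 2) (Fin 2) F} (h : C.InSL M) : C.InSL (invM M) ∧ invM M * M = 1 := by
  have hd : M 0 0 * M 1 1 + M 0 1 * M 1 0 = 1 := by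
    have := h.1
    rwa [Matrix.det_fin_two, CharTwo.sub_eq_add] at this
  refine ⟨⟨?_, fun i j => by fin_cases i <;> fin_cases j <;> simp [invM, h.2]⟩, ?_⟩
  · rw [Matrix.det_fin_two, CharTwo.sub_eq_add]
    simp [invM]
    linear_combination hd
  · ext i j
    fin_cases i <;> fin_cases j <;> simp [invM, Matrix.mul_apply, Fin.sum_univ_two]
    · linear_combination hd
    · linear_combination (M 0 1 * M 1 1) * (CharTwo.two_eq_zero : (2 : F) = 0)
    · linear_combination (M 0 0 * M 1 0) * (CharTwo.two_eq_zero : (2 : F) = 0)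
    · linear_combination hd

namespace Setting

variable (S : Setting a t Q E K s r)
include S

theorem fix_a_of_E {e : G} (he : e ∈ E) : e • a = a := fix_a S.rank (S.base.le he)

theorem dg_eq {l : F} (hl0 : l ≠ 0) :
    dgM l = upM l * (swM * (upM l⁻¹ * (swM * (upM l * (swM : Matrix (Fin 2) (Fin 2) F))))) := by
  ext i j
  fin_cases i <;> fin_cases j <;> simp [dgM, upM, swM, Matrix.mul_apply, Fin.sum_univ_two, hl0]
  all_goals simp [CharTwo.add_self_eq_zero]

variable (hr : r ∈ E)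
include hr

theorem K_le {k : G} (hk : k ∈ K) : k ∈ baseGroup t E := by
  obtain ⟨F₀, i₁, i₂, i₃, C, -⟩ := S.exists_efield
  have hl := C.lam_fix k hk
  have hl0 := C.lam_ne k hk
  have hE : ∀ x, C.bar x = x → C.el x ∈ baseGroup t E := fun x hx =>
    Subgroup.subset_closure (Or.inl (el_mem hx))
  have ht : t ∈ baseGroup t E := Subgroup.subset_closure (Or.inr rfl)
  have u1 := inSL_up C hl
  have u2 := inSL_up C (fix_inv hl)
  have w := inSL_sw C
  rw [← S.kl_lam C hk, ← S.toG_dg C, S.dg_eq hl0,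
    S.toG_mul C hr u1 (inSL_mul C w (inSL_mul C u2 (inSL_mul C w (inSL_mul C u1 w)))),
    S.toG_mul C hr w (inSL_mul C u2 (inSL_mul C w (inSL_mul C u1 w))),
    S.toG_mul C hr u2 (inSL_mul C w (inSL_mul C u1 w)), S.toG_mul C hr w (inSL_mul C u1 w),
    S.toG_mul C hr u1 w, S.toG_up C, S.toG_up C, S.toG_sw C]
  exact mul_mem (hE _ hl) (mul_mem ht (mul_mem (hE _ (fix_inv hl)) (mul_mem ht (mul_mem (hE _ hl) ht))))

theorem toG_mem {M : Matrix (Fin 2) (Fin 2) F} (h : C.InSL M) : C.toG t M ∈ baseGroup t E := by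
  have hE : ∀ x, C.bar x = x → C.el x ∈ baseGroup t E := fun x hx =>
    Subgroup.subset_closure (Or.inl (el_mem hx))
  have ht : t ∈ baseGroup t E := Subgroup.subset_closure (Or.inr rfl)
  have hf := h.2
  have hd : M 0 0 * M 1 1 + M 0 1 * M 1 0 = 1 := det_eq C h
  by_cases hc : M 1 0 = 0
  · rw [toG_pos C hc]
    exact mul_mem (hE _ (fix_div (hf 0 1) (hf 1 1)))
      (S.K_le hr (kl_mem (hf 0 0) (fun e => by simp [e, hc] at hd)))
  · rw [toG_neg C hc]
    exact mul_mem (mul_mem (mul_mem (hE _ (fix_div (hf 0 0) (hf 1 0)))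
      (S.K_le hr (kl_mem (fix_inv (hf 1 0)) (inv_ne_zero hc)))) ht) (hE _ (fix_div (hf 1 1) (hf 1 0)))

theorem exists_mat {x : G} (hx : x ∈ baseGroup t E) : ∃ M, C.InSL M ∧ C.toG t M = x := by
  induction hx using Subgroup.closure_induction with
  | mem y hy =>
    rcases hy with hy | hy
    · exact ⟨_, inSL_up C (C.eps_fix y hy), (S.toG_up C).trans (el_eps hy)⟩
    · exact ⟨_, inSL_sw C, (S.toG_sw C).trans (Set.mem_singleton_iff.1 hy).symm⟩
  | one => exact ⟨1, inSL_one C, S.toG_one C⟩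
  | mul y z _ _ ihy ihz =>
    obtain ⟨M, hM, rfl⟩ := ihy
    obtain ⟨N, hN, rfl⟩ := ihz
    exact ⟨_, inSL_mul C hM hN, S.toG_mul C hr hM hN⟩
  | inv y _ ih =>
    obtain ⟨M, hM, rfl⟩ := ih
    obtain ⟨hI, hIM⟩ := inSL_inv C hM
    refine ⟨_, hI, eq_inv_of_mul_eq_one_left ?_⟩
    rw [← S.toG_mul C hr hI hM, hIM, S.toG_one C]

omit hr in
open Classical in
/-- The point that a matrix sends `a` to. -/
theorem toG_smul_a {M : Matrix (Fin 2) (Fin 2) F} (h : C.InSL M) :
    C.toG t M • a = if M 1 0 = 0 then a else C.el (M 0 0 / M 1 0) • t • a := by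
  have hf := h.2
  have hd := det_eq C h
  by_cases hc : M 1 0 = 0
  · rw [if_pos hc, toG_pos C hc, mul_smul,
      (S.K_fix (kl_mem (hf 0 0) (fun e => by simp [e, hc] at hd))).1,
      S.fix_a_of_E (el_mem (fix_div (hf 0 1) (hf 1 1)))]
  · rw [if_neg hc, toG_neg C hc, mul_smul, mul_smul, mul_smul, S.fix_a_of_E (el_mem (fix_div (hf 1 1) (hf 1 0))),
      (S.K_fix (kl_mem (fix_inv (hf 1 0)) (inv_ne_zero hc))).2]

omit hr in
theorem el_smul_o_ne {x : F} (hx : C.bar x = x) : C.el x • t • a ≠ a := fun e => by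
  have h := congrArg (fun c => (C.el x)⁻¹ • c) e
  simp only [inv_smul_smul] at h
  exact ta_ne S.rank (h.trans (S.fix_a_of_E (inv_mem (el_mem hx))))

omit hr in
theorem toG_fix_a {M : Matrix (Fin 2) (Fin 2) F} (h : C.InSL M) : C.toG t M • a = a ↔ M 1 0 = 0 := by
  rw [S.toG_smul_a C h]
  refine ⟨fun e => ?_, fun e => if_pos e⟩
  by_contra hc
  rw [if_neg hc] at e
  exact S.el_smul_o_ne C (fix_div (h.2 0 0) (h.2 1 0)) e

omit hr in
theorem toG_eq_one {M : Matrix (Fin 2) (Fin 2) F} (h : C.InSL M) (e : C.toG t M = 1) : M = 1 := by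
  have hd := det_eq C h
  have hc : M 1 0 = 0 := (S.toG_fix_a C h).1 (by rw [e, one_smul])
  have hA : M 0 0 ≠ 0 := fun e0 => by simp [e0, hc] at hd
  rw [toG_pos C hc] at e
  have hk := kl_mem (C := C) (h.2 0 0) hA
  have he := el_mem (C := C) (fix_div (h.2 0 1) (h.2 1 1))
  have hfix : C.el (M 0 1 / M 1 1) • (t • a) = t • a := by
    have h1 := congrArg (· • (t • a)) e
    simp only [one_smul, mul_smul, (S.K_fix hk).2] at h1
    exact h1
  have he1 := S.eq_one_of_fix_o (S.base.le he) hfix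
  rw [he1, one_mul] at e
  have hA1 : M 0 0 = 1 := by
    rw [← lam_kl (C := C) (h.2 0 0) hA, e, ← lam_kl (C := C) (map_one _) one_ne_zero, S.kl_one C]
  have hB : M 0 1 = 0 := by
    have h1 := congrArg C.eps he1
    rw [eps_el (fix_div (h.2 0 1) (h.2 1 1)), eps_one_eq] at h1
    rcases div_eq_zero_iff.1 h1 with h2 | h2
    · exact h2
    · simp [h2, hc] at hd
  have hD : M 1 1 = 1 := by simpa [hA1, hB] using hd
  ext i j
  fin_cases i <;> fin_cases j <;> simp [hA1, hB, hc, hD]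

theorem toG_inj {M N : Matrix (Fin 2) (Fin 2) F} (hM : C.InSL M) (hN : C.InSL N)
    (h : C.toG t M = C.toG t N) : M = N := by
  obtain ⟨hI, hIN⟩ := inSL_inv C hN
  have h1 : invM N * M = 1 := S.toG_eq_one C (inSL_mul C hI hM) (by
    rw [S.toG_mul C hr hI hM, h, ← S.toG_mul C hr hI hN, hIN, S.toG_one C])
  have h2 := mul_eq_one_comm.1 hIN
  calc M = N * invM N * M := by rw [h2, Matrix.one_mul]
    _ = N := by rw [Matrix.mul_assoc, h1, Matrix.mul_one]

omit hr in
theorem mem_baseLine {c : Ω} : c ∈ baseLine a t E ↔ c = a ∨ ∃ e ∈ E, e • t • a = c := by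
  simp [baseLine]

theorem baseLine_eq {c : Ω} : c ∈ baseLine a t E ↔ ∃ x ∈ baseGroup t E, x • a = c := by
  rw [S.mem_baseLine]
  constructor
  · rintro (rfl | ⟨e, he, rfl⟩)
    · exact ⟨1, one_mem _, one_smul _ _⟩
    · exact ⟨e * t, mul_mem (Subgroup.subset_closure (Or.inl he)) (Subgroup.subset_closure (Or.inr rfl)),
        mul_smul _ _ _⟩
  · rintro ⟨x, hx, rfl⟩
    obtain ⟨F₁, i₁, i₂, i₃, C₁, -⟩ := S.exists_efield
    obtain ⟨M, hM, rfl⟩ := S.exists_mat C₁ hr hx
    rw [S.toG_smul_a C₁ hM]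
    split_ifs with hc
    · exact Or.inl rfl
    · exact Or.inr ⟨_, el_mem (fix_div (hM.2 0 0) (hM.2 1 0)), rfl⟩

theorem group_line {x : G} (hx : x ∈ baseGroup t E) : x • baseLine a t E = baseLine a t E := by
  ext c
  rw [Set.mem_smul_set_iff_inv_smul_mem, S.baseLine_eq hr, S.baseLine_eq hr]
  constructor
  · rintro ⟨y, hy, e⟩
    exact ⟨x * y, mul_mem hx hy, by rw [mul_smul, e, smul_inv_smul]⟩
  · rintro ⟨y, hy, e⟩
    exact ⟨x⁻¹ * y, mul_mem (inv_mem hx) hy, by rw [mul_smul, e]⟩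

/-- The group of the base line is doubly transitive on it. -/
theorem two_trans {x y : Ω} (hx : x ∈ baseLine a t E) (hy : y ∈ baseLine a t E) (hne : x ≠ y) :
    ∃ l ∈ baseGroup t E, l • a = x ∧ l • t • a = y := by
  obtain ⟨l, hl, rfl⟩ := (S.baseLine_eq hr).1 hx
  have h1 : l⁻¹ • y ∈ baseLine a t E := by
    have := S.group_line hr hl
    rw [← this, Set.mem_smul_set_iff_inv_smul_mem] at hy
    exact hy
  rcases S.mem_baseLine.1 h1 with h | ⟨e, he, h⟩
  · exact absurd (by rw [← h, smul_inv_smul]) hne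
  · refine ⟨l * e, mul_mem hl (Subgroup.subset_closure (Or.inl he)), ?_, ?_⟩
    · rw [mul_smul, S.fix_a_of_E he]
    · rw [mul_smul, h, smul_inv_smul]

end Setting

end CfsgLib.Bender.Suzuki
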