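import Cfsg.Agent.Lib.Bender.Suzuki.Base
import Cfsg.Agent.S1124
import Cfsg.Agent.Lib.Bender.Suzuki.Interface
import Mathlib.Algebra.BigOperators.Fin
import Mathlib.Data.Finset.Prod
import Mathlib.Tactic.Zify

/-!
# Suzuki's theorem: the lines

When `r ∈ E` two points lie on exactly one line.
-/

set_option autoImplicit false
set_option linter.style.haveILetI false
set_option linter.unusedSectionVars false

namespace CfsgLib.Bender.Suzuki

open MulAction CfsgLib.RootSub.Setup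
open scoped Pointwise

variable {G Ω : Type*} [Group G] [Finite G] [MulAction G Ω] {a : Ω} {t : G} {Q E K : Subgroup G} {s r : G}

theorem card_pairs (α : Type*) [Finite α] :
    Nat.card {p : α × α // p.1 ≠ p.2} = Nat.card α * (Nat.card α - 1) := by
  classical
  haveI := Fintype.ofFinite α
  rw [Nat.card_eq_fintype_card, Nat.card_eq_fintype_card, Fintype.card_subtype,
    show (Finset.univ.filter fun p : α × α => p.1 ≠ p.2) = (Finset.univ : Finset α).offDiag by
      ext p; simp [Finset.mem_offDiag],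
    Finset.offDiag_card, Finset.card_univ, Nat.mul_sub, Nat.mul_one]

namespace Setting

variable (S : Setting a t Q E K s r)
include S

theorem smul_baseLine_of_pair {d : G} (hd : d ∈ pairStab a t) : d • baseLine a t E = baseLine a t E := by
  have key : ∀ d ∈ pairStab a t, ∀ c ∈ baseLine a t E, d • c ∈ baseLine a t E := by
    intro d hd c hc
    rcases S.mem_baseLine.1 hc with rfl | ⟨e, he, rfl⟩
    · exact S.mem_baseLine.2 (Or.inl hd.1)
    · refine S.mem_baseLine.2 (Or.inr ⟨d * e * d⁻¹, S.conj_E hd he, ?_⟩)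
      have h : d • (t • a) = t • a := hd.2
      rw [mul_smul, mul_smul, inv_smul_eq_iff.2 h.symm]
  ext c
  rw [Set.mem_smul_set_iff_inv_smul_mem]
  exact ⟨fun h => by simpa using key d hd _ h, fun h => key d⁻¹ (inv_mem hd) c h⟩

theorem conj_baseGroup {v : G} (hv : v ∈ pairStab a t) (hvt : Commute v t) {x : G} (hx : x ∈ baseGroup t E) :
    v * x * v⁻¹ ∈ baseGroup t E := by
  induction hx using Subgroup.closure_induction with
  | mem y hy =>
    refine Subgroup.subset_closure ?_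
    rcases hy with hy | hy
    · exact Or.inl (S.conj_E hv hy)
    · refine Or.inr ?_
      rw [Set.mem_singleton_iff.1 hy, hvt.eq, mul_inv_cancel_right]
      exact Set.mem_singleton t
  | one => simpa using one_mem _
  | mul y z _ _ ihy ihz =>
    rw [show v * (y * z) * v⁻¹ = v * y * v⁻¹ * (v * z * v⁻¹) by group]
    exact mul_mem ihy ihz
  | inv y _ ih =>
    rw [show v * y⁻¹ * v⁻¹ = (v * y * v⁻¹)⁻¹ by group]
    exact inv_mem ih

theorem exists_split {d : G} (hd : d ∈ pairStab a t) :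
    ∃ v ∈ pairStab a t, Commute v t ∧ ∃ k ∈ K, d = v * k := by
  have hord : orderOf t = 2 := orderOf_eq_prime (by rw [pow_two]; exact S.rank.mul_self) S.rank.ne_one
  have hnorm : ∀ x ∈ pairStab a t, t * x * t⁻¹ ∈ pairStab a t := by
    intro x hx
    rw [t_inv S.rank]
    refine ⟨?_, ?_⟩
    · show (t * x * t) • a = a
      rw [mul_smul, mul_smul, show x • (t • a) = t • a from hx.2, t_t S.rank]
    · show (t * x * t) • (t • a) = t • a
      rw [mul_smul, mul_smul, t_t S.rank, show x • a = a from hx.1]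
  obtain ⟨⟨y, z⟩, ⟨hy, hz, hyz⟩, -⟩ := (Cfsg.Agent.S1124.result t hord _ S.rank.odd_card hnorm).1 d hd
  exact ⟨y, (Subgroup.mem_inf.1 hy).1, Subgroup.mem_centralizer_singleton_iff.1 (Subgroup.mem_inf.1 hy).2, z,
    (S.mem_K z).2 hz, hyz⟩

variable (hr : r ∈ E)
include hr

theorem stab_line {g : G} (hg : g • baseLine a t E = baseLine a t E) :
    (∀ x ∈ baseGroup t E, g * x * g⁻¹ ∈ baseGroup t E) ∧
      ∃ l ∈ baseGroup t E, ∃ v ∈ pairStab a t, Commute v t ∧ g = l * v := by
  have hmem : ∀ c ∈ baseLine a t E, g • c ∈ baseLine a t E := fun c hc => hg ▸ Set.smul_mem_smul_set hc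
  obtain ⟨l, hl, hla, hlo⟩ := S.two_trans hr (hmem a (S.mem_baseLine.2 (Or.inl rfl)))
    (hmem (t • a) (S.mem_baseLine.2 (Or.inr ⟨1, one_mem _, one_smul _ _⟩)))
    (fun e => (ta_ne S.rank) (smul_left_cancel g e).symm)
  have hd : l⁻¹ * g ∈ pairStab a t :=
    ⟨by show (l⁻¹ * g) • a = a; rw [mul_smul, inv_smul_eq_iff, hla],
     by show (l⁻¹ * g) • (t • a) = t • a; rw [mul_smul, inv_smul_eq_iff, hlo]⟩
  obtain ⟨v, hv, hvt, k, hk, hvk⟩ := S.exists_split hd
  have hkL := S.K_le hr hk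
  have hgeq : g = l * (v * k * v⁻¹) * v := by
    rw [show l * (v * k * v⁻¹) * v = l * (v * k) by group, ← hvk, mul_inv_cancel_left]
  have hl' := mul_mem hl (S.conj_baseGroup hv hvt hkL)
  refine ⟨fun x hx => ?_, _, hl', v, hv, hvt, hgeq⟩
  rw [hgeq, show ∀ p : G, p * v * x * (p * v)⁻¹ = p * (v * x * v⁻¹) * p⁻¹ from fun p => by group]
  exact mul_mem (mul_mem hl' (S.conj_baseGroup hv hvt hx)) (inv_mem hl')

/-- Two points lie on exactly one line. -/
theorem line_unique {x y : Ω} (hne : x ≠ y) : ∃! Λ, IsLine a t E Λ ∧ x ∈ Λ ∧ y ∈ Λ := by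
  obtain ⟨g, hga, hgo⟩ := is_two_pretransitive_iff.1 S.rank.two_transitive (ta_ne S.rank).symm hne
  refine ⟨g • baseLine a t E, ⟨⟨g, rfl⟩, ?_, ?_⟩, ?_⟩
  · exact ⟨a, S.mem_baseLine.2 (Or.inl rfl), hga⟩
  · exact ⟨t • a, S.mem_baseLine.2 (Or.inr ⟨1, one_mem _, one_smul _ _⟩), hgo⟩
  rintro _ ⟨⟨h, rfl⟩, ⟨x', hx', rfl⟩, ⟨y', hy', rfl⟩⟩
  obtain ⟨l, hl, hla, hlo⟩ := S.two_trans hr hx' hy' (fun e => hne (by rw [e]))
  simp only at hga hgo
  have hd : g⁻¹ * (h * l) ∈ pairStab a t :=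
    ⟨by show (g⁻¹ * (h * l)) • a = a; rw [mul_smul, mul_smul, hla, inv_smul_eq_iff, hga],
     by show (g⁻¹ * (h * l)) • (t • a) = t • a; rw [mul_smul, mul_smul, hlo, inv_smul_eq_iff, hgo]⟩
  have h1 := S.smul_baseLine_of_pair hd
  rw [mul_smul, mul_smul, S.group_line hr hl, inv_smul_eq_iff] at h1
  exact h1

omit hr in
theorem card_line {Λ : Set Ω} (h : IsLine a t E Λ) : Λ.ncard = Nat.card E + 1 := by
  haveI := finite_points S.rank
  obtain ⟨g, rfl⟩ := h
  rw [Set.ncard_smul_set, baseLine, Set.ncard_insert_of_notMem ?_ (Set.toFinite _),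
    Set.InjOn.ncard_image ?_, ← Nat.card_coe_set_eq]
  · rfl
  · intro e he e' he' h
    have h' : (e'⁻¹ * e) • (t • a) = t • a := by rw [mul_smul, inv_smul_eq_iff]; exact h
    exact (inv_mul_eq_one.1 (S.eq_one_of_fix_o (S.base.le (mul_mem (inv_mem he') he)) h')).symm
  · rintro ⟨e, he, hea⟩
    exact ta_ne S.rank (smul_left_cancel e (hea.trans (S.fix_a_of_E he).symm))

end Setting

end CfsgLib.Bender.Suzuki
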