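import Mathlib.FieldTheory.Finite.Basic
import Mathlib.Algebra.CharP.Two
import Mathlib.Tactic.FieldSimp
import Mathlib.Tactic.LinearCombination

/-!
# Suzuki's rank-one theorem: the functional identity over `GF(q²)`

`c` is the involution of `F`, `G` the cocycle of the extension, `J` the second coordinate as a function of
the class and `π` its multiplier on `H`.  The identity pins the cocycle as `c u * v` (or its conjugate) and
`J u * u` as a constant; the second shape of squares at `q = 8` is contradictory.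
-/

set_option autoImplicit false

namespace CfsgLib.SuzukiOne

variable {F : Type*} [Field F] [CharP F 2]

/-- The data of the identity. -/
structure Ident (c : F →+* F) (H : Set F) (π ν τ J : F → F) (G : F → F → F) : Prop where
  invol : ∀ x : F, c (c x) = x
  H_ne : ∀ a ∈ H, a ≠ 0
  mul_mem : ∀ a ∈ H, ∀ b ∈ H, a * b ∈ H
  inv_mem : ∀ a ∈ H, a⁻¹ ∈ H
  scalars : ∀ x : F, x ≠ 0 → c x = x → x ∈ H
  π_mul : ∀ a ∈ H, ∀ b ∈ H, π (a * b) = π a * π b
  π_ne : ∀ a ∈ H, π a ≠ 0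
  π_fix : ∀ a ∈ H, c (π a) = π a ↔ c a = a
  J_ne : ∀ u : F, u ≠ 0 → J u ≠ 0
  J_smul : ∀ a ∈ H, ∀ u : F, u ≠ 0 → J (a * u) = π a * J u
  τ_zero : τ 0 = 0
  τ_fix : ∀ u : F, c (τ u) = τ u
  τ_norm : ∃ C : F, C ≠ 0 ∧ ∀ u : F, u ≠ 0 → τ u * (c (J u) * J u) = C
  ν_fix : ∀ u : F, c (ν u) = ν u
  ν_ne : ∀ u : F, u ≠ 0 → ν u ≠ 0
  G_zero : ∀ u : F, G 0 u = 0
  G_diag : ∀ u : F, G u u = ν u
  G_cocycle : ∀ u v w : F, G u v + G (u + v) w = G v w + G u (v + w)
  G_smul : ∀ a ∈ H, ∀ u v : F, G (a * u) (a * v) * (c (π a) * π a) = G u v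
  G_tr : ∀ u v : F, G u v + c (G u v) = τ (u + v) + τ u + τ v
  star : ∀ a ∈ H, c a ≠ a → ∀ u : F, u ≠ 0 →
    ((1 + π a) * τ u / (π a + c (π a)) + ν u + ((1 + π a) * τ u / (π a + c (π a))) / π a + G u (a * u)) *
      J (u + a * u) = ((1 + π a) * τ u / (π a + c (π a)) + ν u) * J u

theorem eq_of_add_eq_zero {x y : F} (h : x + y = 0) : x = y := CharTwo.add_eq_zero.1 h

theorem eq_one_of_sq {x : F} (h : x * x = 1) : x = 1 := by
  have h1 : (x + 1) * (x + 1) = 0 := by linear_combination h + CharTwo.two_eq_zero (R := F) * (1 + x)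
  exact eq_of_add_eq_zero (mul_self_eq_zero.1 h1)

theorem eq_of_mul_self {x y : F} (h : x * x = y * y) : x = y := by
  have h1 : (x + y) * (x + y) = 0 := by
    linear_combination h + CharTwo.two_eq_zero (R := F) * (y * y + x * y)
  exact eq_of_add_eq_zero (mul_self_eq_zero.1 h1)

namespace Ident

variable {c : F →+* F} {H : Set F} {π ν τ J : F → F} {G : F → F → F} (h : Ident c H π ν τ J G)
include h

theorem one_mem : (1 : F) ∈ H := h.scalars 1 one_ne_zero (map_one c)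

theorem π_one : π 1 = 1 := by
  have h1 := h.π_mul 1 h.one_mem 1 h.one_mem
  rw [mul_one] at h1
  exact (mul_eq_left₀ (h.π_ne 1 h.one_mem)).1 h1.symm

theorem π_inv {a : F} (ha : a ∈ H) : π a⁻¹ = (π a)⁻¹ := by
  refine eq_inv_of_mul_eq_one_left ?_
  rw [← h.π_mul _ (h.inv_mem a ha) a ha, inv_mul_cancel₀ (h.H_ne a ha), h.π_one]

theorem ν_add (u v : F) : ν (u + v) = G u v + G v u + ν u + ν v := by
  have h1 := h.G_cocycle u v (u + v)
  have h2 := h.G_cocycle v v u
  rw [h.G_diag, show v + (u + v) = u by rw [add_left_comm, CharTwo.add_self_eq_zero, add_zero], h.G_diag] at h1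
  rw [h.G_diag, CharTwo.add_self_eq_zero, h.G_zero, add_zero, add_comm v u] at h2
  linear_combination (norm := (ring_nf; simp [CharTwo.two_eq_zero])) h1 - h2

theorem ν_smul {a : F} (ha : a ∈ H) (u : F) : ν (a * u) * (c (π a) * π a) = ν u := by
  rw [← h.G_diag, ← h.G_diag]
  exact h.G_smul a ha u u

theorem τ_smul {a : F} (ha : a ∈ H) {u : F} (hu : u ≠ 0) : τ (a * u) * (c (π a) * π a) = τ u := by
  obtain ⟨C, -, hC⟩ := h.τ_norm
  have h1 := hC (a * u) (mul_ne_zero (h.H_ne a ha) hu)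
  rw [h.J_smul a ha u hu, map_mul, ← hC u hu] at h1
  exact mul_right_cancel₀ (mul_ne_zero ((map_ne_zero c).2 (h.J_ne u hu)) (h.J_ne u hu))
    ((by ring : τ (a * u) * (c (π a) * π a) * (c (J u) * J u) =
      τ (a * u) * (c (π a) * c (J u) * (π a * J u))).trans h1)

theorem τ_ne {u : F} (hu : u ≠ 0) : τ u ≠ 0 := fun e => by
  obtain ⟨C, hC0, hC⟩ := h.τ_norm
  exact hC0 (by rw [← hC u hu, e, zero_mul])

theorem π_moved {a : F} (ha : a ∈ H) (hm : c a ≠ a) : π a + c (π a) ≠ 0 := fun e =>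
  hm ((h.π_fix a ha).1 (eq_of_add_eq_zero e).symm)

/-- The identity, cleared. -/
theorem star_M {a : F} (ha : a ∈ H) (hm : c a ≠ a) {u : F} (hu : u ≠ 0) :
    (π a + (π a)⁻¹) * (J (u + a * u) / J u) + (1 + π a) =
      ν u / τ u * (π a + c (π a)) * (1 + (1 + G u (a * u) / ν u) * (J (u + a * u) / J u)) := by
  have hs := h.π_ne a ha
  have hS := h.π_moved ha hm
  have h1 := h.star a ha hm u hu
  have hν := h.ν_ne u hu
  have hτ := h.τ_ne hu
  have hJ := h.J_ne u hu
  generalize J (u + a * u) = R at h1 ⊢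
  field_simp at h1 ⊢
  linear_combination (norm := (ring_nf; simp [CharTwo.two_eq_zero])) h1

/-- **The first consequence.** -/
theorem ratio {a : F} (ha : a ∈ H) (hm : c a ≠ a) {u : F} (hu : u ≠ 0) :
    1 + (c (π a))⁻¹ = J (u + a * u) / J u * (ν (u + a * u) / ν u) := by
  have hai := h.inv_mem a ha
  have hmi : c a⁻¹ ≠ a⁻¹ := fun e => hm (by rwa [map_inv₀, inv_inj] at e)
  have ha0 := h.H_ne a ha
  have hua : u + a * u ≠ 0 := fun e => hm (by
    have : (1 + a) * u = 0 := by linear_combination e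
    rw [← eq_of_add_eq_zero ((mul_eq_zero.1 this).resolve_right hu), map_one])
  have hJ2 : J (u + a⁻¹ * u) = (π a)⁻¹ * J (u + a * u) := by
    rw [← h.π_inv ha, ← h.J_smul _ hai _ hua]
    congr 1
    field_simp
    ring
  have e1 := h.star_M ha hm hu
  have e2 := h.star_M hai hmi hu
  have hG : G (a * u) u * (c (π a) * π a) = G u (a⁻¹ * u) := by
    have := h.G_smul a ha u (a⁻¹ * u)
    rwa [← mul_assoc a, mul_inv_cancel₀ ha0, one_mul] at this
  have hν2 := h.ν_smul ha u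
  have hadd := h.ν_add u (a * u)
  have hS := h.π_moved ha hm
  have hs := h.π_ne a ha
  have hcs : c (π a) ≠ 0 := (map_ne_zero c).2 hs
  have hν := h.ν_ne u hu
  have hτ := h.τ_ne hu
  have hJ := h.J_ne u hu
  rw [hJ2, h.π_inv ha, map_inv₀] at e2
  -- `e1` and `π a * e2` have the same left hand side
  have e3 : ν u / τ u * (π a + c (π a)) * (1 + (1 + G u (a * u) / ν u) * (J (u + a * u) / J u)) =
      π a * (ν u / τ u * ((π a)⁻¹ + (c (π a))⁻¹) * (1 + (1 + G u (a⁻¹ * u) / ν u) *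
        ((π a)⁻¹ * J (u + a * u) / J u))) := by
    rw [← e1, ← e2]
    field_simp
    ring
  have e4 : (1 + (1 + G u (a * u) / ν u) * (J (u + a * u) / J u)) =
      (c (π a))⁻¹ * (1 + (1 + G u (a⁻¹ * u) / ν u) * ((π a)⁻¹ * J (u + a * u) / J u)) := by
    refine mul_left_cancel₀ (mul_ne_zero (div_ne_zero hν hτ) hS) (e3.trans ?_)
    field_simp
    ring
  have e5 : ν (u + a * u) = G u (a * u) + G u (a⁻¹ * u) / (c (π a) * π a) + ν u + ν u / (c (π a) * π a) := by
    rw [hadd, ← hG, ← hν2, mul_div_assoc, div_self (mul_ne_zero hcs hs), mul_one, mul_div_assoc,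
      div_self (mul_ne_zero hcs hs), mul_one]
  rw [e5]
  generalize J (u + a * u) = R at e4 ⊢
  field_simp at e4 ⊢
  linear_combination (norm := (ring_nf; simp [CharTwo.two_eq_zero])) e4

theorem unit_scale {a : F} (ha : a ∈ H) (hm : c a ≠ a) (hb : 1 + a ∈ H) {u : F} (hu : u ≠ 0) :
    π (1 + a) * (1 + (π a)⁻¹) = 1 ∧ G u (a * u) = ν u * (π a)⁻¹ := by
  have hbu : u + a * u = (1 + a) * u := by ring
  have e1 := h.ratio ha hm hu
  rw [hbu, h.J_smul _ hb u hu, mul_div_assoc, div_self (h.J_ne u hu), mul_one] at e1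
  have hν := h.ν_ne u hu
  have hp := h.π_ne _ hb
  have hcp : c (π (1 + a)) ≠ 0 := (map_ne_zero c).2 hp
  have e2 : ν ((1 + a) * u) / ν u = (c (π (1 + a)) * π (1 + a))⁻¹ := by
    rw [eq_comm, inv_eq_iff_eq_inv, inv_div, eq_div_iff ?_, mul_comm]
    · exact h.ν_smul hb u
    · exact h.ν_ne _ (mul_ne_zero (h.H_ne _ hb) hu)
  rw [e2, mul_inv, mul_left_comm, mul_inv_cancel₀ hp, mul_one] at e1
  have e3 : π (1 + a) * (1 + (π a)⁻¹) = 1 := by
    apply c.injective
    rw [map_mul, map_add, map_one, map_inv₀, e1, mul_inv_cancel₀ hcp]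
  refine ⟨e3, ?_⟩
  have e4 := h.star_M ha hm hu
  rw [hbu, h.J_smul _ hb u hu, mul_div_assoc, div_self (h.J_ne u hu), mul_one] at e4
  have hs := h.π_ne a ha
  have hl : (π a + (π a)⁻¹) * π (1 + a) + (1 + π a) = 0 := by
    field_simp at e3 ⊢
    linear_combination (norm := (ring_nf; simp [CharTwo.two_eq_zero])) (1 + π a) * e3
  rw [hl] at e4
  have e5 := (mul_eq_zero.1 e4.symm).resolve_left
    (mul_ne_zero (div_ne_zero hν (h.τ_ne hu)) (h.π_moved ha hm))
  field_simp at e3 e5 ⊢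
  linear_combination (norm := (ring_nf; simp [CharTwo.two_eq_zero])) (1 + π a) * e5 - (G u (a * u) + ν u) * e3

end Ident

end CfsgLib.SuzukiOne
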