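import Cfsg.Agent.Lib.Bender.Suzuki.Ident

/-!
# Suzuki's rank-one theorem: the normal form from the identity
-/

set_option autoImplicit false

namespace CfsgLib.SuzukiOne

variable {F : Type*} [Field F] [CharP F 2]

theorem four_eq_zero : (4 : F) = 0 := by linear_combination (2 : F) * CharTwo.two_eq_zero (R := F)

theorem six_eq_zero : (6 : F) = 0 := by linear_combination (3 : F) * CharTwo.two_eq_zero (R := F)

namespace Ident

variable {c : F →+* F} {H : Set F} {π ν τ J : F → F} {G : F → F → F} (h : Ident c H π ν τ J G)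
include h

/-- Conjugating the parameter. -/
theorem twist : Ident c (c ⁻¹' H) (π ∘ c) (ν ∘ c) (τ ∘ c) (J ∘ c) (fun u v => G (c u) (c v)) := by
  have hinj := c.injective
  have hne : ∀ u : F, u ≠ 0 → c u ≠ 0 := fun u hu => (map_ne_zero c).2 hu
  refine ⟨h.invol, fun a ha e => h.H_ne _ ha (by rw [e, map_zero]), ?_, ?_, ?_, ?_, fun a ha => h.π_ne _ ha, ?_,
    fun u hu => h.J_ne _ (hne u hu), ?_, by simp [h.τ_zero], fun u => h.τ_fix _, ?_, fun u => h.ν_fix _,
    fun u hu => h.ν_ne _ (hne u hu), fun u => by simp [h.G_zero], fun u => h.G_diag _, ?_, ?_, ?_, ?_⟩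
  · intro a ha b hb
    show c (a * b) ∈ H
    rw [map_mul]
    exact h.mul_mem _ ha _ hb
  · intro a ha
    show c a⁻¹ ∈ H
    rw [map_inv₀]
    exact h.inv_mem _ ha
  · intro x hx0 hx
    show c x ∈ H
    rw [hx]
    exact h.scalars x hx0 hx
  · intro a ha b hb
    show π (c (a * b)) = _
    rw [map_mul]
    exact h.π_mul _ ha _ hb
  · intro a ha
    refine (h.π_fix _ ha).trans ⟨fun e => hinj e, fun e => congrArg c e⟩
  · intro a ha u hu
    show J (c (a * u)) = _
    rw [map_mul]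
    exact h.J_smul _ ha _ (hne u hu)
  · obtain ⟨C, hC, hC'⟩ := h.τ_norm
    exact ⟨C, hC, fun u hu => hC' _ (hne u hu)⟩
  · intro u v w
    simp only [map_add]
    exact h.G_cocycle _ _ _
  · intro a ha u v
    simp only [map_mul]
    exact h.G_smul _ ha _ _
  · intro u v
    simp only [Function.comp_apply, map_add]
    exact h.G_tr _ _
  · intro a ha hm u hu
    simp only [Function.comp_apply, map_add, map_mul]
    exact h.star _ ha (fun e => hm (hinj e)) _ (hne u hu)

/-- Squares `c u * u`: the extension `G` with the standard cocycle and `J u * u` constant. -/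
theorem normal_aux (hν : ∀ u, ν u = c u * u) {ρ : F} (hρ : ρ ∈ H) (hρ1 : c ρ * ρ = 1) (hρne : ρ ≠ 1)
    (hG : ∀ u v : F, G u v = c u * v) :
    (∀ u, τ u = c u * u) ∧ ∃ C : F, C ≠ 0 ∧ ∀ u : F, u ≠ 0 → J u * u = C := by
  have hρ0 := h.H_ne ρ hρ
  have hρm : c ρ ≠ ρ := fun e => hρne (eq_one_of_sq (by rw [e] at hρ1; exact hρ1))
  have hsum : ρ + c ρ ≠ 0 := fun e => hρm (eq_of_add_eq_zero e).symm
  have hN : ∀ a ∈ H, c a * a * (c (π a) * π a) = 1 := fun a ha => by
    have h1 := h.ν_smul ha 1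
    rwa [mul_one, hν, hν, map_one, mul_one] at h1
  -- `τ = ν`
  have hτ : ∀ u, τ u = c u * u := by
    let L : F → F := fun u => τ u + c u * u
    have hLadd : ∀ u v, L (u + v) = L u + L v := fun u v => by
      have h1 := h.G_tr u v
      rw [hG, map_mul, h.invol] at h1
      show τ (u + v) + c (u + v) * (u + v) = τ u + c u * u + (τ v + c v * v)
      rw [map_add]
      linear_combination (norm := (ring_nf; simp [CharTwo.two_eq_zero, four_eq_zero, six_eq_zero])) h1
    have hLsm : ∀ u, L (ρ * u) = L u := fun u => by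
      rcases eq_or_ne u 0 with rfl | hu
      · simp
      show τ (ρ * u) + c (ρ * u) * (ρ * u) = τ u + c u * u
      have h1 := h.τ_smul hρ hu
      have h2 := hN ρ hρ
      rw [hρ1, one_mul] at h2
      rw [h2, mul_one] at h1
      rw [h1, map_mul, show c ρ * c u * (ρ * u) = c ρ * ρ * (c u * u) by ring, hρ1, one_mul]
    intro u
    have h1 : (1 + ρ) ≠ 0 := fun e => hρne (eq_of_add_eq_zero e).symm
    have h2 := hLadd (u / (1 + ρ)) (ρ * (u / (1 + ρ)))
    rw [hLsm, CharTwo.add_self_eq_zero, show u / (1 + ρ) + ρ * (u / (1 + ρ)) = u by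
      rw [show u / (1 + ρ) + ρ * (u / (1 + ρ)) = (1 + ρ) * (u / (1 + ρ)) by ring, mul_div_cancel₀ _ h1]] at h2
    exact eq_of_add_eq_zero h2
  -- the multiplier
  have hπρ : ∀ z ∈ H, c z * z = 1 → π z * z = 1 := by
    intro z hz hz1
    rcases eq_or_ne z 1 with rfl | hzne
    · rw [h.π_one, mul_one]
    have hzm : c z ≠ z := fun e => hzne (eq_one_of_sq (by rw [e] at hz1; exact hz1))
    have hzs : z + c z ≠ 0 := fun e => hzm (eq_of_add_eq_zero e).symm
    have hz0 := h.H_ne z hz
    have hsc : z + c z ∈ H := h.scalars _ hzs (by rw [map_add, h.invol, add_comm])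
    have ha : 1 + z * z ∈ H := by
      rw [show 1 + z * z = (z + c z) * z by rw [add_mul, hz1, add_comm]]
      exact h.mul_mem _ hsc z hz
    have hb : 1 + (1 + z * z) = z * z := by rw [← add_assoc, CharTwo.add_self_eq_zero, zero_add]
    have ham : c (1 + z * z) ≠ 1 + z * z := fun e => hzm (eq_of_mul_self (by
      rw [map_add, map_one, map_mul] at e
      exact add_left_cancel e))
    obtain ⟨e1, e2⟩ := h.unit_scale ha ham (by rw [hb]; exact h.mul_mem z hz z hz) (one_ne_zero (α := F))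
    rw [hb] at e1
    have e2' : (π (1 + z * z))⁻¹ = 1 + z * z := by simpa [hG, hν] using e2.symm
    rw [e2', ← add_assoc, CharTwo.add_self_eq_zero, zero_add, h.π_mul z hz z hz,
      show π z * π z * (z * z) = (π z * z) * (π z * z) by ring] at e1
    exact eq_one_of_sq e1
  have hπfix : ∀ l ∈ H, c l = l → π l * l = 1 := fun l hl hlf => by
    have h1 := hN l hl
    rw [hlf, (h.π_fix l hl).2 hlf] at h1
    exact eq_one_of_sq (by linear_combination h1)
  have hπ : ∀ a ∈ H, π a * a = 1 := by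
    intro a ha
    have ha0 := h.H_ne a ha
    have hca : c a ≠ 0 := (map_ne_zero c).2 ha0
    have hl : c a * a ∈ H := h.scalars _ (mul_ne_zero hca ha0) (by rw [map_mul, h.invol, mul_comm])
    have hca' : c a ∈ H := by
      have := h.mul_mem _ hl _ (h.inv_mem a ha)
      rwa [mul_inv_cancel_right₀ ha0] at this
    have hz : a * (c a)⁻¹ ∈ H := h.mul_mem a ha _ (h.inv_mem _ hca')
    have hz1 : c (a * (c a)⁻¹) * (a * (c a)⁻¹) = 1 := by
      rw [map_mul, map_inv₀, h.invol]; field_simp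
    have e1 := hπfix _ hl (by rw [map_mul, h.invol, mul_comm])
    have e2 := hπρ _ hz hz1
    have e3 : c a * a * (a * (c a)⁻¹) = a * a := by field_simp
    have e4 : π (a * a) * (a * a) = 1 := by
      rw [← e3, h.π_mul _ hl _ hz]
      linear_combination (π (a * (c a)⁻¹) * (a * (c a)⁻¹)) * e1 + e2
    rw [h.π_mul a ha a ha] at e4
    exact eq_one_of_sq (by linear_combination e4)
  have hJ : ∀ a ∈ H, ∀ u : F, u ≠ 0 → J (a * u) * (a * u) = J u * u := fun a ha u hu => by
    rw [h.J_smul a ha u hu]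
    linear_combination (J u * u) * hπ a ha
  -- the other steps
  have hstep : ∀ a ∈ H, c a ≠ a → ∀ u : F, u ≠ 0 → J ((1 + a) * u) * ((1 + a) * u) = J u * u := by
    intro a ha hm u hu
    have ha0 := h.H_ne a ha
    have hca0 : c a ≠ 0 := (map_ne_zero c).2 ha0
    have hν0 := h.ν_ne u hu
    have h1 := h.star_M ha hm hu
    rw [hG, hτ, ← hν, div_self hν0, one_mul, show c u * (a * u) / ν u = a by rw [hν]; field_simp [hu]; ,
      eq_inv_of_mul_eq_one_left (hπ a ha), map_inv₀, inv_inv, show u + a * u = (1 + a) * u by ring] at h1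
    have hJ0 := h.J_ne u hu
    have hS : (1 : F) + (c a)⁻¹ ≠ 0 := fun e => by
      have e' : (1 : F) = (c a)⁻¹ := eq_of_add_eq_zero e
      have e'' : c a = 1 := inv_eq_one.1 e'.symm
      exact hm (by rw [e'', ← h.invol a, e'', map_one])
    have key : (1 + (c a)⁻¹) * (J ((1 + a) * u) / J u * (1 + a) + 1) = 0 := by
      generalize J ((1 + a) * u) = R at h1 ⊢
      field_simp at h1 ⊢
      refine mul_left_cancel₀ ha0 ?_
      linear_combination (norm := (ring_nf; simp [CharTwo.two_eq_zero, four_eq_zero, six_eq_zero])) h1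
    have h2 := eq_of_add_eq_zero ((mul_eq_zero.1 key).resolve_left hS)
    field_simp at h2
    linear_combination u * h2
  refine ⟨hτ, J 1 * 1, mul_ne_zero (h.J_ne 1 one_ne_zero) one_ne_zero, fun u hu => ?_⟩
  -- `u = m + l ρ`
  set l := (u + c u) / (ρ + c ρ) with hl
  have hlf : c l = l := by rw [hl, map_div₀, map_add, map_add, h.invol, h.invol, add_comm (c u), add_comm (c ρ)]
  have hls : l * (ρ + c ρ) = u + c u := by rw [hl, div_mul_cancel₀ _ hsum]
  set m := u + l * ρ with hm
  have hmf : c m = m := by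
    rw [hm, map_add, map_mul, hlf]
    linear_combination (norm := (ring_nf; simp [CharTwo.two_eq_zero, four_eq_zero, six_eq_zero])) hls
  have hu' : u = m + l * ρ := by rw [hm, CharTwo.add_cancel_right]
  rcases eq_or_ne l 0 with hl0 | hl0
  · rw [hl0, zero_mul, add_zero] at hu'
    have hu1 : u ∈ H := h.scalars u hu (by rw [hu']; exact hmf)
    have := hJ u hu1 1 one_ne_zero
    rwa [mul_one u] at this
  have hlH := h.scalars l hl0 hlf
  rcases eq_or_ne m 0 with hm0 | hm0
  · rw [hm0, zero_add] at hu'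
    have := hJ u (hu' ▸ h.mul_mem l hlH ρ hρ) 1 one_ne_zero
    rwa [mul_one u] at this
  have hmH := h.scalars m hm0 hmf
  have haH : m⁻¹ * l * ρ ∈ H := h.mul_mem _ (h.mul_mem _ (h.inv_mem m hmH) l hlH) ρ hρ
  have ham : c (m⁻¹ * l * ρ) ≠ m⁻¹ * l * ρ := fun e => hρm (mul_left_cancel₀ (mul_ne_zero (inv_ne_zero hm0) hl0)
    (by rw [map_mul, map_mul, map_inv₀, hmf, hlf] at e; exact e))
  have e1 := hstep _ haH ham 1 one_ne_zero
  have e2 := hJ m hmH (1 + m⁻¹ * l * ρ) (fun e => ham (by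
    rw [← eq_of_add_eq_zero e, map_one]))
  rw [show m * (1 + m⁻¹ * l * ρ) = u by rw [hu']; field_simp] at e2
  rw [mul_one (1 + m⁻¹ * l * ρ)] at e1
  rw [e2, e1]

/-- The cocycle differs from `c u * v` by a coboundary `b`: it is `c u * v` or `u * c v`. -/
theorem normal_cocycle (hν : ∀ u, ν u = c u * u) {ρ : F} (hρ : ρ ∈ H) (hρ1 : c ρ * ρ = 1) (hρne : ρ ≠ 1)
    (b : F → F) (hb : ∀ u v : F, G u v = c u * v + b (u + v) + b u + b v)
    (hbs : ∀ a ∈ H, ∀ u : F, b (a * u) = c a * a * b u) :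
    (∀ u v : F, G u v = c u * v) ∨ (∀ u v : F, G u v = u * c v) := by
  set z := ρ * ρ with hz
  have hzH : z ∈ H := h.mul_mem ρ hρ ρ hρ
  have hz1 : c z * z = 1 := by rw [hz, map_mul, mul_mul_mul_comm, hρ1, one_mul]
  have hb0 : b 0 = 0 := by
    have h1 := h.G_zero 0
    rw [hb] at h1
    simp only [map_zero, mul_zero, add_zero, zero_add] at h1
    linear_combination (norm := (ring_nf; simp [CharTwo.two_eq_zero, four_eq_zero, six_eq_zero])) h1
  have hsq : ∀ w ∈ H, c w * w = 1 → w ≠ 1 → ∀ u : F, u ≠ 0 →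
      π (w * w) * (w * w + b u / ν u * (w * w + c (w * w))) = 1 := by
    intro w hw hw1 hwne u hu
    have hwm : c w ≠ w := fun e => hwne (eq_one_of_sq (by rw [e] at hw1; exact hw1))
    have hws : w + c w ≠ 0 := fun e => hwm (eq_of_add_eq_zero e).symm
    have hsc : w + c w ∈ H := h.scalars _ hws (by rw [map_add, h.invol, add_comm])
    have ha : 1 + w * w ∈ H := by
      rw [show 1 + w * w = (w + c w) * w by rw [add_mul, hw1, add_comm]]
      exact h.mul_mem _ hsc w hw
    have hbb : 1 + (1 + w * w) = w * w := by rw [← add_assoc, CharTwo.add_self_eq_zero, zero_add]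
    have ham : c (1 + w * w) ≠ 1 + w * w := fun e => hwm (eq_of_mul_self (by
      rw [map_add, map_one, map_mul] at e
      exact add_left_cancel e))
    obtain ⟨e1, e2⟩ := h.unit_scale ha ham (by rw [hbb]; exact h.mul_mem w hw w hw) hu
    rw [hbb] at e1
    have hν0 := h.ν_ne u hu
    have hg : G u ((1 + w * w) * u) = ν u * (1 + w * w) + b u * (w * w + c (w * w)) := by
      rw [hb, show u + (1 + w * w) * u = (1 + (1 + w * w)) * u by ring, hbb, hbs _ (h.mul_mem w hw w hw),
        hbs _ ha, hν]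
      simp only [map_add, map_one, map_mul]
      linear_combination (norm := (ring_nf; simp [CharTwo.two_eq_zero, four_eq_zero, six_eq_zero])) (0 : F) = 0
    rw [hg] at e2
    refine Eq.trans ?_ e1
    congr 1
    field_simp
    linear_combination (norm := (ring_nf; simp [CharTwo.two_eq_zero, four_eq_zero, six_eq_zero])) e2
  have hzne : z ≠ 1 := fun e => hρne (eq_one_of_sq e)
  have hzm : c z ≠ z := fun e => hzne (eq_one_of_sq (by rw [e] at hz1; exact hz1))
  have hzs : z + c z ≠ 0 := fun e => hzm (eq_of_add_eq_zero e).symm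
  have hcoef : ∀ u : F, u ≠ 0 → b u = 0 ∨ b u = ν u := by
    intro u hu
    have e1 := hsq ρ hρ hρ1 hρne u hu
    have e2 := hsq z hzH hz1 hzne u hu
    rw [← hz] at e1
    rw [h.π_mul z hzH z hzH] at e2
    have hν0 := h.ν_ne u hu
    set β := b u / ν u with hβ
    have e3 : z * z + β * (z * z + c (z * z)) = (z + β * (z + c z)) * (z + β * (z + c z)) := by
      have hp := h.π_ne z hzH
      refine mul_left_cancel₀ (mul_ne_zero hp hp) (e2.trans ?_)
      linear_combination (-(π z * (z + β * (z + c z))) - 1) * e1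
    have e4 : β * (β + 1) * ((z + c z) * (z + c z)) = 0 := by
      rw [map_mul] at e3
      linear_combination (norm := (ring_nf; simp [CharTwo.two_eq_zero, four_eq_zero, six_eq_zero])) e3
    rcases mul_eq_zero.1 ((mul_eq_zero.1 e4).resolve_right (mul_ne_zero hzs hzs)) with h0 | h0
    · exact Or.inl ((div_eq_zero_iff.1 h0).resolve_right hν0)
    · exact Or.inr ((div_eq_one_iff_eq hν0).1 (eq_of_add_eq_zero h0))
  have hsame : ∀ u v : F, u ≠ 0 → v ≠ 0 → b u = 0 → b v = 0 := by
    intro u v hu hv hb1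
    refine (hcoef v hv).resolve_right fun hb2 => hzm ?_
    have e1 := hsq ρ hρ hρ1 hρne u hu
    have e2 := hsq ρ hρ hρ1 hρne v hv
    rw [← hz, hb1, zero_div, zero_mul, add_zero] at e1
    rw [← hz, hb2, div_self (h.ν_ne v hv), one_mul, ← add_assoc, CharTwo.add_self_eq_zero, zero_add] at e2
    exact (mul_left_cancel₀ (h.π_ne z hzH) (e1.trans e2.symm)).symm
  rcases hcoef 1 one_ne_zero with h1 | h1
  · left
    have hall : ∀ u : F, b u = 0 := fun u => (eq_or_ne u 0).elim (fun e => e ▸ hb0)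
      fun hu => hsame 1 u one_ne_zero hu h1
    intro u v
    rw [hb, hall, hall, hall, add_zero, add_zero, add_zero]
  · right
    have hall : ∀ u : F, b u = c u * u := fun u => by
      rcases eq_or_ne u 0 with rfl | hu
      · rw [hb0, map_zero, zero_mul]
      rcases hcoef u hu with h2 | h2
      · exact absurd (h1.symm.trans (hsame u 1 hu one_ne_zero h2)) (h.ν_ne 1 one_ne_zero)
      · rw [h2, hν]
    intro u v
    rw [hb, hall, hall, hall, map_add]
    linear_combination (norm := (ring_nf; simp [CharTwo.two_eq_zero, four_eq_zero, six_eq_zero])) (0 : F) = 0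

/-- **The normal form.** -/
theorem normal (hν : ∀ u, ν u = c u * u) {ρ : F} (hρ : ρ ∈ H) (hρ1 : c ρ * ρ = 1) (hρne : ρ ≠ 1)
    (b : F → F) (hb : ∀ u v : F, G u v = c u * v + b (u + v) + b u + b v)
    (hbs : ∀ a ∈ H, ∀ u : F, b (a * u) = c a * a * b u) :
    ∃ d : F →+* F, Function.Bijective d ∧ (∀ u v : F, G u v = c (d u) * d v) ∧
      (∀ u, τ u = c (d u) * d u) ∧ ∃ C : F, C ≠ 0 ∧ ∀ u : F, u ≠ 0 → J u * d u = C := by
  rcases h.normal_cocycle hν hρ hρ1 hρne b hb hbs with h1 | h1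
  · exact ⟨RingHom.id F, Function.bijective_id, h1, h.normal_aux hν hρ hρ1 hρne h1⟩
  · have hρc : c ρ ∈ H := by
      rw [eq_inv_of_mul_eq_one_left hρ1]
      exact h.inv_mem ρ hρ
    obtain ⟨h2, C, hC, hJC⟩ := h.twist.normal_aux (ρ := ρ)
      (fun u => by show ν (c u) = _; rw [hν, h.invol, mul_comm]) hρc hρ1 hρne
      (fun u v => by show G (c u) (c v) = _; rw [h1, h.invol])
    refine ⟨c, ⟨c.injective, fun x => ⟨c x, h.invol x⟩⟩, fun u v => by rw [h1, h.invol], fun u => ?_, C, hC,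
      fun u hu => ?_⟩
    · simpa only [Function.comp_apply, h.invol] using h2 (c u)
    · simpa only [Function.comp_apply, h.invol] using hJC (c u) ((map_ne_zero c).2 hu)

/-- **No second shape of squares.** -/
theorem false_of_cube {ω : F} (hω : ω ∈ H) (hω1 : c ω * ω = 1) (hω2 : ω * ω + ω + 1 = 0)
    (hνω : ∀ u, ν (ω * u) = ν u) (hν3 : ∀ x : F, c x = x → ∀ u, ν (x * u) = x ^ 3 * ν u) {l : F}
    (hl : c l = l) (hl0 : l ≠ 0) (hl1 : l ≠ 1) (hl7 : l ^ 7 = 1) : False := by
  have hlH := h.scalars l hl0 hl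
  have hω0 := h.H_ne ω hω
  have hωne : ω ≠ 1 := fun e => one_ne_zero (α := F) (by
    rw [e] at hω2; linear_combination (norm := (ring_nf; simp [CharTwo.two_eq_zero, four_eq_zero, six_eq_zero])) hω2)
  have hcω : c ω = ω + 1 := by
    refine mul_right_cancel₀ hω0 (hω1.trans ?_)
    linear_combination (norm := (ring_nf; simp [CharTwo.two_eq_zero, four_eq_zero, six_eq_zero])) hω2
  have hω2H : ω * ω ∈ H := h.mul_mem ω hω ω hω
  have hone : ν 1 ≠ 0 := h.ν_ne 1 one_ne_zero
  -- the multiplier at `ω` and `l`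
  set p := π l with hp
  set w := π ω with hw
  have hp0 : p ≠ 0 := h.π_ne l hlH
  have hw0 : w ≠ 0 := h.π_ne ω hω
  have hcp : c p = p := (h.π_fix l hlH).2 hl
  have hw1 : c w * w = 1 := mul_left_cancel₀ hone (by
    have := h.ν_smul hω 1
    rw [hνω] at this
    linear_combination this)
  have hw2 : w * w + w + 1 = 0 := by
    have hwne : w ≠ 1 := fun e => hωne (eq_one_of_sq (by
      have := (h.π_fix ω hω).1 (by rw [← hw, e, map_one])
      rw [this] at hω1; exact hω1))
    have h3 : w * w * w = 1 := by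
      rw [hw, ← h.π_mul ω hω ω hω, ← h.π_mul _ hω2H ω hω, ← h.π_one]
      congr 1
      linear_combination (norm := (ring_nf; simp [CharTwo.two_eq_zero, four_eq_zero, six_eq_zero])) (ω + 1) * hω2
    refine (mul_eq_zero.1 (?_ : (w + 1) * (w * w + w + 1) = 0)).resolve_left fun e => hwne (eq_of_add_eq_zero e)
    linear_combination (norm := (ring_nf; simp [CharTwo.two_eq_zero, four_eq_zero, six_eq_zero])) h3
  have hcw : c w = w + 1 := by
    refine mul_right_cancel₀ hw0 (hw1.trans ?_)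
    linear_combination (norm := (ring_nf; simp [CharTwo.two_eq_zero, four_eq_zero, six_eq_zero])) hw2
  have hpl : l ^ 3 * (p * p) = 1 := mul_left_cancel₀ hone (by
    have := h.ν_smul hlH 1
    rw [hν3 l hl, ← hp, hcp] at this
    linear_combination this)
  have hpinv : p⁻¹ = l ^ 5 := by
    refine eq_of_mul_self ?_
    rw [← mul_inv, ← eq_inv_of_mul_eq_one_left hpl]
    linear_combination (-l ^ 3) * hl7
  set n := (1 + l * ω) * (1 + l * (ω * ω)) with hn
  have hn' : n = 1 + l + l * l := by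
    rw [hn]
    linear_combination (norm := (ring_nf; simp [CharTwo.two_eq_zero, four_eq_zero, six_eq_zero])) (l + (ω + 1) * l * l) * hω2
  have hnfix : c n = n := by rw [hn', map_add, map_add, map_one, map_mul, hl]
  have hn0 : n ≠ 0 := fun e => hl1 (by
    have e3 : l ^ 3 = 1 := by
      rw [hn'] at e
      linear_combination (norm := (ring_nf; simp [CharTwo.two_eq_zero, four_eq_zero, six_eq_zero])) (l + 1) * e
    calc l = l * (l ^ 3) ^ 2 := by rw [e3, one_pow, mul_one]
      _ = l ^ 7 := by ring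
      _ = 1 := hl7)
  have hnH := h.scalars n hn0 hnfix
  have hmov : ∀ ζ : F, ζ = ω ∨ ζ = ω * ω → c (l * ζ) ≠ l * ζ := by
    rintro ζ (rfl | rfl) e <;> refine hωne (eq_one_of_sq ?_) <;>
      rw [map_mul, hl] at e <;> have e' := mul_left_cancel₀ hl0 e
    · rwa [e'] at hω1
    · rw [map_mul] at e'
      rwa [eq_of_mul_self e'] at hω1
  -- one step
  have step : ∀ ζ ∈ H, ∀ v : F, v ≠ 0 → c (π ζ) + π ζ = 1 → c (π ζ) * π ζ = 1 → c (l * ζ) ≠ l * ζ →
      1 + l ^ 5 + l ^ 3 = τ v / τ ((1 + l * ζ) * v) * (ν ((1 + l * ζ) * v) / ν v) ^ 2 := by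
    intro ζ hζ v hv e1 e2 e3
    have haH := h.mul_mem l hlH ζ hζ
    have hv' : (1 + l * ζ) * v ≠ 0 := mul_ne_zero (fun e => e3 (by rw [← eq_of_add_eq_zero e, map_one])) hv
    have h1 := h.ratio haH e3 hv
    rw [show v + l * ζ * v = (1 + l * ζ) * v by ring, h.π_mul l hlH ζ hζ, ← hp, map_mul, hcp, mul_inv, hpinv] at h1
    have h2 : 1 + l ^ 5 + l ^ 3 = c (1 + l ^ 5 * (c (π ζ))⁻¹) * (1 + l ^ 5 * (c (π ζ))⁻¹) := by
      rw [← eq_inv_of_mul_eq_one_right e2, map_add, map_one, map_mul, map_pow, hl]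
      linear_combination
        (-(l ^ 5)) * e1 - (l ^ 10) * e2 - (l ^ 3) * hl7
    rw [h2, h1, map_mul, map_div₀, map_div₀, h.ν_fix, h.ν_fix]
    obtain ⟨C, -, hC⟩ := h.τ_norm
    have hJv := h.J_ne v hv
    have hτv := h.τ_ne hv
    have hτv' := h.τ_ne hv'
    have hcJ : c (J v) ≠ 0 := (map_ne_zero c).2 hJv
    have hν0 := h.ν_ne v hv
    have e4 : c (J ((1 + l * ζ) * v)) / c (J v) * (J ((1 + l * ζ) * v) / J v) = τ v / τ ((1 + l * ζ) * v) := by
      have e5 := (hC _ hv).trans (hC _ hv').symm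
      field_simp
      linear_combination -e5
    rw [← e4]
    ring
  have e1 := step ω hω 1 one_ne_zero
    (by rw [← hw, hcw]; linear_combination (norm := (ring_nf; simp [CharTwo.two_eq_zero, four_eq_zero, six_eq_zero])) (0 : F) = 0) hw1
    (hmov ω (Or.inl rfl))
  have hu1 : (1 + l * ω) * 1 ≠ 0 := mul_ne_zero (fun e => hmov ω (Or.inl rfl) (by
    rw [← eq_of_add_eq_zero e, map_one])) one_ne_zero
  have e2 := step (ω * ω) hω2H _ hu1
    (by rw [h.π_mul ω hω ω hω, ← hw, map_mul, hcw]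
        linear_combination (norm := (ring_nf; simp [CharTwo.two_eq_zero, four_eq_zero, six_eq_zero])) (0 : F) = 0)
    (by rw [h.π_mul ω hω ω hω, ← hw, map_mul, mul_mul_mul_comm, hw1, one_mul])
    (hmov _ (Or.inr rfl))
  rw [show (1 + l * (ω * ω)) * ((1 + l * ω) * 1) = n * 1 by rw [hn]; ring] at e2
  have hν_n := hν3 n hnfix 1
  have hτ_n := h.τ_smul hnH (one_ne_zero (α := F))
  have hν_n' := h.ν_smul hnH 1
  have hτu1 := h.τ_ne hu1
  have hνu1 := h.ν_ne _ hu1
  have hτn := h.τ_ne (mul_ne_zero hn0 (one_ne_zero (α := F)))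
  have hπn := mul_ne_zero ((map_ne_zero c).2 (h.π_ne n hnH)) (h.π_ne n hnH)
  have key : (1 + l ^ 5 + l ^ 3) * (1 + l ^ 5 + l ^ 3) = n ^ 3 := by
    have e12 : (1 + l ^ 5 + l ^ 3) * (1 + l ^ 5 + l ^ 3) = τ 1 / τ (n * 1) * (ν (n * 1) / ν 1) ^ 2 := by
      calc (1 + l ^ 5 + l ^ 3) * (1 + l ^ 5 + l ^ 3) = _ * _ := congrArg₂ (· * ·) e1 e2
        _ = _ := by
          generalize τ ((1 + l * ω) * 1) = T₁ at hτu1 ⊢
          generalize ν ((1 + l * ω) * 1) = N₁ at hνu1 ⊢
          field_simp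
    rw [e12, ← hτ_n, mul_div_cancel_left₀ _ hτn, hν_n, mul_div_cancel_right₀ _ hone]
    rw [hν_n] at hν_n'
    have h3 : n ^ 3 * (c (π n) * π n) = 1 := mul_left_cancel₀ hone (by linear_combination hν_n')
    linear_combination (n ^ 3) * h3
  rw [hn'] at key
  have h4 : l * (1 + l ^ 4) = 0 := by
    linear_combination (norm := (ring_nf; simp [CharTwo.two_eq_zero, four_eq_zero, six_eq_zero])) key + l ^ 3 * hl7
  have h5 : l ^ 4 = 1 := (eq_of_add_eq_zero ((mul_eq_zero.1 h4).resolve_left hl0)).symm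
  exact hl1 (by
    have h6 : l * l = 1 := eq_one_of_sq (by linear_combination h5)
    exact eq_one_of_sq h6)

end Ident

end CfsgLib.SuzukiOne
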