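import Cfsg.Agent.Lib.Bender.Suzuki.IdentNormal
import Cfsg.Agent.Lib.Bender.Suzuki.Interface
import Mathlib.GroupTheory.OrderOfElement

/-!
# Suzuki's theorem: the swap is the unitary one

The data of a swap of the unital satisfy the functional identity, and its normal form gives the formula.
-/

set_option autoImplicit false

namespace CfsgLib.Bender.Suzuki.Unital

open CfsgLib.SuzukiOne

variable {F : Type*} [Field F] [CharP F 2] {bar : F →+* F} {p : ℕ}

/-- A function additive and invariant under a multiplier other than one vanishes. -/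
theorem eq_zero_of_invariant (L : F → F) (hadd : ∀ u v, L (u + v) = L u + L v) {ζ : F} (hζ : ζ ≠ 1)
    (hinv : ∀ u, L (ζ * u) = L u) (u : F) : L u = 0 := by
  have h1 : (1 + ζ) ≠ 0 := fun e => hζ (eq_of_add_eq_zero e).symm
  have h2 := hadd (u / (1 + ζ)) (ζ * (u / (1 + ζ)))
  rwa [hinv, CharTwo.add_self_eq_zero, show u / (1 + ζ) + ζ * (u / (1 + ζ)) = u by
    rw [show u / (1 + ζ) + ζ * (u / (1 + ζ)) = (1 + ζ) * (u / (1 + ζ)) by ring, mul_div_cancel₀ _ h1]] at h2

namespace SwapData

variable (D : SwapData bar p)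

/-- The multipliers. -/
def mults : Set F := {x | x ≠ 0 ∧ ∃ (l : F) (k : ℕ), bar l = l ∧ x = l * D.ζ ^ k}

open Classical in
/-- The shift, normalised at zero. -/
noncomputable def shift (u : F) : F := if u = 0 then 0 else D.b u

theorem shift_of_ne {u : F} (hu : u ≠ 0) : D.shift u = D.b u := if_neg hu

theorem shift_zero : D.shift 0 = 0 := if_pos rfl

/-- The cocycle. -/
noncomputable def cocycle (u v : F) : F := bar u * v + D.shift (u + v) + D.shift u + D.shift v

/-- The trace of the coordinate. -/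
noncomputable def traceFn (u : F) : F := bar u * u + D.shift u + bar (D.shift u)

theorem zeta_ne_zero : D.ζ ≠ 0 := fun e => by
  have h1 := pow_orderOf_eq_one D.ζ
  rw [D.ζ_order, e, zero_pow D.prime.ne_zero] at h1
  exact zero_ne_one h1

theorem zeta_ne_one : D.ζ ≠ 1 := fun e => D.prime.ne_one (by rw [← D.ζ_order, e, orderOf_one])

theorem bar_zeta_mul : bar D.ζ * D.ζ = 1 := by rw [D.ζ_bar, inv_mul_cancel₀ D.zeta_ne_zero]

theorem shift_smul {x : F} {l : F} {k : ℕ} (hl : bar l = l) (hl0 : l ≠ 0) (hx : x = l * D.ζ ^ k) (u : F) :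
    D.shift (x * u) = bar x * x * D.shift u := by
  have hN : bar x * x = l ^ 2 := by
    rw [hx, map_mul, map_pow, hl, show l * bar D.ζ ^ k * (l * D.ζ ^ k) = l ^ 2 * (bar D.ζ * D.ζ) ^ k by ring,
      D.bar_zeta_mul, one_pow, mul_one]
  rcases eq_or_ne u 0 with rfl | hu
  · simp [shift_zero]
  have hz : ∀ j : ℕ, D.b (D.ζ ^ j * u) = D.b u := by
    intro j
    induction j with
    | zero => rw [pow_zero, one_mul]
    | succ j ih => rw [pow_succ', mul_assoc, D.b_zeta, ih]
  have hx0 : x ≠ 0 := hx ▸ mul_ne_zero hl0 (pow_ne_zero _ D.zeta_ne_zero)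
  rw [D.shift_of_ne (mul_ne_zero hx0 hu), D.shift_of_ne hu, hN, hx, mul_assoc, D.b_real l hl hl0, hz]

theorem J_mult {x : F} {l : F} {k : ℕ} (hl : bar l = l) (hl0 : l ≠ 0) (hx : x = l * D.ζ ^ k) {u : F} (hu : u ≠ 0) :
    D.J (x * u) = D.ζ ^ (D.m * k) / l * D.J u := by
  have hz : ∀ j : ℕ, D.J (D.ζ ^ j * u) = D.ζ ^ (D.m * j) * D.J u := by
    intro j
    induction j with
    | zero => simp
    | succ j ih =>
      rw [pow_succ', mul_assoc, D.J_zeta _ (mul_ne_zero (pow_ne_zero _ D.zeta_ne_zero) hu), ih, Nat.mul_succ, pow_add]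
      ring
  rw [hx, mul_assoc, D.J_real l hl hl0 _ (mul_ne_zero (pow_ne_zero _ D.zeta_ne_zero) hu), hz]
  ring

include D in
theorem exists_point (u : F) : ∃ z ∈ Pts bar, z.1 = u := by
  obtain ⟨x, hx⟩ := D.nontriv
  have hs : x + bar x ≠ 0 := fun e => hx (eq_of_add_eq_zero e).symm
  refine ⟨(u, bar u * u * x / (x + bar x)), ?_, rfl⟩
  show bar u * u * x / (x + bar x) + bar (bar u * u * x / (x + bar x)) = bar u * u
  rw [map_div₀, map_mul, map_mul, map_add, D.bar_bar, D.bar_bar, add_comm (bar x), ← add_div,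
    div_eq_iff hs]
  ring

theorem trace_norm {u : F} (hu : u ≠ 0) : D.traceFn u * (bar (D.J u) * D.J u) = D.c₀ := by
  obtain ⟨⟨u', w⟩, hz, rfl⟩ := D.exists_point u
  rw [← D.herm _ hz hu, traceFn, D.shift_of_ne hu]
  have hw : w + bar w = bar u' * u' := hz
  rw [← hw]
  simp only [map_add]
  ring

/-- The coordinates satisfy the identity. -/
theorem toIdent : Ident bar D.mults (fun x => D.J x / D.J 1) (fun u => bar u * u) D.traceFn D.J D.cocycle := by
  have hπ : ∀ {x l : F} {k : ℕ}, bar l = l → l ≠ 0 → x = l * D.ζ ^ k → D.J x / D.J 1 = D.ζ ^ (D.m * k) / l :=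
    fun {x l k} hl hl0 hx => by
      have := D.J_mult hl hl0 hx one_ne_zero
      rw [mul_one] at this
      rw [this, mul_div_cancel_right₀ _ (D.J_ne 1 one_ne_zero)]
  have hmem : ∀ {x : F}, x ∈ D.mults → ∃ (l : F) (k : ℕ), bar l = l ∧ l ≠ 0 ∧ x = l * D.ζ ^ k := by
    rintro x ⟨hx0, l, k, hl, rfl⟩
    exact ⟨l, k, hl, fun e => hx0 (by rw [e, zero_mul]), rfl⟩
  have hpd : ∀ j : ℕ, p ∣ j ↔ D.ζ ^ j = 1 := fun j => by
    have h0 := orderOf_dvd_iff_pow_eq_one (x := D.ζ) (n := j)
    rwa [D.ζ_order] at h0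
  have hfix : ∀ j : ℕ, bar (D.ζ ^ j) = D.ζ ^ j ↔ p ∣ j := by
    intro j
    rw [hpd]
    constructor
    · intro e
      refine eq_one_of_sq ?_
      have h1 : bar (D.ζ ^ j) * D.ζ ^ j = 1 := by rw [map_pow, ← mul_pow, D.bar_zeta_mul, one_pow]
      rwa [e] at h1
    · intro e
      rw [e, map_one]
  have hm : ¬ p ∣ D.m := fun hd => D.zeta_ne_one <| by
    refine D.J_inj _ _ D.zeta_ne_zero one_ne_zero ?_
    have h2 := D.J_zeta 1 one_ne_zero
    rwa [mul_one, (hpd _).1 hd, one_mul] at h2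
  refine
    { invol := D.bar_bar
      H_ne := fun a ha => ha.1
      mul_mem := ?_
      inv_mem := ?_
      scalars := fun x hx0 hx => ⟨hx0, x, 0, hx, by simp⟩
      π_mul := ?_
      π_ne := fun a ha => div_ne_zero (D.J_ne a ha.1) (D.J_ne 1 one_ne_zero)
      π_fix := ?_
      J_ne := D.J_ne
      J_smul := ?_
      τ_zero := by simp [traceFn, shift_zero]
      τ_fix := ?_
      τ_norm := ⟨D.c₀, D.c₀_ne, fun u hu => D.trace_norm hu⟩
      ν_fix := fun u => by rw [map_mul, D.bar_bar, mul_comm]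
      ν_ne := fun u hu => mul_ne_zero ((map_ne_zero bar).2 hu) hu
      G_zero := fun u => ?_
      G_diag := fun u => ?_
      G_cocycle := fun u v w => ?_
      G_smul := ?_
      G_tr := fun u v => ?_
      star := ?_ }
  · rintro a ⟨ha0, l, k, hl, rfl⟩ b ⟨hb0, l', k', hl', rfl⟩
    exact ⟨mul_ne_zero ha0 hb0, l * l', k + k', by rw [map_mul, hl, hl'], by rw [pow_add]; ring⟩
  · rintro a ⟨ha0, l, k, hl, rfl⟩
    refine ⟨inv_ne_zero ha0, l⁻¹, (p - 1) * k, by rw [map_inv₀, hl], ?_⟩
    rw [mul_inv]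
    congr 1
    refine inv_eq_of_mul_eq_one_left ?_
    rw [← pow_add, ← Nat.succ_mul, Nat.succ_eq_add_one, Nat.sub_add_cancel D.prime.pos, pow_mul,
      (hpd p).1 dvd_rfl, one_pow]
  · intro a ha b hb
    obtain ⟨l, k, hl, hl0, rfl⟩ := hmem ha
    obtain ⟨l', k', hl', hl0', rfl⟩ := hmem hb
    show D.J _ / _ = D.J _ / _ * (D.J _ / _)
    rw [hπ hl hl0 rfl, hπ hl' hl0' rfl, hπ (l := l * l') (k := k + k') (by rw [map_mul, hl, hl'])
      (mul_ne_zero hl0 hl0') (by rw [pow_add]; ring), Nat.mul_add, pow_add]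
    field_simp
  · intro a ha
    obtain ⟨l, k, hl, hl0, rfl⟩ := hmem ha
    show bar (D.J _ / _) = D.J _ / _ ↔ _
    rw [hπ hl hl0 rfl, map_div₀, hl, div_left_inj' hl0, hfix, map_mul, hl, mul_right_inj' hl0, hfix]
    exact ⟨fun hd => (D.prime.dvd_mul.1 hd).resolve_left hm, fun hd => hd.trans (dvd_mul_left k D.m)⟩
  · intro a ha u hu
    obtain ⟨l, k, hl, hl0, rfl⟩ := hmem ha
    show D.J _ = D.J _ / _ * _
    rw [hπ hl hl0 rfl, D.J_mult hl hl0 rfl hu]
  · intro u
    simp only [traceFn, map_add, map_mul, D.bar_bar]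
    ring
  · simp only [cocycle, map_zero, zero_mul, zero_add, shift_zero, add_zero, CharTwo.add_self_eq_zero]
  · simp only [cocycle, CharTwo.add_self_eq_zero, shift_zero, add_zero]
    rw [add_assoc, CharTwo.add_self_eq_zero, add_zero]
  · simp only [cocycle, map_add, add_assoc u v w]
    linear_combination (norm := (ring_nf; simp [CharTwo.two_eq_zero])) (0 : F) = 0
  · intro a ha u v
    obtain ⟨l, k, hl, hl0, rfl⟩ := hmem ha
    show D.cocycle _ _ * (bar (D.J _ / _) * (D.J _ / _)) = _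
    rw [hπ hl hl0 rfl]
    simp only [cocycle, ← mul_add, D.shift_smul hl hl0 rfl, map_mul, map_div₀, map_pow, hl]
    have h1 : bar D.ζ ^ k * D.ζ ^ k = 1 := by rw [← mul_pow, D.bar_zeta_mul, one_pow]
    have h2 : bar D.ζ ^ (D.m * k) * D.ζ ^ (D.m * k) = 1 := by rw [← mul_pow, D.bar_zeta_mul, one_pow]
    field_simp
    linear_combination (bar u * v + D.shift (u + v) + D.shift u + D.shift v) *
      ((bar D.ζ ^ (D.m * k) * D.ζ ^ (D.m * k)) * h1 + h2)
  · simp only [cocycle, traceFn, map_add, map_mul, D.bar_bar]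
    linear_combination (norm := (ring_nf; simp [CharTwo.two_eq_zero])) (0 : F) = 0
  · -- the key equation
    intro a ha hm' u hu
    obtain ⟨l, k, hl, hl0, hax⟩ := hmem ha
    set s : F := D.J a / D.J 1 with hs
    have hs' : s = D.ζ ^ (D.m * k) / l := hπ hl hl0 hax
    have hs0 : s ≠ 0 := div_ne_zero (D.J_ne a ha.1) (D.J_ne 1 one_ne_zero)
    clear_value s
    have hsm : bar s ≠ s := fun e => hm' (by
      rw [hs', map_div₀, hl, div_left_inj' hl0, hfix] at e
      rw [hax, map_mul, hl, (hfix k).2 ((D.prime.dvd_mul.1 e).resolve_left hm)])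
    have hS : s + bar s ≠ 0 := fun e => hsm (eq_of_add_eq_zero e).symm
    have hs1 : 1 + s ≠ 0 := fun e => hsm (by rw [← eq_of_add_eq_zero e, map_one])
    have hτ0 : D.traceFn u ≠ 0 := fun e => D.c₀_ne (by rw [← D.trace_norm hu, e, zero_mul])
    set τ := D.traceFn u with hτdef
    have hτf : bar τ = τ := by
      simp only [hτdef, traceFn, map_add, map_mul, D.bar_bar]; ring
    set X : F := (1 + s) * τ / (s + bar s) with hX
    have hX0 : X ≠ 0 := div_ne_zero (mul_ne_zero hs1 hτ0) hS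
    have hXtr : X + bar X = τ := by
      rw [hX, map_div₀, map_mul, map_add, map_add, map_one, hτf, D.bar_bar, add_comm (bar s), ← add_div,
        div_eq_iff hS]
      linear_combination (norm := (ring_nf; simp [CharTwo.two_eq_zero])) (0 : F) = 0
    set ν := bar u * u with hν
    set w : F := X + ν + D.b u with hw
    have hz : ((u, w) : F × F) ∈ Pts bar := by
      show w + bar w = bar u * u
      rw [hw, ← hν]
      simp only [map_add]
      have h1 : τ = ν + D.b u + bar (D.b u) := by rw [hτdef, traceFn, D.shift_of_ne hu, hν]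
      have h2 : bar ν = ν := by rw [hν, map_mul, D.bar_bar, mul_comm]
      linear_combination (norm := (ring_nf; simp [CharTwo.two_eq_zero])) hXtr + h1 + h2
    have hw' : bar w + w = ν := by rw [add_comm]; exact hz
    have hzi : pinv bar (u, w) ∈ Pts bar := by
      show bar w + bar (bar w) = bar u * u
      rw [D.bar_bar]; exact hw'
    have hθi : (pinv bar (u, w)).2 + D.b u = X := by
      show bar w + D.b u = X
      rw [eq_of_add_eq_zero (show bar w + (w + ν) = 0 by rw [← add_assoc, hw', CharTwo.add_self_eq_zero]), hw]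
      linear_combination (norm := (ring_nf; simp [CharTwo.two_eq_zero])) (0 : F) = 0
    set e : F := (s + bar s) / τ with he
    have hef : bar e = e := by rw [he, map_div₀, map_add, D.bar_bar, hτf, add_comm]
    have he0 : e ≠ 0 := div_ne_zero hS hτ0
    have heX : e * X = 1 + s := by rw [he, hX]; field_simp
    obtain ⟨h1θ, h1J⟩ := D.T_θ _ hzi hu
    set z1 := D.T (pinv bar (u, w)) with hz1
    have hz1m := D.T_mem _ hzi fun e0 => hu (congrArg Prod.fst e0)
    have h1u : z1.1 ≠ 0 := D.T_off _ hzi hu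
    rw [show (pinv bar (u, w)).1 = u from rfl, hθi] at h1θ h1J
    -- add `e`
    set z1' : F × F := pm bar z1 (0, e) with hz1'
    have hp : z1' = (z1.1, z1.2 + e) := by simp [hz1', pm]
    have hz1'm : z1' ∈ Pts bar := by
      rw [hp]
      show z1.2 + e + bar (z1.2 + e) = bar z1.1 * z1.1
      rw [map_add, hef]
      have := hz1m.1
      have this' : z1.2 + bar z1.2 = bar z1.1 * z1.1 := this
      linear_combination (norm := (ring_nf; simp [CharTwo.two_eq_zero])) this'
    obtain ⟨h2θ, h2J⟩ := D.T_θ _ hz1'm (by rw [hp]; exact h1u)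
    set z2 := D.T z1' with hz2
    have hθ1' : z1'.2 + D.b z1'.1 = s / X := by
      rw [hp]
      show z1.2 + e + D.b z1.1 = s / X
      rw [show z1.2 + e + D.b z1.1 = z1.2 + D.b z1.1 + e by ring, h1θ, eq_div_iff hX0, add_mul, inv_mul_cancel₀ hX0,
        heX, ← add_assoc, CharTwo.add_self_eq_zero, zero_add]
    rw [hθ1'] at h2θ h2J
    have hJ2 : D.J z2.1 = D.J (a * u) := by
      rw [h2J, hp]
      show s / X * D.J z1.1 = _
      rw [h1J, D.J_mult hl hl0 hax hu, ← hs']
      field_simp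
    have h2u : z2.1 = a * u := D.J_inj _ _ (D.T_off _ hz1'm (by rw [hp]; exact h1u)) (mul_ne_zero ha.1 hu) hJ2
    have hz2m := (D.T_mem _ hz1'm fun e0 => h1u (by rw [hp] at e0; exact congrArg Prod.fst e0)).1
    have hkey := D.key _ hz hu e hef he0
    rw [← hz1, ← hz1', ← hz2] at hkey
    have h3u : u + a * u ≠ 0 := fun e0 => hm' (by
      have : (1 + a) * u = 0 := by linear_combination e0
      rw [← eq_of_add_eq_zero ((mul_eq_zero.1 this).resolve_right hu), map_one])
    set z3 := pm bar (u, w) z2 with hz3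
    have hz3m : z3 ∈ Pts bar := by
      show w + z2.2 + bar u * z2.1 + bar (w + z2.2 + bar u * z2.1) = bar (u + z2.1) * (u + z2.1)
      simp only [map_add, map_mul, D.bar_bar]
      have e1 : w + bar w = bar u * u := hz
      have e2 : z2.2 + bar z2.2 = bar z2.1 * z2.1 := hz2m
      linear_combination e1 + e2
    have h31 : z3.1 = u + a * u := by rw [hz3]; show u + z2.1 = _; rw [h2u]
    obtain ⟨-, h3J⟩ := D.T_θ _ hz3m (by rw [h31]; exact h3u)
    obtain ⟨-, h0J⟩ := D.T_θ _ hz hu
    rw [hkey] at h3J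
    rw [h0J, h31] at h3J
    show (X + ν + X / s + D.cocycle u (a * u)) * D.J (u + a * u) = (X + ν) * D.J u
    have hz32 : z3.2 = w + z2.2 + bar u * (a * u) := by rw [hz3, ← h2u]; rfl
    rw [cocycle, D.shift_of_ne hu, D.shift_of_ne (mul_ne_zero ha.1 hu), D.shift_of_ne h3u]
    have hθ2 : z2.2 + D.b (a * u) = X / s := by rw [← h2u, h2θ, inv_div]
    rw [show (w : F) + D.b u = X + ν by rw [hw, CharTwo.add_cancel_right], hz32] at h3J
    rw [← hθ2, h3J]
    rw [show (X + ν + (z2.2 + D.b (a * u)) + (bar u * (a * u) + D.b (u + a * u) + D.b u + D.b (a * u))) =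
      (w + z2.2 + bar u * (a * u) + D.b (u + a * u)) by
      rw [hw]; linear_combination (norm := (ring_nf; simp [CharTwo.two_eq_zero])) (0 : F) = 0]

/-- **The swap is the unitary one.** -/
theorem swap_eq : ∀ z ∈ Pts bar, z ≠ 0 → D.T z = swap z := by
  intro z hz hz0
  obtain ⟨u, w⟩ := z
  have hu' : w + bar w = bar u * u := hz
  rcases eq_or_ne u 0 with rfl | hu
  · rw [map_zero, zero_mul] at hu'
    have hw : bar w = w := (eq_of_add_eq_zero hu').symm
    rw [D.T_E w hw fun e => hz0 (by rw [e]; rfl)]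
    simp [swap]
  have hI := D.toIdent
  have hρ : D.ζ ∈ D.mults := ⟨D.zeta_ne_zero, 1, 1, map_one bar, by simp⟩
  have hshift : ∀ x : F, D.shift (D.ζ * x) = D.shift x := fun x => by
    rw [D.shift_smul (l := 1) (k := 1) (map_one bar) one_ne_zero (by simp), D.bar_zeta_mul, one_mul]
  obtain ⟨hθ, hJ⟩ := D.T_θ _ hz hu
  have hT1 := D.T_off _ hz hu
  set z' := D.T (u, w) with hz'
  have hw0 : w + D.b u ≠ 0 := fun e => by
    have := D.herm _ hz hu
    rw [show w + D.b u = 0 from e, map_zero, add_zero, zero_mul] at this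
    exact D.c₀_ne this.symm
  rcases hI.normal_cocycle (fun _ => rfl) hρ D.bar_zeta_mul D.zeta_ne_one D.shift (fun _ _ => rfl)
    (fun a ha x => by
      obtain ⟨ha0, l, k, hl, rfl⟩ := ha
      exact D.shift_smul hl (fun e => ha0 (by rw [e, zero_mul])) rfl x) with hG | hG
  · have hb : ∀ x, D.shift x = 0 := eq_zero_of_invariant _ (fun x y => by
      have h1 := hG x y
      simp only [cocycle] at h1
      linear_combination (norm := (ring_nf; simp [CharTwo.two_eq_zero])) h1) D.zeta_ne_one hshift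
    obtain ⟨-, C, hC, hJC⟩ := hI.normal_aux (fun _ => rfl) hρ D.bar_zeta_mul D.zeta_ne_one hG
    have hbu : ∀ x : F, x ≠ 0 → D.b x = 0 := fun x hx => (D.shift_of_ne hx).symm.trans (hb x)
    simp only [hbu u hu, hbu _ hT1, add_zero] at hθ hJ hw0
    refine Prod.ext ?_ hθ
    show z'.1 = u / w
    have h1 := hJC _ hT1
    rw [hJ, ← hJC u hu] at h1
    rw [eq_div_iff hw0]
    exact mul_left_cancel₀ (D.J_ne u hu) (by linear_combination h1)
  · have hb : ∀ x, D.shift x = bar x * x := fun x => eq_of_add_eq_zero <|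
      eq_zero_of_invariant (fun y => D.shift y + bar y * y) (fun x y => by
        have h1 := hG x y
        simp only [cocycle] at h1
        simp only [map_add]
        linear_combination (norm := (ring_nf; simp [CharTwo.two_eq_zero])) h1) D.zeta_ne_one (fun y => by
        show D.shift (D.ζ * y) + bar (D.ζ * y) * (D.ζ * y) = _
        rw [hshift, map_mul, mul_mul_mul_comm, D.bar_zeta_mul, one_mul]) x
    have hρc : bar D.ζ ∈ D.mults := by
      rw [D.ζ_bar]; exact hI.inv_mem _ hρ
    obtain ⟨-, C, hC, hJC⟩ := hI.twist.normal_aux (ρ := D.ζ)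
      (fun x => by show bar (bar x) * bar x = _; rw [D.bar_bar, mul_comm]) hρc D.bar_zeta_mul D.zeta_ne_one
      (fun x y => by show D.cocycle (bar x) (bar y) = _; rw [hG, D.bar_bar, mul_comm])
    have hJC' : ∀ x : F, x ≠ 0 → D.J x * bar x = C := fun x hx => by
      simpa only [Function.comp_apply, D.bar_bar] using hJC (bar x) ((map_ne_zero bar).2 hx)
    have hbu : ∀ x : F, x ≠ 0 → D.b x = bar x * x := fun x hx => (D.shift_of_ne hx).symm.trans (hb x)
    have hθu : w + D.b u = bar w := by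
      rw [hbu u hu, ← hu', ← add_assoc, CharTwo.add_self_eq_zero, zero_add]
    have hz'm : z'.2 + bar z'.2 = bar z'.1 * z'.1 := (D.T_mem _ hz hz0).1
    rw [hbu _ hT1, ← hz'm, ← add_assoc, CharTwo.add_self_eq_zero, zero_add, hθu] at hθ
    simp only [hθu] at hJ hw0
    have hw : z'.2 = w⁻¹ := bar.injective (by rw [hθ, map_inv₀])
    refine Prod.ext ?_ hw
    show z'.1 = u / w
    have h1 := hJC' _ hT1
    rw [hJ, ← hJC' u hu] at h1
    rw [eq_div_iff fun e => hw0 (by rw [e, map_zero])]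
    refine bar.injective ?_
    rw [map_mul]
    exact mul_left_cancel₀ (D.J_ne u hu) (by linear_combination h1)

end SwapData

end CfsgLib.Bender.Suzuki.Unital
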