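import Cfsg.Agent.Lib.Bender.Suzuki.Geom
import Cfsg.Agent.S1125
import Mathlib.Algebra.Order.Ring.Nat

/-!
# Suzuki's theorem: counting lines

When `|Q| = q ^ 3` no non-trivial element fixing the base line pointwise fixes another point.
-/

set_option autoImplicit false
set_option linter.style.haveILetI false
set_option linter.unusedSectionVars false

namespace CfsgLib.Bender.Suzuki

open MulAction CfsgLib.RootSub.Setup
open scoped Pointwise

theorem not_dvd_two_pow_add_one {f j : ℕ} (h1 : f < j) (h2 : j < 3 * f) : ¬ 2 ^ f + 1 ∣ 2 ^ j + 1 := by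
  intro h
  obtain ⟨i, rfl⟩ : ∃ i, j = f + i := ⟨j - f, by omega⟩
  have hi : 2 ^ f + 1 ∣ 2 ^ i - 1 := by
    have e : (2 ^ f + 1) * 2 ^ i = 2 ^ (f + i) + 1 + (2 ^ i - 1) := by
      have : 1 ≤ 2 ^ i := Nat.one_le_two_pow
      rw [add_mul, one_mul, ← pow_add]; omega
    exact (Nat.dvd_add_right h).1 (e ▸ Dvd.intro _ rfl)
  rcases Nat.lt_or_ge f i with hlt | hge
  · obtain ⟨l, rfl⟩ : ∃ l, i = f + l := ⟨i - f, by omega⟩
    have e : (2 ^ f + 1) * 2 ^ l = 2 ^ (f + l) - 1 + (2 ^ l + 1) := by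
      have : 1 ≤ 2 ^ (f + l) := Nat.one_le_two_pow
      rw [add_mul, one_mul, ← pow_add]; omega
    have h3 : 2 ^ f + 1 ≤ 2 ^ l + 1 := Nat.le_of_dvd (Nat.succ_pos _) ((Nat.dvd_add_right hi).1 (e ▸ Dvd.intro _ rfl))
    have h4 : 2 ^ l < 2 ^ f := Nat.pow_lt_pow_right (by norm_num) (by omega)
    omega
  · have h3 : 2 ^ i ≤ 2 ^ f := Nat.pow_le_pow_right (by norm_num) hge
    have h4 : 2 ≤ 2 ^ i := by
      calc 2 = 2 ^ 1 := rfl
        _ ≤ _ := Nat.pow_le_pow_right (by norm_num) (by omega)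
    have := Nat.le_of_dvd (by omega) hi
    omega

variable {G Ω : Type*} [Group G] [Finite G] [MulAction G Ω] {a : Ω} {t : G} {Q E K : Subgroup G} {s r : G}

namespace Setting

variable (S : Setting a t Q E K s r) (hr : r ∈ E)
include S hr

/-- Pairs of points of a set closed under lines, counted line by line. -/
theorem count_pairs (Φ : Set Ω)
    (hΦ : ∀ x ∈ Φ, ∀ y ∈ Φ, x ≠ y → ∀ Λ, IsLine a t E Λ → x ∈ Λ → y ∈ Λ → Λ ⊆ Φ) :
    Φ.ncard * (Φ.ncard - 1) =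
      Nat.card {Λ : Set Ω // IsLine a t E Λ ∧ Λ ⊆ Φ} * ((Nat.card E + 1) * Nat.card E) := by
  classical
  haveI := finite_points S.rank
  have e : {p : Φ × Φ // p.1 ≠ p.2} ≃
      Σ Λ : {Λ : Set Ω // IsLine a t E Λ ∧ Λ ⊆ Φ}, {p : Λ.1 × Λ.1 // p.1 ≠ p.2} := by
    refine (Equiv.ofBijective
      (fun q : Σ Λ : {Λ : Set Ω // IsLine a t E Λ ∧ Λ ⊆ Φ}, {p : Λ.1 × Λ.1 // p.1 ≠ p.2} =>
        (⟨(⟨q.2.1.1.1, q.1.2.2 q.2.1.1.2⟩, ⟨q.2.1.2.1, q.1.2.2 q.2.1.2.2⟩),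
          fun h => q.2.2 (Subtype.ext (congrArg (fun z : Φ => (z : Ω)) h))⟩ : {p : Φ × Φ // p.1 ≠ p.2}))
      ⟨?_, ?_⟩).symm
    · rintro ⟨⟨Λ, hΛ, hΛΦ⟩, ⟨⟨⟨x, hx⟩, y, hy⟩, hne⟩⟩ ⟨⟨Λ', hΛ', hΛΦ'⟩, ⟨⟨⟨x', hx'⟩, y', hy'⟩, hne'⟩⟩ h
      simp only [Subtype.mk.injEq, Prod.mk.injEq] at h
      obtain ⟨rfl, rfl⟩ := h
      obtain rfl : Λ = Λ' := (S.line_unique hr (x := x) (y := y) fun h => hne (Subtype.ext h)).unique
        ⟨hΛ, hx, hy⟩ ⟨hΛ', hx', hy'⟩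
      rfl
    · rintro ⟨⟨⟨x, hx⟩, y, hy⟩, hne⟩
      obtain ⟨Λ, ⟨hΛ, hxΛ, hyΛ⟩, -⟩ := S.line_unique hr (x := x) (y := y) fun h => hne (Subtype.ext h)
      exact ⟨⟨⟨Λ, hΛ, hΦ x hx y hy (fun h => hne (Subtype.ext h)) Λ hΛ hxΛ hyΛ⟩,
        ⟨(⟨x, hxΛ⟩, ⟨y, hyΛ⟩), fun h => hne (Subtype.ext (by simpa using congrArg Subtype.val h))⟩⟩, rfl⟩
  have h := Nat.card_congr e
  letI := Fintype.ofFinite {Λ : Set Ω // IsLine a t E Λ ∧ Λ ⊆ Φ}
  rw [card_pairs, Nat.card_sigma, Nat.card_coe_set_eq] at h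
  rw [h]
  rw [Finset.sum_congr rfl (g := fun _ => (Nat.card E + 1) * Nat.card E) fun Λ _ => by
    rw [card_pairs, Nat.card_coe_set_eq, S.card_line Λ.2.1, Nat.add_sub_cancel]]
  simp [Nat.card_eq_fintype_card]

theorem card_lines {f : ℕ} (hE : Nat.card E = 2 ^ f) (hQ : Nat.card Q = Nat.card E ^ 3) :
    Nat.card {Λ : Set Ω // IsLine a t E Λ} = (2 ^ f) ^ 2 * ((2 ^ f) ^ 2 - 2 ^ f + 1) := by
  haveI := finite_points S.rank
  have h := S.count_pairs hr Set.univ fun _ _ _ _ _ _ _ _ _ => Set.subset_univ _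
  rw [Set.ncard_univ, card_points S.rank, hQ, Nat.add_sub_cancel, hE] at h
  rw [Nat.card_congr (Equiv.subtypeEquivRight (p := fun Λ : Set Ω => IsLine a t E Λ ∧ Λ ⊆ Set.univ)
    (q := fun Λ : Set Ω => IsLine a t E Λ) fun Λ => by simp)] at h
  obtain ⟨q, hq⟩ : ∃ q, q = 2 ^ f := ⟨_, rfl⟩
  rw [← hq] at h ⊢
  have hq1 : 1 ≤ q := hq ▸ Nat.one_le_two_pow
  have hle : q ≤ q ^ 2 := Nat.le_self_pow two_ne_zero q
  refine Nat.eq_of_mul_eq_mul_right (show 0 < (q + 1) * q by positivity) (h.symm.trans ?_)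
  zify [hle]
  ring

/-- Only the identity fixes the base line and a further point. -/
theorem ker_free {f : ℕ} (hE : Nat.card E = 2 ^ f) (hQ : Nat.card Q = Nat.card E ^ 3) {w : G}
    (hw : w ∈ lineKer a t E) (hw1 : w ≠ 1) {c : Ω} (hc : c ∉ baseLine a t E) : w • c ≠ c := by
  classical
  haveI := finite_points S.rank
  intro hwc
  obtain ⟨hwD, hwC⟩ := Subgroup.mem_inf.1 hw
  have hwa : w • a = a := hwD.1
  have hwo : w • (t • a) = t • a := hwD.2
  have hfix : ∀ d ∈ baseLine a t E, w • d = d := by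
    intro d hd
    rcases S.mem_baseLine.1 hd with rfl | ⟨e, he, rfl⟩
    · exact hwa
    · rw [← mul_smul, ← Subgroup.mem_centralizer_iff.1 hwC e he, mul_smul, hwo]
  set Φ : Set Ω := {d | w • d = d} with hΦdef
  set Q1 : Subgroup G := Subgroup.centralizer {w} ⊓ Q with hQ1
  -- the fixed points
  have hbij : Φ.ncard = Nat.card Q1 + 1 := by
    have himg : Φ = insert a ((fun y : G => y • t • a) '' (Q1 : Set G)) := by
      ext d
      refine ⟨fun hd => ?_, ?_⟩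
      · by_cases hda : d = a
        · exact Or.inl hda
        obtain ⟨y, hy, rfl⟩ := exists_Q S.rank hda
        refine Or.inr ⟨y, ⟨Subgroup.mem_centralizer_singleton_iff.2 ?_, hy⟩, rfl⟩
        have h1 : (y⁻¹ * (w * y * w⁻¹)) • (t • a) = t • a := by
          rw [mul_smul, mul_smul, mul_smul, inv_smul_eq_iff.2 hwo.symm, show w • y • t • a = y • t • a from hd,
            inv_smul_smul]
        have h2 := S.eq_one_of_fix_o (mul_mem (inv_mem hy) (S.rank.conj_mem w hwD.1 y hy)) h1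
        exact (mul_inv_eq_iff_eq_mul.1 (inv_mul_eq_one.1 h2).symm).symm
      · rintro (rfl | ⟨y, hy, rfl⟩)
        · exact hwa
        · show w • y • t • a = y • t • a
          rw [← mul_smul, ← Subgroup.mem_centralizer_singleton_iff.1 (Subgroup.mem_inf.1 hy).1, mul_smul, hwo]
    rw [himg, Set.ncard_insert_of_notMem ?_ (Set.toFinite _), Set.InjOn.ncard_image ?_, ← Nat.card_coe_set_eq]
    · rfl
    · intro y hy y' hy' h
      have h' : (y'⁻¹ * y) • (t • a) = t • a := by rw [mul_smul, inv_smul_eq_iff]; exact h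
      exact (inv_mul_eq_one.1 (S.eq_one_of_fix_o (mul_mem (inv_mem hy'.2) hy.2) h')).symm
    · rintro ⟨y, hy, hya⟩
      exact ta_ne S.rank (smul_left_cancel y (hya.trans (fix_a S.rank (Subgroup.mem_inf.1 hy).2).symm))
  -- closed under lines
  have hclosed : ∀ x ∈ Φ, ∀ y ∈ Φ, x ≠ y → ∀ Λ, IsLine a t E Λ → x ∈ Λ → y ∈ Λ → Λ ⊆ Φ := by
    intro x hx y hy hne Λ hΛ hxΛ hyΛ
    have hca : a ≠ c := fun e => hc (e ▸ S.mem_baseLine.2 (Or.inl rfl))
    have hco : t • a ≠ c := fun e => hc (S.mem_baseLine.2 (Or.inr ⟨1, one_mem _, by rw [one_smul, e]⟩))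
    obtain ⟨g, hg, hgx, hgy⟩ := (Cfsg.Agent.S1125.result S.rank {w} (Set.singleton_subset_iff.2 hwD)
      ⟨a, t • a, c, (ta_ne S.rank).symm, hca, hco, fun z hz => by
        rw [Set.mem_singleton_iff.1 hz]; exact ⟨hwa, hwo, hwc⟩⟩).1 a (t • a) x y (fun z hz => by
          rw [Set.mem_singleton_iff.1 hz]; exact ⟨hwa, hwo, hx, hy⟩) (ta_ne S.rank).symm hne
    obtain rfl : Λ = g • baseLine a t E := (S.line_unique hr hne).unique ⟨hΛ, hxΛ, hyΛ⟩
      ⟨⟨g, rfl⟩, ⟨a, S.mem_baseLine.2 (Or.inl rfl), hgx⟩,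
        ⟨t • a, S.mem_baseLine.2 (Or.inr ⟨1, one_mem _, one_smul _ _⟩), hgy⟩⟩
    rintro _ ⟨d, hd, rfl⟩
    show w • g • d = g • d
    rw [← mul_smul, ← Subgroup.mem_centralizer_singleton_iff.1 hg, mul_smul, hfix d hd]
  have hcount := S.count_pairs hr Φ hclosed
  rw [hbij, Nat.add_sub_cancel, hE] at hcount
  haveI : Fact (Nat.Prime 2) := ⟨Nat.prime_two⟩
  obtain ⟨j, hj⟩ := IsPGroup.iff_card.1 (S.two.to_le (show Q1 ≤ Q from inf_le_right))
  -- the bounds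
  have hlow : 2 ^ f < 2 ^ j := by
    rw [← hE, ← hj]
    have hEQ1 : E < Q1 := by
      refine lt_of_le_of_ne (le_inf (fun e he => Subgroup.mem_centralizer_singleton_iff.2
        (Subgroup.mem_centralizer_iff.1 hwC e he)) S.base.le) fun e => hc ?_
      have hca : c ≠ a := fun e => hc (e ▸ S.mem_baseLine.2 (Or.inl rfl))
      obtain ⟨y, hy, rfl⟩ := exists_Q S.rank hca
      have h1 : (y⁻¹ * (w * y * w⁻¹)) • (t • a) = t • a := by
        rw [mul_smul, mul_smul, mul_smul, inv_smul_eq_iff.2 hwo.symm, hwc, inv_smul_smul]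
      have h2 := S.eq_one_of_fix_o (mul_mem (inv_mem hy) (S.rank.conj_mem w hwD.1 y hy)) h1
      refine S.mem_baseLine.2 (Or.inr ⟨y, e ▸ Subgroup.mem_inf.2 ⟨Subgroup.mem_centralizer_singleton_iff.2
        (mul_inv_eq_iff_eq_mul.1 (inv_mul_eq_one.1 h2).symm).symm, hy⟩, rfl⟩)
    rcases lt_or_ge (Nat.card E) (Nat.card Q1) with h | h
    · exact h
    · exact absurd (Subgroup.eq_of_le_of_card_ge hEQ1.le h) hEQ1.ne
  have hhigh : 2 ^ j < 2 ^ (3 * f) := by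
    rw [← hj, mul_comm, pow_mul, ← hE, ← hQ]
    rcases lt_or_ge (Nat.card Q1) (Nat.card Q) with h | h
    · exact h
    · refine absurd (S.faithful w fun d => ?_) hw1
      by_cases hda : d = a
      · rw [hda, hwa]
      obtain ⟨y, hy, rfl⟩ := exists_Q S.rank hda
      have hy1 : y ∈ Q1 := (Subgroup.eq_of_le_of_card_ge (show Q1 ≤ Q from inf_le_right) h).symm ▸ hy
      rw [← mul_smul, ← Subgroup.mem_centralizer_singleton_iff.1 (Subgroup.mem_inf.1 hy1).1, mul_smul, hwo]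
  rw [hj] at hcount
  have hcop : Nat.Coprime (2 ^ f + 1) (2 ^ j) := by
    refine Nat.Coprime.pow_right _ (Nat.coprime_two_right.2 ?_)
    rw [Nat.odd_add_one, Nat.not_odd_iff_even, Nat.even_pow]
    refine ⟨even_two, fun e => ?_⟩
    have := S.four
    rw [hE, e] at this
    norm_num at this
  exact not_dvd_two_pow_add_one ((Nat.pow_lt_pow_iff_right (by norm_num)).1 hlow)
    ((Nat.pow_lt_pow_iff_right (by norm_num)).1 hhigh)
    (hcop.dvd_of_dvd_mul_right ⟨Nat.card {Λ : Set Ω // IsLine a t E Λ ∧ Λ ⊆ Φ} * 2 ^ f, by rw [hcount]; ring⟩)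

end Setting

end CfsgLib.Bender.Suzuki
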