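import Cfsg.Agent.Lib.Bender.Suzuki.Torus

/-!
# Suzuki's theorem: the line facts
-/

set_option autoImplicit false
set_option linter.style.haveILetI false
set_option linter.unusedSectionVars false

namespace CfsgLib.Bender.Suzuki

open MulAction CfsgLib.RootSub.Setup Matrix
open scoped Pointwise

variable {G Ω : Type*} [Group G] [Finite G] [MulAction G Ω] {a : Ω} {t : G} {Q E K : Subgroup G} {s r : G}
variable {F : Type} [Field F] [Finite F] [CharP F 2] (C : EField E K s F)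

namespace Setting

variable (S : Setting a t Q E K s r) (hr : r ∈ E)
include S hr

theorem toG_pow {M : Matrix (Fin 2) (Fin 2) F} (hM : C.InSL M) (n : ℕ) :
    C.InSL (M ^ n) ∧ C.toG t (M ^ n) = C.toG t M ^ n := by
  induction n with
  | zero => exact ⟨by rw [pow_zero]; exact inSL_one C, by rw [pow_zero, pow_zero, S.toG_one C]⟩
  | succ n ih =>
    exact ⟨by rw [pow_succ]; exact inSL_mul C ih.1 hM, by rw [pow_succ, S.toG_mul C hr ih.1 hM, ih.2, pow_succ]⟩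

theorem ne_lower {M : Matrix (Fin 2) (Fin 2) F} (hM : C.InSL M) {p : ℕ} (hp : p.Prime)
    (hpd : p ∣ 2 ^ C.f + 1) (hMp : M ^ p = 1) (hM1 : M ≠ 1) : M 1 0 ≠ 0 := by
  intro hc
  have hpow : ∀ n : ℕ, (M ^ n) 1 0 = 0 ∧ (M ^ n) 0 0 = M 0 0 ^ n := by
    intro n
    induction n with
    | zero => simp
    | succ n ih => rw [pow_succ]; simp [Matrix.mul_apply, Fin.sum_univ_two, ih, hc, pow_succ]
  have hd := det_eq C hM
  have hA : M 0 0 ≠ 0 := fun e => by simp [e, hc] at hd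
  have hAp : M 0 0 ^ p = 1 := by rw [← (hpow p).2, hMp]; rfl
  have hq : 1 ≤ 2 ^ C.f := Nat.one_le_two_pow
  have hAq : M 0 0 ^ (2 ^ C.f - 1) = 1 := mul_left_cancel₀ hA (by
    rw [← pow_succ', Nat.sub_add_cancel hq, ← C.bar_apply, hM.2 0 0, mul_one])
  have hcop : Nat.Coprime p (2 ^ C.f - 1) := (Nat.Prime.coprime_iff_not_dvd hp).2 fun hdv => by
    have h2 : p ∣ 2 := by
      have := Nat.dvd_sub hpd hdv
      rwa [show 2 ^ C.f + 1 - (2 ^ C.f - 1) = 2 by omega] at this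
    have hp2 : p = 2 := (Nat.prime_dvd_prime_iff_eq hp Nat.prime_two).1 h2
    subst hp2
    have : 2 ∣ 2 ^ C.f := dvd_pow_self 2 (by have := C.two_le; omega)
    omega
  have hA1 : M 0 0 = 1 := by
    have h := pow_gcd_eq_one.2 ⟨hAp, hAq⟩
    rwa [hcop.gcd_eq_one, pow_one] at h
  have hD : M 1 1 = 1 := by simpa [hA1, hc] using hd
  have hMM : M * M = 1 := by
    have h2 : (2 : F) = 0 := CharTwo.two_eq_zero
    ext i j
    fin_cases i <;> fin_cases j <;> simp [Matrix.mul_apply, Fin.sum_univ_two, hA1, hc, hD]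
    linear_combination (M 0 1) * h2
  refine hM1 ?_
  rcases hp.eq_two_or_odd' with h2 | ⟨m, hm⟩
  · subst h2
    have : 2 ∣ 2 ^ C.f := dvd_pow_self 2 (by have := C.two_le; omega)
    omega
  · rw [hm, pow_succ, pow_mul, sq, hMM, one_pow, Matrix.one_mul] at hMp
    exact hMp

/-- Elements of order dividing `q + 1` have an eigenvalue of that order. -/
theorem exists_eig {M : Matrix (Fin 2) (Fin 2) F} (hM : C.InSL M) {p : ℕ} (hp : p.Prime)
    (hpd : p ∣ 2 ^ C.f + 1) (hMp : M ^ p = 1) (hM1 : M ≠ 1) :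
    M 1 0 ≠ 0 ∧ M 0 0 + M 1 1 ≠ 0 ∧
      ∃ z : F, z ^ 2 + (M 0 0 + M 1 1) * z + 1 = 0 ∧ z ^ p = 1 ∧ z ≠ 1 ∧ C.bar z ≠ z := by
  have hc := S.ne_lower C hr hM hp hpd hMp hM1
  have hodd : ∃ m, p = 2 * m + 1 := by
    rcases hp.eq_two_or_odd' with h2 | h
    · subst h2
      have : 2 ∣ 2 ^ C.f := dvd_pow_self 2 (by have := C.two_le; omega)
      omega
    · exact h
  have hT : M 0 0 + M 1 1 ≠ 0 := fun e => by
    have h := sq_eq M hM.1
    rw [e, zero_smul, zero_add] at h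
    obtain ⟨m, hm⟩ := hodd
    rw [hm, pow_succ, pow_mul, sq, h, one_pow, Matrix.one_mul] at hMp
    exact hM1 hMp
  obtain ⟨z, hz⟩ := exists_root C (fix_add (C := C) (hM.2 0 0) (hM.2 1 1)) hT
  obtain ⟨a', b', -, -, e1, e2⟩ := pow_lin C hM hz (map_one C.bar) (map_zero C.bar) p
  rw [one_smul, zero_smul, add_zero, hMp] at e1
  rw [one_mul, add_zero] at e2
  obtain ⟨ha, hb⟩ := lin_inj hc (a := 0) (b := 1) (by rw [← e1, zero_smul, one_smul, zero_add])
  rw [← ha, ← hb, zero_mul, zero_add] at e2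
  have h2 : (2 : F) = 0 := CharTwo.two_eq_zero
  have hz1 : z ≠ 1 := fun e => hT (by
    rw [e] at hz
    linear_combination hz - h2)
  refine ⟨hc, hT, z, hz, e2, hz1, fun hzf => hz1 ?_⟩
  -- in the subfield the order would divide `q - 1`
  have hz0 : z ≠ 0 := fun e => by rw [e, zero_pow hp.ne_zero] at e2; exact zero_ne_one e2
  have hq : 1 ≤ 2 ^ C.f := Nat.one_le_two_pow
  have hzq : z ^ (2 ^ C.f - 1) = 1 := mul_left_cancel₀ hz0 (by
    rw [← pow_succ', Nat.sub_add_cancel hq, ← C.bar_apply, hzf, mul_one])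
  have hcop : Nat.Coprime p (2 ^ C.f - 1) := (Nat.Prime.coprime_iff_not_dvd hp).2 fun hdv => by
    have := Nat.dvd_sub hpd hdv
    rw [show 2 ^ C.f + 1 - (2 ^ C.f - 1) = 2 by omega] at this
    have hp2 : p = 2 := (Nat.prime_dvd_prime_iff_eq hp Nat.prime_two).1 this
    obtain ⟨m, hm⟩ := hodd
    omega
  have h := pow_gcd_eq_one.2 ⟨e2, hzq⟩
  rwa [hcop.gcd_eq_one, pow_one] at h

omit C in
theorem torus_free {p : ℕ} (hp : p.Prime) {f : ℕ} (hE : Nat.card E = 2 ^ f) (hpd : p ∣ 2 ^ f + 1) {x : G}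
    (hx : x ∈ baseGroup t E) (hxp : orderOf x = p) {c : Ω} (hc : c ∈ baseLine a t E) : x • c ≠ c := by
  obtain ⟨F₁, i₁, i₂, i₃, C₁, -⟩ := S.exists_efield
  obtain rfl : C₁.f = f := Nat.pow_right_injective le_rfl (C₁.card_E.symm.trans hE)
  intro hxc
  obtain ⟨l, hl, rfl⟩ := (S.baseLine_eq hr).1 hc
  obtain ⟨M, hM, hMx⟩ := S.exists_mat C₁ hr (mul_mem (mul_mem (inv_mem hl) hx) hl)
  obtain ⟨hn, hn'⟩ := S.toG_pow C₁ hr hM p
  have hMp : M ^ p = 1 := S.toG_eq_one C₁ hn (by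
    rw [hn', hMx, show (l⁻¹ * x * l) ^ p = l⁻¹ * x ^ p * l by simpa using conj_pow (i := p) (a := l⁻¹) (b := x),
      ← hxp, pow_orderOf_eq_one, mul_one, inv_mul_cancel])
  have hM1 : M ≠ 1 := fun e => hp.ne_one (by
    rw [e, S.toG_one C₁] at hMx
    rw [← hxp, orderOf_eq_one_iff]
    calc x = l * (l⁻¹ * x * l) * l⁻¹ := by group
      _ = 1 := by rw [← hMx]; group)
  refine (S.exists_eig C₁ hr hM hp hpd hMp hM1).1 ((S.toG_fix_a C₁ hM).1 ?_)
  rw [hMx, mul_smul, mul_smul, hxc, inv_smul_smul]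

omit C in
theorem mat_of_order {p : ℕ} (hp : p.Prime) {x : G} (hxp : orderOf x = p) {F₁ : Type} [Field F₁] [Finite F₁]
    [CharP F₁ 2] (C₁ : EField E K s F₁) {M : Matrix (Fin 2) (Fin 2) F₁} (hM : C₁.InSL M)
    (hMx : C₁.toG t M = x) : M ^ p = 1 ∧ M ≠ 1 := by
  obtain ⟨hn, hn'⟩ := S.toG_pow C₁ hr hM p
  refine ⟨S.toG_eq_one C₁ hn (by rw [hn', hMx, ← hxp, pow_orderOf_eq_one]), fun e => hp.ne_one ?_⟩
  rw [← hxp, ← hMx, e, S.toG_one C₁, orderOf_one]

omit C in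
theorem torus_invert {p : ℕ} (hp : p.Prime) {f : ℕ} (hE : Nat.card E = 2 ^ f) (hpd : p ∣ 2 ^ f + 1) {x : G}
    (hx : x ∈ baseGroup t E) (hxp : orderOf x = p) :
    ∃ u ∈ baseGroup t E, u * u = 1 ∧ u ≠ 1 ∧ u * x * u = x⁻¹ := by
  obtain ⟨F₁, i₁, i₂, i₃, C₁, -⟩ := S.exists_efield
  obtain rfl : C₁.f = f := Nat.pow_right_injective le_rfl (C₁.card_E.symm.trans hE)
  obtain ⟨M, hM, rfl⟩ := S.exists_mat C₁ hr hx
  obtain ⟨hMp, hM1⟩ := S.mat_of_order hr hp hxp C₁ hM rfl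
  obtain ⟨hc, hT, -⟩ := S.exists_eig C₁ hr hM hp hpd hMp hM1
  have hy := fix_div (C := C₁) (fix_add (hM.2 0 0) (hM.2 1 1)) (hM.2 1 0)
  refine ⟨_, Subgroup.subset_closure (Or.inl (el_mem hy)), S.base.e_sq _ (el_mem hy), fun e => ?_,
    S.inverter C₁ hr hM hc⟩
  exact div_ne_zero hT hc (by rw [← eps_el (C := C₁) hy, e, eps_one_eq])

omit C in
theorem torus_exists {p : ℕ} (hp : p.Prime) {f : ℕ} (hE : Nat.card E = 2 ^ f) (hpd : p ∣ 2 ^ f + 1) :
    ∃ x ∈ baseGroup t E, orderOf x = p ∧ t * x * t = x⁻¹ := by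
  obtain ⟨F₁, i₁, i₂, i₃, C₁, -⟩ := S.exists_efield
  obtain rfl : C₁.f = f := Nat.pow_right_injective le_rfl (C₁.card_E.symm.trans hE)
  haveI := Fact.mk hp
  obtain ⟨ξ, hξ1, hξp, hξb, hξf⟩ := exists_order C₁ hpd
  have hξ0 : ξ ≠ 0 := fun e => by rw [e, zero_pow hp.ne_zero] at hξp; exact zero_ne_one hξp
  set T := ξ + ξ⁻¹ with hTdef
  have hT : C₁.bar T = T := by rw [hTdef, map_add, map_inv₀, hξb, inv_inv, add_comm]
  set M : Matrix (Fin 2) (Fin 2) F₁ := !![T, 1; 1, 0] with hMdef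
  have hM : C₁.InSL M := ⟨by simp [hMdef, Matrix.det_fin_two, CharTwo.neg_eq],
    fun i j => by fin_cases i <;> fin_cases j <;> simp [hMdef, hT]⟩
  have h2 : (2 : F₁) = 0 := CharTwo.two_eq_zero
  have hz : ξ ^ 2 + (M 0 0 + M 1 1) * ξ + 1 = 0 := by
    simp [hMdef, hTdef]
    field_simp
    linear_combination (ξ ^ 2 + 1) * h2
  obtain ⟨a', b', ha', hb', e1, e2⟩ := pow_lin C₁ hM hz (map_one C₁.bar) (map_zero C₁.bar) p
  rw [one_mul, add_zero, hξp] at e2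
  obtain ⟨ha, hb⟩ := coe_fixed_eq C₁ ha' hb' hξf e2.symm
  rw [one_smul, zero_smul, add_zero, ha, hb, zero_smul, one_smul, zero_add] at e1
  obtain ⟨hn, hn'⟩ := S.toG_pow C₁ hr hM p
  have hM1 : M ≠ 1 := fun e => one_ne_zero (α := F₁) (by
    have := congrArg (fun X => X 1 0) e
    simpa [hMdef] using this)
  refine ⟨_, S.toG_mem C₁ hr hM, orderOf_eq_prime (by rw [← hn', e1, S.toG_one C₁])
    (fun e => hM1 (S.toG_eq_one C₁ hM e)), ?_⟩
  obtain ⟨hI, hIM⟩ := inSL_inv C₁ hM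
  have hsw := inSL_sw C₁
  suffices h : C₁.toG t swM * C₁.toG t M * C₁.toG t swM = (C₁.toG t M)⁻¹ by rwa [S.toG_sw C₁] at h
  rw [← S.toG_mul C₁ hr hsw hM, ← S.toG_mul C₁ hr (inSL_mul C₁ hsw hM) hsw]
  refine eq_inv_of_mul_eq_one_left ?_
  rw [← S.toG_mul C₁ hr (inSL_mul C₁ (inSL_mul C₁ hsw hM) hsw) hM]
  refine (congrArg (C₁.toG t) ?_).trans (S.toG_one C₁)
  rw [show swM * M * swM = invM M from ?_, hIM]
  ext i j
  fin_cases i <;> fin_cases j <;> simp [swM, invM, hMdef, Matrix.mul_apply, Matrix.vecMul, dotProduct, Fin.sum_univ_two]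

omit C in
theorem torus_centralizer {p : ℕ} (hp : p.Prime) {f : ℕ} (hE : Nat.card E = 2 ^ f) (hpd : p ∣ 2 ^ f + 1) {x : G}
    (hx : x ∈ baseGroup t E) (hxp : orderOf x = p) {y : G} (hy : y ∈ baseGroup t E) (hyx : Commute y x) :
    y ^ (2 ^ f + 1) = 1 ∧ (orderOf y = p → y ∈ Subgroup.zpowers x) := by
  obtain ⟨F₁, i₁, i₂, i₃, C₁, -⟩ := S.exists_efield
  obtain rfl : C₁.f = f := Nat.pow_right_injective le_rfl (C₁.card_E.symm.trans hE)
  obtain ⟨M, hM, rfl⟩ := S.exists_mat C₁ hr hx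
  obtain ⟨N, hN, rfl⟩ := S.exists_mat C₁ hr hy
  obtain ⟨hMp, hM1⟩ := S.mat_of_order hr hp hxp C₁ hM rfl
  obtain ⟨hc, hT, z, hz, hzp, hz1, hzf⟩ := S.exists_eig C₁ hr hM hp hpd hMp hM1
  have hcomm : N * M = M * N := S.toG_inj C₁ hr (inSL_mul C₁ hN hM) (inSL_mul C₁ hM hN) (by
    rw [S.toG_mul C₁ hr hN hM, S.toG_mul C₁ hr hM hN]; exact hyx.eq)
  set α := N 1 0 / M 1 0 with hα
  set β := N 0 0 + N 1 0 / M 1 0 * M 0 0 with hβ
  have hNl : N = α • M + β • 1 := eq_lin_of_comm hc hcomm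
  have hαf : C₁.bar α = α := fix_div (hN.2 1 0) (hM.2 1 0)
  have hβf : C₁.bar β = β := fix_add (hN.2 0 0) (fix_mul hαf (hM.2 0 0))
  -- the eigenvalue has norm one
  have hTf : C₁.bar (M 0 0 + M 1 1) = M 0 0 + M 1 1 := fix_add (hM.2 0 0) (hM.2 1 1)
  have h2 : (2 : F₁) = 0 := CharTwo.two_eq_zero
  have hbz : C₁.bar z = z + (M 0 0 + M 1 1) := by
    have h1 := congrArg C₁.bar hz
    rw [map_add, map_add, map_mul, map_pow, hTf, map_one, map_zero] at h1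
    have h3 : (C₁.bar z + z) * (C₁.bar z + z + (M 0 0 + M 1 1)) = 0 := by
      linear_combination h1 + hz + (C₁.bar z * z - 1) * h2
    rcases mul_eq_zero.1 h3 with h4 | h4
    · exact absurd (CharTwo.add_eq_zero.1 h4) hzf
    · rw [add_assoc] at h4
      exact CharTwo.add_eq_zero.1 h4
  have hdet : α * α + α * β * (M 0 0 + M 1 1) + β * β = 1 := by
    have h1 := det_eq C₁ hN
    have h3 := det_eq C₁ hM
    rw [hNl] at h1
    simp at h1
    linear_combination h1 - (α * α) * h3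
  have hnorm : (α * z + β) ^ (2 ^ C₁.f + 1) = 1 := by
    rw [pow_succ, ← C₁.bar_apply, map_add, map_mul, hαf, hβf, hbz]
    linear_combination hdet + (α * α) * hz + (α * β * z - α * α) * h2
  have key : ∀ n : ℕ, (α * z + β) ^ n = 1 → N ^ n = 1 := by
    intro n hn
    obtain ⟨a', b', ha', hb', e1, e2⟩ := pow_lin C₁ hM hz hαf hβf n
    rw [← hNl] at e1
    rw [hn] at e2
    obtain ⟨ha, hb⟩ := coe_fixed_eq C₁ ha' hb' hzf e2.symm
    rw [e1, ha, hb, zero_smul, one_smul, zero_add]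
  refine ⟨?_, fun hyp => ?_⟩
  · obtain ⟨hn, hn'⟩ := S.toG_pow C₁ hr hN (2 ^ C₁.f + 1)
    rw [← hn', key _ hnorm, S.toG_one C₁]
  · obtain ⟨hNp, hN1⟩ := S.mat_of_order hr hp hyp C₁ hN rfl
    have hep : (α * z + β) ^ p = 1 := by
      obtain ⟨a', b', ha', hb', e1, e2⟩ := pow_lin C₁ hM hz hαf hβf p
      rw [← hNl, hNp] at e1
      obtain ⟨ha, hb⟩ := lin_inj hc (a := 0) (b := 1) (a' := a') (b' := b') (by rw [← e1, zero_smul, one_smul, zero_add])
      rw [e2, ← ha, ← hb, zero_mul, zero_add]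
    haveI := NeZero.mk hp.ne_zero
    have hprim : IsPrimitiveRoot z p := by
      have ho : orderOf z = p := by haveI := Fact.mk hp; exact orderOf_eq_prime hzp hz1
      exact ho ▸ IsPrimitiveRoot.orderOf z
    obtain ⟨i, -, hi⟩ := hprim.eq_pow_of_pow_eq_one hep
    obtain ⟨a', b', ha', hb', e1, e2⟩ := pow_lin C₁ hM hz (map_one C₁.bar) (map_zero C₁.bar) i
    rw [one_smul, zero_smul, add_zero] at e1
    rw [one_mul, add_zero, hi] at e2
    have hab : a' = α ∧ b' = β := by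
      have hsum : (a' + α) * z + (b' + β + 1) = 1 := by
        linear_combination -e2 + (α * z + β) * h2
      obtain ⟨ha, hb⟩ := coe_fixed_eq C₁ (fix_add ha' hαf) (fix_add (fix_add hb' hβf) (map_one _)) hzf hsum
      rw [add_eq_right] at hb
      exact ⟨CharTwo.add_eq_zero.1 ha, CharTwo.add_eq_zero.1 hb⟩
    obtain ⟨hn, hn'⟩ := S.toG_pow C₁ hr hM i
    refine ⟨i, ?_⟩
    show C₁.toG t M ^ (i : ℤ) = _
    rw [zpow_natCast, ← hn', e1, hab.1, hab.2, ← hNl]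

end Setting

/-- **The line facts.** -/
theorem Cubic.lineFacts (S : Cubic a t Q E K s r) {f : ℕ} (hE : Nat.card E = 2 ^ f) : LineFacts a t E f where
  card_E := hE
  line_unique _ _ hne := S.line_unique S.r_mem hne
  card_line Λ h := by rw [S.toSetting.card_line h, hE]
  card_lines := S.toSetting.card_lines S.r_mem hE S.card_Q
  stab_line g hg := S.toSetting.stab_line S.r_mem hg
  group_line x hx := S.toSetting.group_line S.r_mem hx
  v_pow v hv hvt := S.toSetting.v_pow hv hvt hE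
  disj x hx hD hxt := S.toSetting.disj S.r_mem hx hD hxt
  ker_comm w hw x hx := S.toSetting.ker_comm hw hx
  ker_fix w hw c hc := S.toSetting.ker_fix hw hc
  ker_free w hw hw1 c hc := S.toSetting.ker_free S.r_mem hE S.card_Q hw hw1 hc
  free x hx hx1 c hc := S.toSetting.free S.r_mem hx hx1 hc
  invol_one u hu hu1 := by
    obtain ⟨p, hp, hu'⟩ := exists_fixed S.rank hu1 hu
    exact ⟨p, hp, hu'⟩
  invol_mem u hu c hc Λ hΛ hcΛ := by
    obtain ⟨g, rfl⟩ := hΛ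
    obtain ⟨d, hd, rfl⟩ := hcΛ
    obtain ⟨l, hl, rfl⟩ := (S.toSetting.baseLine_eq S.r_mem).1 hd
    refine ⟨g, rfl, ?_⟩
    simp only at hc
    have h1 : ((g * l)⁻¹ * u * (g * l)) • a = a := by
      rw [mul_smul, mul_smul, mul_smul g l a, hc, ← mul_smul g l a, inv_smul_smul]
    have h2 : (g * l)⁻¹ * u * (g * l) * ((g * l)⁻¹ * u * (g * l)) = 1 := by
      rw [show (g * l)⁻¹ * u * (g * l) * ((g * l)⁻¹ * u * (g * l)) = (g * l)⁻¹ * (u * u) * (g * l) by group,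
        hu, mul_one, inv_mul_cancel]
    have h3 : (g * l)⁻¹ * u * (g * l) ∈ E := (S.mem_E _).2 ⟨mem_Q_of_sq S.rank h1 h2, h2⟩
    rw [show g⁻¹ * u * g = l * ((g * l)⁻¹ * u * (g * l)) * l⁻¹ by group]
    exact mul_mem (mul_mem hl (Subgroup.subset_closure (Or.inl h3))) (inv_mem hl)
  torus_exists p hp hpd := S.toSetting.torus_exists S.r_mem hp hE hpd
  torus_free p hp hpd x hx hxp c hc := S.toSetting.torus_free S.r_mem hp hE hpd hx hxp hc
  torus_invert p hp hpd x hx hxp := S.toSetting.torus_invert S.r_mem hp hE hpd hx hxp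
  torus_centralizer p hp hpd x hx hxp y hy hyx := S.toSetting.torus_centralizer S.r_mem hp hE hpd hx hxp hy hyx

end CfsgLib.Bender.Suzuki
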