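import Cfsg.Agent.Lib.Classical.PSUSimple
import Cfsg.Agent.Lib.SU.Borel
import Cfsg.Agent.Lib.SU.UnitalModel

/-!
# The permutation group of `PSU₃(q)`, `q` even, from its coordinates

A faithful action, a subgroup `Q` with unital coordinates regular on the points other than `a`, and an
element `t` exchanging `a` and the origin and sending `(u, w)` to `(u/w, 1/w)`, generate `PSU₃(q)`.
-/

set_option autoImplicit false
set_option linter.style.haveILetI false
set_option linter.unusedSectionVars false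

namespace CfsgLib.Bender.Suzuki

open Matrix CfsgLib.SU CfsgLib.Classical

universe u v w

variable {F : Type u} [Field F] [Fintype F] [CharP F 2] {q : ℕ} {C : UCtx F q}

local notation "V3" => (Fin 3 → F)

theorem add_self_vec (x : V3) : x + x = 0 := funext fun i => CharTwo.add_self_eq_zero (x i)

theorem swap_iso (P : UPair C 3) : C.form (P.e + P.f) (P.e + P.f) = 0 := by
  simp only [C.form_add_left, C.form_add_right, P.ee, P.ff, P.ef, P.fe, zero_add, add_zero]
  exact CharTwo.add_self_eq_zero 1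

/-- The transvection exchanging the two points of a pair. -/
def swapSU (P : UPair C 3) : ↥(Cfsg.SU 3 F q) :=
  C.tv (P.e + P.f) (swap_iso P) 1 (by rw [map_one]; exact CharTwo.add_self_eq_zero 1)

theorem swapSU_mulVec (P : UPair C 3) (x : V3) :
    (swapSU P).1.1 *ᵥ x = x + (C.form x P.e + C.form x P.f) • (P.e + P.f) := by
  rw [swapSU, C.tv_mulVec, one_mul, C.form_add_right]

theorem swapSU_e (P : UPair C 3) : (swapSU P).1.1 *ᵥ P.e = P.f := by
  rw [swapSU_mulVec, P.ee, P.ef, zero_add, one_smul, ← add_assoc, add_self_vec, zero_add]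

theorem swapSU_f (P : UPair C 3) : (swapSU P).1.1 *ᵥ P.f = P.e := by
  rw [swapSU_mulVec, P.fe, P.ff, add_zero, one_smul, add_comm P.e, ← add_assoc,
    add_self_vec, zero_add]

theorem swapSU_perp (P : UPair C 3) {x : V3} (hx : x ∈ P.perp) : (swapSU P).1.1 *ᵥ x = x := by
  rw [swapSU_mulVec, hx.1, hx.2, add_zero, zero_smul, add_zero]

theorem perp_eq_smul (P : UPair C 3) {u₀ : V3} (hu : u₀ ∈ P.perp) (huu : C.form u₀ u₀ = 1)
    {x : V3} (hx : x ∈ P.perp) : x = C.form x u₀ • u₀ := by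
  obtain ⟨b, hb, hbb, hsum⟩ := P.exists_basis
  haveI : Subsingleton (Fin (3 - 2)) := inferInstanceAs (Subsingleton (Fin 1))
  have key : ∀ y ∈ P.perp, y = C.form y (b 0) • b 0 := fun y hy => by
    conv_lhs => rw [hsum y hy]
    exact Fintype.sum_subsingleton _ _
  set c := C.form u₀ (b 0)
  set d := C.form x (b 0)
  have hc := key u₀ hu
  have hd := key x hx
  have hcc : c * C.bar c = 1 := by
    rw [hc] at huu
    rw [C.form_smul_left, C.form_smul_right, hbb, if_pos rfl, mul_one] at huu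
    exact huu
  conv_rhs => rw [hc, hd, C.form_smul_left, C.form_smul_right, hbb, if_pos rfl, mul_one, smul_smul,
    mul_assoc, mul_comm (C.bar c), hcc, mul_one]
  exact hd

theorem isotropic_eq_of_orth (P : UPair C 3) {u₀ : V3} (hu : u₀ ∈ P.perp) (huu : C.form u₀ u₀ = 1)
    {x : V3} (hx : C.form x x = 0) (he : C.form x P.e = 0) : x = C.form x P.f • P.e := by
  have h := P.form_decomp x x
  rw [hx, he, zero_mul, map_zero, mul_zero, zero_add, zero_add] at h
  have hp := perp_eq_smul P hu huu (P.proj_mem x)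
  rw [hp, C.form_smul_left, C.form_smul_right, huu, mul_one] at h
  have h0 : C.form (P.proj x) u₀ = 0 := by
    rcases mul_eq_zero.1 h.symm with h1 | h1
    · exact h1
    · simpa using h1
  conv_lhs => rw [P.decomp x, hp, h0, he, zero_smul, zero_smul, add_zero, add_zero]

/-- The group generated by the Eichler group and the exchange is everything. -/
theorem eq_top_of_eich_swap (hF : Fintype.card F = q ^ 2) (hq : q ≠ 2) (P : UPair C 3)
    {u₀ : V3} (hu : u₀ ∈ P.perp) (huu : C.form u₀ u₀ = 1) {K : Subgroup (Cfsg.PSU 3 F q)}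
    (hE : ∀ X ∈ P.eichGroup, pr X ∈ K) (hT : pr (swapSU P) ∈ K) : K = ⊤ := by
  have hroot : ∀ t ht, pr (C.tv P.e P.ee t ht) ∈ K := fun t ht => by
    rw [← P.eich_zero_eq_tv t (by rw [C.form_zero_left, add_zero, ht])]
    exact hE _ ⟨_, _, _, _, rfl⟩
  have hmove : ∀ x : V3, x ≠ 0 → C.form x x = 0 →
      ∃ (A : ↥(Cfsg.SU 3 F q)) (a : F), pr A ∈ K ∧ a ≠ 0 ∧ x = a • (A.1.1 *ᵥ P.e) := by
    intro x hx0 hx
    by_cases he : C.form x P.e = 0
    · have h := isotropic_eq_of_orth P hu huu hx he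
      refine ⟨1, C.form x P.f, by rw [map_one]; exact one_mem K, fun h0 => hx0 ?_, ?_⟩
      · rw [h, h0, zero_smul]
      · rw [su_one_mulVec]; exact h
    · obtain ⟨w, hw, t, ht, hxw⟩ := P.exists_eich_point hx he
      refine ⟨P.eich w hw t ht * swapSU P, C.form x P.e, ?_, he, ?_⟩
      · rw [map_mul]
        exact mul_mem (hE _ ⟨_, _, _, _, rfl⟩) hT
      · rw [suMat_mulVec_mul, swapSU_e]
        exact hxw
  rw [eq_top_iff, ← Subgroup.map_top_of_surjective (pr (n := 3) (F := F) (q := q))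
    (QuotientGroup.mk'_surjective _),
    ← CfsgLib.Perm.Trans.Unit.su_closure hF 3 le_rfl (fun h => hq h.2), MonoidHom.map_closure,
    Subgroup.closure_le]
  rintro _ ⟨A, ⟨x, c, hx, hA⟩, rfl⟩
  have hx' : C.form x x = 0 := by rw [← C.hermForm_eq]; exact hx
  have hmv : ∀ y, A.1.1 *ᵥ y = y + (c * C.form y x) • x := fun y => by
    rw [hA, CfsgLib.Perm.Trans.Unit.unitaryTransvection_mulVec, Cfsg.hermForm, C.hermForm_eq]
  rcases eq_or_ne x 0 with hx0 | hx0
  · rw [show A = 1 from su_ext fun y => by rw [su_one_mulVec, hmv, hx0, smul_zero, add_zero], map_one]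
    exact one_mem _
  obtain ⟨B, a, hB, ha, hxB⟩ := hmove x hx0 hx'
  have hc : c + C.bar c = 0 := by
    obtain ⟨y, hy⟩ := C.exists_form_eq_one hx0
    have := C.form_su A y y
    rw [hmv, C.form_add_left, C.form_add_right, C.form_add_right, C.form_smul_left, C.form_smul_left,
      C.form_smul_right, C.form_smul_right, hy, show C.form x y = 1 by rw [← C.bar_form, hy, map_one],
      hx', mul_one, mul_one, mul_zero, mul_zero, add_zero, mul_one] at this
    linear_combination this
  have hs : c * (a * C.bar a) + C.bar (c * (a * C.bar a)) = 0 := by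
    rw [map_mul, C.norm_fixed]
    linear_combination (a * C.bar a) * hc
  have hAB : A = B * C.tv P.e P.ee (c * (a * C.bar a)) hs * B⁻¹ := by
    rw [C.tv_conj]
    refine su_ext fun y => ?_
    rw [hmv, C.tv_mulVec, hxB, C.form_smul_right, smul_smul]
    congr 2
    ring
  rw [SetLike.mem_coe, hAB, map_mul, map_mul, map_inv]
  exact mul_mem (mul_mem hB (hroot _ _)) (inv_mem hB)

/-- `PSU₃` acts faithfully on its points. -/
theorem psu_three_faithful (hF : Fintype.card F = q ^ 2) (hq : q ≠ 2) (P : UPair C 3) :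
    FaithfulSMul (Cfsg.PSU 3 F q) (UPoint C 3) := by
  haveI := psu_isSimple hF (n := 3) le_rfl (fun h => hq h.2)
  refine ⟨fun {g g'} h => ?_⟩
  let φ := MulAction.toPermHom (Cfsg.PSU 3 F q) (UPoint C 3)
  rcases (MonoidHom.normal_ker φ).eq_bot_or_eq_top with hk | hk
  · exact (MonoidHom.ker_eq_bot_iff φ).1 hk (Equiv.ext h)
  · exfalso
    have h1 : φ (pr (swapSU P)) = 1 := MonoidHom.mem_ker.1 (hk ▸ Subgroup.mem_top _)
    have h2 : pr (swapSU P) • upt C P.e P.ee P.e_ne_zero = upt C P.e P.ee P.e_ne_zero :=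
      Equiv.ext_iff.1 h1 _
    rw [smul_upt, upt_eq_iff C le_rfl] at h2
    obtain ⟨a, ha⟩ := h2
    rw [swapSU_e] at ha
    have h3 := congrArg (fun z => C.form z P.e) ha
    rw [P.fe, C.form_smul_left, P.ee, mul_zero] at h3
    exact one_ne_zero h3

/-- **The model.**  A faithful action with unital coordinates on the points other than `a`, in which
`t` exchanges `a` and the origin and sends `(u, w)` to `(u / w, 1 / w)`, generates `PSU₃(q)`. -/
theorem psu_of_unital {G : Type v} [Group G] {Ω : Type w} [MulAction G Ω] [FaithfulSMul G Ω]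
    {a : Ω} {t : G} {Q : Subgroup G} {n : ℕ} (hn : 2 ≤ n) (hF : Fintype.card F = (2 ^ n) ^ 2)
    (U : Unital ↥Q F) (hU : ∀ x, U.bar x = x ^ 2 ^ n) (htt : t * t = 1)
    (hQa : ∀ y ∈ Q, y • a = a) (hcover : ∀ ω, ω ≠ a → ∃ y ∈ Q, y • t • a = ω) (hta : t • a ≠ a)
    (hinj : ∀ y ∈ Q, y • t • a = t • a → y = 1)
    (hrule : ∀ y z : Q, y ≠ 1 → U.pi z = U.pi y / U.tau y → U.tau z = (U.tau y)⁻¹ →
      t • (y : G) • t • a = (z : G) • t • a) :
    Nonempty (Subgroup.closure ((Q : Set G) ∪ {t}) ≃* Cfsg.PSU 3 F (2 ^ n)) := by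
  classical
  have hq : (2 : ℕ) ^ n ≠ 2 := fun h => by
    have : 2 ^ 2 ≤ 2 ^ n := Nat.pow_le_pow_right two_pos hn
    omega
  obtain ⟨C⟩ := uctx_exists hF
  obtain ⟨P⟩ := C.exists_pair (n := 3) (by norm_num)
  obtain ⟨b, hb, hbb, -⟩ := P.exists_basis
  set u₀ := b 0
  have huu : C.form u₀ u₀ = 1 := by rw [hbb, if_pos rfl]
  have hu : u₀ ∈ P.perp := hb 0
  have hbar : ∀ x, U.bar x = C.bar x := fun x => by rw [hU, C.bar_eq]
  -- the translations
  have hcond : ∀ y : Q, U.tau y + C.bar (U.tau y) + C.form (U.pi y • u₀) (U.pi y • u₀) = 0 := by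
    intro y
    have h := U.cond y
    rw [HermAut.nm, hbar, hbar] at h
    rw [C.form_smul_left, C.form_smul_right, huu, mul_one]
    exact h
  let X : Q → ↥(Cfsg.SU 3 F (2 ^ n)) := fun y =>
    P.eich (U.pi y • u₀) (P.perp.smul_mem _ hu) (U.tau y) (hcond y)
  have hX : ∀ y z : Q, X (y * z) = X y * X z := fun y z => by
    simp only [X]
    rw [P.eich_mul]
    refine P.eich_congr (by rw [U.pi_mul, add_smul]) ?_
    rw [U.tau_mul, hbar, C.form_smul_left, C.form_smul_right, huu, mul_one, CharTwo.sub_eq_add]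
  have hXf : ∀ y, (X y).1.1 *ᵥ P.f = P.f + U.pi y • u₀ + U.tau y • P.e := fun y => P.eich_f _ _ _ _
  have hXe : ∀ y, (X y).1.1 *ᵥ P.e = P.e := fun y => P.eich_e _ _ _ _
  set pe := upt C P.e P.ee P.e_ne_zero
  set pf := upt C P.f P.ff P.f_ne_zero
  have hXpe : ∀ y, pr (X y) • pe = pe := fun y => by
    rw [smul_upt, upt_eq_iff C le_rfl]
    exact ⟨1, by rw [one_smul, hXe]⟩
  have hTe : pr (swapSU P) • pe = pf := by
    rw [smul_upt, upt_eq_iff C le_rfl]
    exact ⟨1, by rw [one_smul, swapSU_e]⟩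
  have hTf : pr (swapSU P) • pf = pe := by
    rw [smul_upt, upt_eq_iff C le_rfl]
    exact ⟨1, by rw [one_smul, swapSU_f]⟩
  -- the identification of the points
  have hne : ∀ y : Q, (y : G) • t • a ≠ a := fun y h => hta (by
    conv_rhs at h => rw [← hQa y y.2]
    exact smul_left_cancel _ h)
  have hex : ∀ ω, ω ≠ a → ∃ y : Q, (y : G) • t • a = ω := fun ω h =>
    let ⟨y, hy, e⟩ := hcover ω h; ⟨⟨y, hy⟩, e⟩
  have huniq : ∀ y z : Q, (y : G) • t • a = (z : G) • t • a → y = z := fun y z h => by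
    have h1 := hinj ((z : G)⁻¹ * y) (mul_mem (inv_mem z.2) y.2) (by rw [mul_smul, h, inv_smul_smul])
    exact Subtype.ext (inv_mul_eq_one.1 h1).symm
  let σ : Ω → UPoint C 3 := fun ω => if h : ω = a then pe else pr (X (hex ω h).choose) • pf
  have hσa : σ a = pe := dif_pos rfl
  have hσ : ∀ y : Q, σ ((y : G) • t • a) = pr (X y) • pf := fun y => by
    simp only [σ, dif_neg (hne y)]
    rw [huniq _ y (hex _ (hne y)).choose_spec]
  have hX1 : X 1 = 1 := by
    have := hX 1 1
    rw [one_mul] at this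
    exact left_eq_mul.1 this
  have hσo : σ (t • a) = pf := by
    have := hσ 1
    rwa [OneMemClass.coe_one, one_smul, hX1, map_one, one_smul] at this
  have hpne : ∀ y, pr (X y) • pf ≠ pe := fun y h => by
    rw [smul_upt, upt_eq_iff C le_rfl] at h
    obtain ⟨c, hc⟩ := h
    rw [hXf] at hc
    have h2 := congrArg (fun z => C.form z P.e) hc
    simp only [C.form_add_left, C.form_smul_left, P.fe, hu.1, P.ee, mul_zero, add_zero] at h2
    exact one_ne_zero h2
  have hσinj : Function.Injective σ := by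
    intro ω ω' h
    by_cases hω : ω = a <;> by_cases hω' : ω' = a
    · rw [hω, hω']
    · obtain ⟨z, rfl⟩ := hex ω' hω'
      rw [hω, hσa, hσ] at h
      exact absurd h.symm (hpne z)
    · obtain ⟨z, rfl⟩ := hex ω hω
      rw [hω', hσa, hσ] at h
      exact absurd h (hpne z)
    · obtain ⟨y, rfl⟩ := hex ω hω
      obtain ⟨z, rfl⟩ := hex ω' hω'
      rw [hσ, hσ, smul_upt, smul_upt, upt_eq_iff C le_rfl] at h
      obtain ⟨c, hc⟩ := h
      rw [hXf, hXf] at hc
      have h1 := congrArg (fun v => C.form v P.e) hc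
      have h2 := congrArg (fun v => C.form v u₀) hc
      have h3 := congrArg (fun v => C.form v P.f) hc
      simp only [C.form_add_left, C.form_smul_left, P.fe, hu.1, P.ee, mul_zero, add_zero, mul_one] at h1
      subst h1
      simp only [C.form_add_left, C.form_smul_left, C.form_swap_zero hu.1, C.form_swap_zero hu.2, huu,
        mul_zero, add_zero, zero_add, mul_one, one_mul] at h2
      simp only [C.form_add_left, C.form_smul_left, P.ff, hu.2, P.ef, mul_zero, add_zero, zero_add,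
        mul_one, one_mul] at h3
      rw [U.coord_ext y z h2 h3]
  have hσsurj : Function.Surjective σ := by
    intro p
    obtain ⟨x, hx, hx0, rfl⟩ := upt_surj C p
    by_cases he : C.form x P.e = 0
    · exact ⟨a, hσa.trans ((upt_eq_iff C le_rfl hx hx0 P.ee P.e_ne_zero).2
        ⟨_, isotropic_eq_of_orth P hu huu hx he⟩).symm⟩
    · obtain ⟨w, hw, s, hs, hxw⟩ := P.exists_eich_point hx he
      have hww := perp_eq_smul P hu huu hw
      obtain ⟨y, hy1, hy2⟩ := U.exists_coord (C.form w u₀) s (by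
        rw [HermAut.nm, hbar, hbar]
        rw [hww, C.form_smul_left, C.form_smul_right, huu, mul_one] at hs
        exact hs)
      refine ⟨(y : G) • t • a, ?_⟩
      rw [hσ, smul_upt]
      refine ((upt_eq_iff C le_rfl hx hx0 _ _).2 ⟨C.form x P.e, ?_⟩).symm
      rw [hxw, hXf, hy1, hy2, ← hww, P.eich_f]
      simp [C.form_smul_left, C.form_add_left, P.fe, hw.1, P.ee]
  -- the rule of `t`
  have hT : ∀ ω, pr (swapSU P) • σ ω = σ (t • ω) := by
    intro ω
    by_cases hω : ω = a
    · rw [hω, hσa, hσo, hTe]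
    obtain ⟨y, rfl⟩ := hex ω hω
    by_cases hy : y = 1
    · subst hy
      rw [OneMemClass.coe_one, one_smul, hσo, hTf, ← mul_smul, htt, one_smul, hσa]
    have htau : U.tau y ≠ 0 := fun h0 => hy (by
      refine U.coord_ext y 1 ?_ (h0.trans U.tau_one.symm)
      have h := U.cond y
      rw [h0, map_zero, add_zero, zero_add, HermAut.nm] at h
      rcases mul_eq_zero.1 h with h1 | h1
      · rw [h1, U.pi_one]
      · rw [(map_eq_zero U.bar).1 h1, U.pi_one])
    obtain ⟨z, hz1, hz2⟩ := U.exists_coord (U.pi y / U.tau y) (U.tau y)⁻¹ (by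
      have h := U.cond y
      have hb' : U.bar (U.tau y) ≠ 0 := (map_ne_zero U.bar).2 htau
      simp only [HermAut.nm, map_div₀, map_inv₀] at h ⊢
      field_simp
      linear_combination h)
    rw [hrule y z hy hz1 hz2, hσ, hσ, smul_upt, smul_upt, smul_upt, upt_eq_iff C le_rfl]
    refine ⟨U.tau y, ?_⟩
    rw [hXf, hXf, Matrix.mulVec_add, Matrix.mulVec_add, Matrix.mulVec_smul, Matrix.mulVec_smul,
      swapSU_f, swapSU_e, swapSU_perp P hu, hz1, hz2, smul_add, smul_add, smul_smul, smul_smul,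
      mul_inv_cancel₀ htau, mul_div_cancel₀ _ htau, one_smul]
    abel
  have hQσ : ∀ (y : Q) ω, pr (X y) • σ ω = σ ((y : G) • ω) := by
    intro y ω
    by_cases hω : ω = a
    · rw [hω, hσa, hQa y y.2, hσa, hXpe]
    obtain ⟨z, rfl⟩ := hex ω hω
    rw [hσ, ← mul_smul, ← map_mul, ← hX, ← hσ (y * z), Subgroup.coe_mul, mul_smul]
  -- the homomorphism
  haveI := psu_three_faithful hF hq P
  set L := Subgroup.closure ((Q : Set G) ∪ {t})
  have hind : ∀ g : L, ∃ s : Cfsg.PSU 3 F (2 ^ n), ∀ ω, s • σ ω = σ ((g : G) • ω) := by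
    rintro ⟨g, hg⟩
    induction hg using Subgroup.closure_induction with
    | mem g hg =>
      rcases hg with hg | hg
      · exact ⟨pr (X ⟨g, hg⟩), hQσ ⟨g, hg⟩⟩
      · rw [Set.mem_singleton_iff] at hg
        subst hg
        exact ⟨pr (swapSU P), hT⟩
    | one => exact ⟨1, fun ω => by rw [one_smul, one_smul]⟩
    | mul g h _ _ ihg ihh =>
      obtain ⟨s, hs⟩ := ihg
      obtain ⟨r, hr⟩ := ihh
      exact ⟨s * r, fun ω => by rw [mul_smul, hr, hs]; exact congrArg σ (mul_smul g h ω).symm⟩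
    | inv g _ ihg =>
      obtain ⟨s, hs⟩ := ihg
      exact ⟨s⁻¹, fun ω => by rw [inv_smul_eq_iff, hs]; simp⟩
  choose f hf using hind
  have hfeq : ∀ (g : L) (s : Cfsg.PSU 3 F (2 ^ n)), (∀ ω, s • σ ω = σ ((g : G) • ω)) → f g = s := fun g s hs =>
    eq_of_smul_eq_smul fun p => by
      obtain ⟨ω, rfl⟩ := hσsurj p
      rw [hf, hs]
  let φ : L →* Cfsg.PSU 3 F (2 ^ n) :=
    MonoidHom.mk' f fun g h => hfeq _ _ fun ω => by rw [mul_smul, hf, hf, Subgroup.coe_mul, mul_smul]
  refine ⟨MulEquiv.ofBijective φ ⟨fun g h e => Subtype.ext (eq_of_smul_eq_smul fun ω : Ω => hσinj ?_),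
    fun s => ?_⟩⟩
  · rw [← hf g, ← hf h, show f g = f h from e]
  · have htop : φ.range = ⊤ := by
      refine eq_top_of_eich_swap hF hq P hu huu ?_ ⟨⟨t, Subgroup.subset_closure (Or.inr rfl)⟩, hfeq _ _ hT⟩
      rintro _ ⟨w, hw, s, hs, rfl⟩
      have hww := perp_eq_smul P hu huu hw
      obtain ⟨y, hy1, hy2⟩ := U.exists_coord (C.form w u₀) s (by
        rw [HermAut.nm, hbar, hbar]
        rw [hww, C.form_smul_left, C.form_smul_right, huu, mul_one] at hs
        exact hs)
      refine ⟨⟨y, Subgroup.subset_closure (Or.inl y.2)⟩, (hfeq _ (pr (X y)) (hQσ y)).trans ?_⟩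
      exact congrArg pr (P.eich_congr (by rw [hy1, ← hww]) hy2)
    exact MonoidHom.range_eq_top.1 htop s

end CfsgLib.Bender.Suzuki
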