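import Cfsg.Agent.Lib.Bender.Suzuki.Defs
import Cfsg.Agent.Lib.Bender.Full.Main
import Cfsg.Agent.Lib.Invol.SECriterion.Shape.Rank
import Cfsg.Agent.Lib.RootSub.Setup2
import Cfsg.Agent.Lib.Lie.RankOne.Fixed
import Cfsg.Agent.S1130
import Cfsg.Agent.S1131

/-!
# Suzuki's theorem: the setting exists

The regular normal subgroup is a two-group of order `q`, `q ^ 2` or `q ^ 3`.
-/

set_option autoImplicit false
set_option linter.style.haveILetI false
set_option linter.unusedSectionVars false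

namespace CfsgLib.Bender.Suzuki

open MulAction CfsgLib.RootSub.Setup CfsgLib.Lie.RankOne

universe u v

variable {G : Type u} {Ω : Type v} [Group G] [Finite G] [MulAction G Ω] {a : Ω} {t : G} {Q : Subgroup G}

/-- The point stabiliser is the two-group and its complement. -/
theorem exists_data (hS : Cfsg.IsRankOneSetup G Ω a t Q) (hf : ∀ g : G, (∀ b : Ω, g • b = b) → g = 1)
    (h2 : ∃ x y : G, x ≠ 1 ∧ y ≠ 1 ∧ x ≠ y ∧ x * x = 1 ∧ y * y = 1 ∧ x * y = y * x) :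
    CfsgLib.SECrit.Shape.Data (stabilizer G a) Q := by
  classical
  haveI : IsPretransitive G Ω := by
    haveI := hS.two_transitive
    exact isPretransitive_of_is_two_pretransitive
  have hne : stabilizer G a ≠ ⊤ := fun e => hS.not_mem (e ▸ Subgroup.mem_top t)
  have heven : Even (Nat.card (stabilizer G a)) :=
    hS.even_card.trans_dvd (Subgroup.card_dvd_of_le hS.le)
  have hse : Cfsg.IsStronglyEmbedded (stabilizer G a) := by
    refine ⟨hne, heven, fun g hg => ?_⟩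
    have hga : g • a ≠ a := fun e => hg e
    obtain ⟨x, hx1, hx2⟩ := is_two_pretransitive_iff.1 hS.two_transitive hga.symm (ta_ne hS).symm
    rw [Nat.card_congr ((stabilizer G a ⊓ (stabilizer G a).map (MulAut.conj g).toMonoidHom).equivMapOfInjective
      (MulAut.conj x).toMonoidHom (MulAut.conj x).injective).toEquiv]
    refine hS.odd_card.of_dvd_nat (Subgroup.card_dvd_of_le ?_)
    rintro _ ⟨d, ⟨hd1, ⟨d', hd', hdd⟩⟩, rfl⟩
    have e1 : d • g • a = g • a := by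
      rw [← show g * d' * g⁻¹ = d from hdd, mul_smul, mul_smul, inv_smul_smul, show d' • a = a from hd']
    refine ⟨?_, ?_⟩
    · show (x * d * x⁻¹) • a = a
      rw [mul_smul, mul_smul, inv_smul_eq_iff.2 hx1.symm, show d • a = a from hd1, hx1]
    · show (x * d * x⁻¹) • (t • a) = t • a
      rw [mul_smul, mul_smul, inv_smul_eq_iff.2 hx2.symm, e1, hx2]
  have hcore : (stabilizer G a).normalCore = ⊥ := (Subgroup.eq_bot_iff_forall _).2 fun g hg => hf g fun b => by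
    obtain ⟨x, rfl⟩ := exists_smul_eq G a b
    have h1 : (x⁻¹ * g * x⁻¹⁻¹) • a = a := hg x⁻¹
    rwa [inv_inv, mul_smul, mul_smul, inv_smul_eq_iff] at h1
  have hpair : CfsgLib.Bender.HasPair G := by
    obtain ⟨x, y, hx, hy, hxy, hxx, hyy, hc⟩ := h2
    exact ⟨x, y, orderOf_eq_prime (by rw [pow_two, hxx]) hx, orderOf_eq_prime (by rw [pow_two, hyy]) hy, hxy, hc⟩
  obtain ⟨Q', hle, hn, htwo, hreg⟩ := CfsgLib.Bender.Full.fullStatement _ _ hse hcore hpair
  have hD : CfsgLib.SECrit.Shape.Data (stabilizer G a) Q' := ⟨hse, hcore, hpair, hle, hn, htwo, hreg⟩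
  have hcard : Nat.card Q = Nat.card Q' := by
    have h1 := hD.card_points
    rw [← Subgroup.index_eq_card, index_stabilizer_of_transitive G a, card_points hS] at h1
    omega
  haveI : Fact (Nat.Prime 2) := ⟨Nat.prime_two⟩
  have h2g : IsPGroup 2 Q := by
    obtain ⟨n, hn'⟩ := IsPGroup.iff_card.1 htwo
    exact IsPGroup.of_card (n := n) (hcard.trans hn')
  have hQQ : Q = Q' := Subgroup.eq_of_le_of_card_ge (fun y hy => by
    obtain ⟨k, hk⟩ := h2g ⟨y, hy⟩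
    exact hD.mem_of_two (hS.le hy) (k := k) (congrArg Subtype.val hk)) hcard.ge
  exact hQQ ▸ hD

/-- **The setting.** -/
theorem exists_setting (hS : Cfsg.IsRankOneSetup G Ω a t Q) [FaithfulSMul G Ω]
    (h2 : ∃ x y : G, x ≠ 1 ∧ y ≠ 1 ∧ x ≠ y ∧ x * x = 1 ∧ y * y = 1 ∧ x * y = y * x) :
    ∃ (E K : Subgroup G) (s r : G), Setting a t Q E K s r ∧
      (Nat.card Q = Nat.card E ∨ Nat.card Q = Nat.card E ^ 2 ∨ Nat.card Q = Nat.card E ^ 3) := by
  classical
  have hf : ∀ g : G, (∀ b : Ω, g • b = b) → g = 1 := fun g hg =>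
    eq_of_smul_eq_smul (α := Ω) fun b => by rw [hg, one_smul]
  have hD := exists_data hS hf h2
  obtain ⟨hI, hI'⟩ := Cfsg.Agent.S1130.result hS h2
  have hcenQ : ∀ x ∈ Q, x * x = 1 → ∀ y ∈ Q, Commute x y := by
    intro x hx hx2 y hy
    by_cases h1 : x = 1
    · exact h1 ▸ Commute.one_left y
    · exact (hI x ⟨hS.le hx, h1, hx2⟩).2 y hy
  obtain ⟨E, hE⟩ : ∃ E : Subgroup G, ∀ x, x ∈ E ↔ x ∈ Q ∧ x * x = 1 :=
    ⟨{ carrier := {x | x ∈ Q ∧ x * x = 1}
       one_mem' := ⟨one_mem _, one_mul 1⟩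
       mul_mem' := fun {x y} hx hy => ⟨mul_mem hx.1 hy.1, by
         rw [mul_assoc, ← mul_assoc y, ← (hcenQ x hx.1 hx.2 y hy.1).eq, mul_assoc x y y, hy.2, mul_one, hx.2]⟩
       inv_mem' := fun {x} hx => ⟨inv_mem hx.1, by rw [← mul_inv_rev, hx.2, inv_one]⟩ }, fun x => Iff.rfl⟩
  obtain ⟨K, hK, hKc, -⟩ := Cfsg.Agent.S1131.result hS h2
  have hKm : ∀ x, x ∈ K ↔ x ∈ Cfsg.invertedBy (pairStab a t) t := fun x => Set.ext_iff.1 hK x
  obtain ⟨s, hs, r, hr, hrel⟩ := exists_structure hS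
  have hsQ := involution_mem_Q hS hs
  have hD' : ∀ k ∈ K, k ∈ pairStab a t := fun k hk => ((hKm k).1 hk).1
  have hkQ : ∀ k ∈ K, ∀ y ∈ Q, k * y * k⁻¹ ∈ Q := fun k hk y hy => hS.conj_mem k (hD' k hk).1 y hy
  have hkE : ∀ k ∈ K, ∀ e ∈ E, k * e * k⁻¹ ∈ E := fun k hk e he => (hE _).2
    ⟨hkQ k hk e ((hE e).1 he).1, by
      rw [show k * e * k⁻¹ * (k * e * k⁻¹) = k * (e * e) * k⁻¹ by group, ((hE e).1 he).2]; group⟩
  have hEc : ∀ e ∈ E, ∀ y ∈ Q, Commute e y := fun e he y hy => hcenQ e ((hE e).1 he).1 ((hE e).1 he).2 y hy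
  have hfpf : ∀ k ∈ K, k ≠ 1 → ∀ y ∈ Q, k * y * k⁻¹ = y → y = 1 := fun k hk hk1 y hy h =>
    inverted_fpf hS ((hKm k).1 hk) hk1 hy (mul_inv_eq_iff_eq_mul.1 h).symm
  -- squares lie in `E`
  have hQsq : ∀ y ∈ Q, y * y ∈ E := by
    intro y hy
    refine (hE _).2 ⟨mul_mem hy hy, ?_⟩
    haveI : Fact (Nat.Prime 2) := ⟨Nat.prime_two⟩
    obtain ⟨S, hS'⟩ : ∃ S : Sylow 2 Q, (S : Subgroup Q) = ⊤ :=
      ⟨⟨⊤, hD.two.to_subgroup ⊤ |>.of_equiv (MulEquiv.refl _), fun _ hle => le_antisymm le_top hle⟩, rfl⟩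
    rcases Cfsg.Agent.S1132.result hS h2 S with hab | hsuz
    · have hcomm : ∀ a ∈ Q, ∀ b ∈ Q, a * b = b * a := fun a ha b hb =>
        congrArg (fun x : (S : Subgroup Q) => ((x : Q) : G))
          (hab.is_comm.comm (⟨⟨a, ha⟩, hS' ▸ Subgroup.mem_top _⟩ : (S : Subgroup Q)) ⟨⟨b, hb⟩, hS' ▸ Subgroup.mem_top _⟩)
      have hcard := hD.sq_eq_one_of_comm hcomm
      obtain ⟨x, hx⟩ := ((Nat.bijective_iff_injective_and_card (Subtype.val : {x : Q // x * x = 1} → Q)).2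
        ⟨Subtype.val_injective, hcard.symm⟩).2 ⟨y, hy⟩
      have h1 : y * y = 1 := congrArg Subtype.val (hx ▸ x.2 : (⟨y, hy⟩ : Q) * ⟨y, hy⟩ = 1)
      rw [h1, one_mul]
    · obtain ⟨hsq, -, -, -⟩ := Cfsg.Agent.S1138.result hsuz
      have h1 := (Cfsg.Agent.S1137.result hsuz).2 _ (hsq (⟨⟨y, hy⟩, hS' ▸ Subgroup.mem_top _⟩ : (S : Subgroup Q)))
      exact congrArg (fun x : (S : Subgroup Q) => ((x : Q) : G)) h1
  have hcardE : Nat.card {x : Q // x * x = 1} = Nat.card E :=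
    Nat.card_congr
      { toFun := fun x => ⟨(x.1 : G), (hE _).2 ⟨x.1.2, congrArg Subtype.val x.2⟩⟩
        invFun := fun e => ⟨⟨e.1, ((hE _).1 e.2).1⟩, Subtype.ext ((hE _).1 e.2).2⟩
        left_inv := fun _ => rfl
        right_inv := fun _ => rfl }
  have hfour : 4 ≤ Nat.card E := by
    have h3 := hD.two_lt_card_invol
    rw [hcardE] at h3
    haveI : Fact (Nat.Prime 2) := ⟨Nat.prime_two⟩
    obtain ⟨n, hn⟩ := IsPGroup.iff_card.1 (hD.two.to_le (show E ≤ Q from fun e he => ((hE e).1 he).1))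
    rw [hn] at h3 ⊢
    have : 2 ≤ n := by
      rcases n with _ | _ | n <;> simp_all
    calc 4 = 2 ^ 2 := rfl
      _ ≤ 2 ^ n := Nat.pow_le_pow_right (by norm_num) this
  refine ⟨E, K, s, r, ⟨hS, hf, h2, hD.two, hE, hKm,
    { t_sq := hS.mul_self
      le := fun e he => ((hE e).1 he).1
      e_comm := hEc
      e_sq := fun e he => ((hE e).1 he).2
      q_sq := hQsq
      q_invol := fun y hy h => (hE y).2 ⟨hy, h⟩
      k_comm := fun x hx y hy => congrArg Subtype.val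
        ((IsCyclic.isMulCommutative (α := K)).is_comm.comm ⟨x, hx⟩ ⟨y, hy⟩)
      k_q := hkQ
      k_e := hkE
      inv := fun k hk => inverted_conj hS ((hKm k).1 hk)
      s_mem := (hE s).2 ⟨hsQ, hs.2.2⟩
      s_ne := hs.2.1
      reg := ?_
      fpf := ?_
      r_mem := hr
      rel := hrel
      not_t := ?_
      uniq := ?_ }, hKc, hfour⟩, ?_⟩
  · intro e he he1
    obtain ⟨k, hk⟩ := (conj_bijective hS hs).2 ⟨e, hS.le ((hE e).1 he).1, he1, ((hE e).1 he).2⟩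
    refine ⟨(k : G)⁻¹, ⟨inv_mem ((hKm _).2 k.2), ?_⟩, fun k' hk' => ?_⟩
    · rw [inv_inv]; exact congrArg Subtype.val hk
    · have h1 := (conj_bijective hS hs).1 (a₁ := k) (a₂ := ⟨k'⁻¹, (hKm _).1 (inv_mem hk'.1)⟩) (Subtype.ext (by
        show (k : G)⁻¹ * s * k = k'⁻¹⁻¹ * s * k'⁻¹
        rw [inv_inv, hk'.2]; exact congrArg Subtype.val hk))
      rw [congrArg Subtype.val h1, inv_inv]
  · intro k hk hk1 y hy h
    let φ : E → E := fun e => ⟨k * e * k⁻¹ * e, mul_mem (hkE k hk e e.2) e.2⟩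
    have hφ : Function.Injective φ := fun e e' h' => by
      have h1 : k * e.1 * k⁻¹ * e.1 = k * e'.1 * k⁻¹ * e'.1 := congrArg Subtype.val h'
      have h2' : k * (e.1 * e'.1) * k⁻¹ = e.1 * e'.1 := by
        calc k * (e.1 * e'.1) * k⁻¹ = k * e.1 * k⁻¹ * (k * e'.1 * k⁻¹) := by group
          _ = k * e.1 * k⁻¹ * e.1 * e.1 * (k * e'.1 * k⁻¹) := by
              rw [mul_assoc (k * e.1 * k⁻¹), ((hE _).1 e.2).2, mul_one]
          _ = k * e'.1 * k⁻¹ * e'.1 * (k * e'.1 * k⁻¹) * e.1 := by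
              rw [h1, mul_assoc _ e.1, (hEc _ e.2 _ ((hE _).1 (hkE k hk _ e'.2)).1).eq]; simp only [mul_assoc]
          _ = k * e'.1 * k⁻¹ * (k * e'.1 * k⁻¹) * (e'.1 * e.1) := by
              rw [mul_assoc (k * e'.1 * k⁻¹) e'.1, (hEc _ e'.2 _ ((hE _).1 (hkE k hk _ e'.2)).1).eq]
              simp only [mul_assoc]
          _ = e.1 * e'.1 := by
              rw [((hE _).1 (hkE k hk _ e'.2)).2, one_mul]
              exact ((hEc _ e.2 _ ((hE _).1 e'.2).1).eq).symm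
      have h3 := hfpf k hk hk1 _ (mul_mem ((hE _).1 e.2).1 ((hE _).1 e'.2).1) h2'
      refine Subtype.ext ?_
      rw [mul_eq_one_iff_eq_inv.1 h3, inv_eq_of_mul_eq_one_right ((hE _).1 e'.2).2]
    obtain ⟨e', he'⟩ := Finite.surjective_of_injective hφ ⟨_, h⟩
    have h4 : k * e'.1 * k⁻¹ * e'.1 = k * y * k⁻¹ * y⁻¹ := congrArg Subtype.val he'
    have h5 : k * (y * e'.1) * k⁻¹ = y * e'.1 := by
      calc k * (y * e'.1) * k⁻¹ = (k * y * k⁻¹ * y⁻¹) * y * (k * e'.1 * k⁻¹) := by group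
        _ = (k * e'.1 * k⁻¹ * e'.1) * y * (k * e'.1 * k⁻¹) := by rw [h4]
        _ = (k * e'.1 * k⁻¹) * (k * e'.1 * k⁻¹) * (y * e'.1) := by
            rw [mul_assoc _ e'.1 y, (hEc _ e'.2 y hy).eq, mul_assoc (k * e'.1 * k⁻¹) (y * e'.1),
              ← (hEc _ (hkE k hk _ e'.2) _ (mul_mem hy ((hE _).1 e'.2).1)).eq]
            simp only [mul_assoc]
        _ = y * e'.1 := by rw [((hE _).1 (hkE k hk _ e'.2)).2, one_mul]
    have h6 := hfpf k hk hk1 _ (mul_mem hy ((hE _).1 e'.2).1) h5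
    rw [mul_eq_one_iff_eq_inv.1 h6]
    exact inv_mem e'.2
  · intro y hy k hk e
    refine ta_ne hS ?_
    rw [← e, mul_smul, show k • a = a from (hD' k hk).1, fix_a hS hy]
  · intro y hy k hk h
    have h1 : y • (t • a) = t • a := by
      have e : t * (t * (y * k) * t) * t = y * k := by
        rw [show t * (t * (y * k) * t) * t = t * t * (y * k) * (t * t) by simp only [mul_assoc], hS.mul_self,
          one_mul, mul_one]
      have h3 : (y * k) • (t • a) = t • a := by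
        rw [← e, mul_smul, mul_smul, t_t hS, fix_a hS h]
      rwa [mul_smul, show k • (t • a) = t • a from (hD' k hk).2] at h3
    have hy1 := eq_one_of_fix hS hy (ta_ne hS) h1
    refine ⟨hy1, ?_⟩
    rw [hy1, one_mul, inverted_conj hS ((hKm k).1 hk)] at h
    have h7 : k ∈ Q ⊓ stabilizer G (t • a) := ⟨by simpa using inv_mem h, (hD' k hk).2⟩
    rwa [hS.inf_eq_bot, Subgroup.mem_bot] at h7
  · have h3 := hD.card_cases
    rwa [hcardE] at h3

end CfsgLib.Bender.Suzuki
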