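import Cfsg.Agent.Lib.Bender.Suzuki.Lines
import Cfsg.Agent.Lib.Bender.Suzuki.Setup
import Cfsg.Agent.Lib.RootSub.OddPartner.Cover
import Cfsg.Agent.S1121
import Cfsg.Prelude.Def_LieExceptional

/-!
# Suzuki's theorem: a Bruhat decomposition of `⟨Q, t⟩` with torus `K` gives a simple Zassenhaus group
-/

set_option autoImplicit false
set_option linter.style.haveILetI false
set_option linter.unusedSectionVars false

namespace CfsgLib.Bender.Suzuki

open MulAction CfsgLib.RootSub.Setup CfsgLib.RootInvol.OddPartner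

variable {G Ω : Type*} [Group G] [Finite G] [MulAction G Ω] {a : Ω} {t : G} {Q E K : Subgroup G} {s r : G}

/-- The group generated by `Q` and `t`. -/
abbrev qtGroup (t : G) (Q : Subgroup G) : Subgroup G := Subgroup.closure ((Q : Set G) ∪ {t})

namespace Setting

variable (S : Setting a t Q E K s r)
include S

theorem Q_le_qt : Q ≤ qtGroup t Q := fun _ h => Subgroup.subset_closure (Or.inl h)

theorem t_mem_qt : t ∈ qtGroup t Q := Subgroup.subset_closure (Or.inr rfl)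

theorem K_le_qt : K ≤ qtGroup t Q := by
  intro k hk
  have hQ := S.Q_le_qt
  have ht := S.t_mem_qt
  have hsq : ∀ c ∈ K, c * c ∈ qtGroup t Q := by
    intro c hc
    obtain ⟨hg, -, hf, e⟩ := S.base.tri_cj_s hc
    have h1 : t * cj c s * t ∈ qtGroup t Q := mul_mem (mul_mem ht (hQ (S.base.cj_memQ hc S.base.s_memQ))) ht
    have h2 : (c * c)⁻¹ = (cj c⁻¹ r)⁻¹⁻¹ * (t * cj c s * t) * (cj c⁻¹ r)⁻¹ * t := by
      rw [e]; simp [mul_assoc, S.base.t_sq]
    have h3 : (c * c)⁻¹ ∈ qtGroup t Q := by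
      rw [h2]
      exact mul_mem (mul_mem (mul_mem (inv_mem (hQ hg)) h1) (inv_mem (hQ hf))) ht
    simpa using inv_mem h3
  obtain ⟨m, hm⟩ := S.rank.odd_card
  have hpow : k ^ (2 * m + 1) = 1 := by
    rw [← hm]
    exact orderOf_dvd_iff_pow_eq_one.1 (Subgroup.orderOf_dvd_natCard _ (S.mem_pair hk))
  have e : k = k ^ (m + 1) * k ^ (m + 1) := by
    rw [← pow_add, show m + 1 + (m + 1) = 2 * m + 1 + 1 by ring, pow_succ, hpow, one_mul]
  rw [e]
  exact hsq _ (pow_mem hk _)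

variable (hbig : ∀ x ∈ qtGroup t Q, Big Q K t x)
include hbig

theorem fix_a_iff {x : G} (hx : x ∈ qtGroup t Q) (hxa : x • a = a) : ∃ p ∈ Q, ∃ k ∈ K, x = p * k := by
  rcases hbig x hx with h | ⟨p, hp, k, hk, q, hq, rfl⟩
  · exact h
  · refine absurd ?_ (ta_ne S.rank)
    have h1 : p • t • a = a := by
      rw [mul_smul, mul_smul, mul_smul, fix_a S.rank hq, (S.K_fix hk).2] at hxa
      exact hxa
    have h2 := congrArg (fun c => p⁻¹ • c) h1
    simp only [inv_smul_smul, fix_a S.rank (inv_mem hp)] at h2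
    exact h2

theorem fix_pair {x : G} (hx : x ∈ qtGroup t Q) (hxa : x • a = a) (hxo : x • t • a = t • a) : x ∈ K := by
  obtain ⟨p, hp, k, hk, rfl⟩ := S.fix_a_iff hbig hx hxa
  rw [mul_smul, (S.K_fix hk).2] at hxo
  rw [S.eq_one_of_fix_o hp hxo, one_mul]
  exact hk

theorem rank_qt : Cfsg.IsRankOneSetup (qtGroup t Q) Ω a ⟨t, S.t_mem_qt⟩ (Q.subgroupOf (qtGroup t Q)) := by
  have hQ := S.Q_le_qt
  have ht := S.t_mem_qt
  have htr : ∀ b c : Ω, b ≠ c → ∃ g : qtGroup t Q, g • b = a ∧ g • c = t • a := by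
    intro b c hbc
    obtain ⟨l, hl, hlb⟩ : ∃ l ∈ qtGroup t Q, l • b = a := by
      by_cases h : b = a
      · exact ⟨1, one_mem _, by rw [one_smul, h]⟩
      · obtain ⟨y, hy, e⟩ := exists_Q S.rank h
        exact ⟨t * y⁻¹, mul_mem ht (inv_mem (hQ hy)), by rw [← e, mul_smul, inv_smul_smul, t_t S.rank]⟩
    obtain ⟨y, hy, e⟩ := exists_Q S.rank (show l • c ≠ a from fun h => hbc (smul_left_cancel l (hlb.trans h.symm)))
    refine ⟨⟨y⁻¹ * l, mul_mem (inv_mem (hQ hy)) hl⟩, ?_, ?_⟩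
    · show (y⁻¹ * l) • b = a
      rw [mul_smul, hlb, fix_a S.rank (inv_mem hy)]
    · show (y⁻¹ * l) • c = t • a
      rw [mul_smul, ← e, inv_smul_smul]
  refine ⟨?_, Subtype.ext S.rank.mul_self, fun e => S.rank.ne_one (congrArg Subtype.val e), ?_, ?_, ?_, ?_, ?_, ?_, ?_⟩
  · refine is_two_pretransitive_iff.2 fun {b c b' c'} h h' => ?_
    obtain ⟨g, hg1, hg2⟩ := htr b c h
    obtain ⟨g', hg1', hg2'⟩ := htr b' c' h'
    exact ⟨g'⁻¹ * g, by rw [mul_smul, hg1, inv_smul_eq_iff, hg1'], by rw [mul_smul, hg2, inv_smul_eq_iff, hg2']⟩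
  · intro h
    exact S.rank.not_mem h
  · intro y hy
    exact S.rank.le hy
  · intro h hh x hx
    exact S.rank.conj_mem (h : G) hh (x : G) hx
  · rw [eq_bot_iff]
    rintro ⟨y, hy⟩ ⟨hyQ, hyo⟩
    exact Subgroup.mem_bot.2 (Subtype.ext (S.eq_one_of_fix_o hyQ hyo))
  · refine le_antisymm (sup_le (fun y hy => S.rank.le hy) inf_le_left) ?_
    rintro ⟨x, hx⟩ hxa
    obtain ⟨p, hp, k, hk, rfl⟩ := S.fix_a_iff hbig hx hxa
    have e : (⟨p * k, hx⟩ : qtGroup t Q) = ⟨p, hQ hp⟩ * ⟨k, S.K_le_qt hk⟩ := rfl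
    rw [e]
    exact mul_mem (Subgroup.mem_sup_left hp) (Subgroup.mem_sup_right ⟨(S.K_fix hk).1, (S.K_fix hk).2⟩)
  · rw [Nat.card_congr (Subgroup.subgroupOfEquivOfLe hQ).toEquiv]
    exact S.rank.even_card
  · refine S.rank.odd_card.of_dvd_nat ?_
    rw [← Nat.card_congr ((stabilizer (qtGroup t Q) a ⊓ stabilizer (qtGroup t Q) ((⟨t, ht⟩ : qtGroup t Q) • a)).equivMapOfInjective
      (qtGroup t Q).subtype Subtype.val_injective).symm.toEquiv]
    refine Subgroup.card_dvd_of_le ?_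
    rintro _ ⟨x, ⟨h1, h2⟩, rfl⟩
    exact ⟨h1, h2⟩

theorem pair_qt : ∃ x y : qtGroup t Q, x ≠ 1 ∧ y ≠ 1 ∧ x ≠ y ∧ x * x = 1 ∧ y * y = 1 ∧ x * y = y * x := by
  obtain ⟨k, hk, hk1⟩ : ∃ k ∈ K, k ≠ 1 := by
    by_contra! h
    have h1 : Nat.card K = 1 := Subgroup.card_eq_one.2 ((Subgroup.eq_bot_iff_forall _).2 h)
    have := S.base.card_E
    have := S.four
    omega
  have hs := S.base.s_mem
  have hs' := S.base.k_e k hk s hs
  refine ⟨⟨s, S.Q_le_qt (S.base.le hs)⟩, ⟨k * s * k⁻¹, S.Q_le_qt (S.base.le hs')⟩,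
    fun e => S.base.s_ne (congrArg Subtype.val e), fun e => ?_, fun e => hk1 ?_,
    Subtype.ext (S.base.e_sq _ hs), Subtype.ext (S.base.e_sq _ hs'),
    Subtype.ext (S.base.e_comm _ hs _ (S.base.le hs')).eq⟩
  · have := congrArg Subtype.val e
    simp only [Subgroup.coe_one] at this
    exact S.base.s_ne (conj_eq_one_iff.1 this)
  · exact (S.base.cj_s_inj hk (one_mem K) (by
      show k * s * k⁻¹ = 1 * s * 1⁻¹
      rw [← show s = k * s * k⁻¹ from congrArg Subtype.val e]; simp))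

theorem simple_qt : IsSimpleGroup (qtGroup t Q) := by
  have hS := S.rank_qt hbig
  have hf : ∀ g : qtGroup t Q, (∀ b : Ω, g • b = b) → g = 1 := fun g hg => Subtype.ext (S.faithful g hg)
  have hdata := exists_data hS hf (S.pair_qt hbig)
  haveI : Nontrivial (qtGroup t Q) := ⟨⟨⟨t, S.t_mem_qt⟩, 1, fun e => S.rank.ne_one (congrArg Subtype.val e)⟩⟩
  refine ⟨fun N hN => or_iff_not_imp_left.2 fun hne => ?_⟩
  have heven : Even (Nat.card N) := by
    by_contra ho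
    exact hne (CfsgLib.HallNumbers.no_odd_normal hdata.oddCore_eq_bot N hN (Nat.not_even_iff_odd.1 ho))
  obtain ⟨y, hy, hyo⟩ := CfsgLib.Invol.exists_invol_mem heven
  have hinv : ∀ x : qtGroup t Q, x ≠ 1 → x * x = 1 → x ∈ N := fun x hx1 hx2 => by
    obtain ⟨g, hg⟩ := (Cfsg.Agent.S1121.result hS).2 y x (CfsgLib.Invol.invol_ne_one hyo)
      (CfsgLib.Invol.invol_mul_self hyo) hx1 hx2
    exact hg ▸ hN.conj_mem y hy g
  have ht : (⟨t, S.t_mem_qt⟩ : qtGroup t Q) ∈ N :=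
    hinv _ (fun e => S.rank.ne_one (congrArg Subtype.val e)) (Subtype.ext S.rank.mul_self)
  -- the torus
  have hKN : ∀ k, ∀ hk : k ∈ K, (⟨k, S.K_le_qt hk⟩ : qtGroup t Q) ∈ N := by
    intro k hk
    obtain ⟨m, hm⟩ := S.rank.odd_card
    have hpow : k ^ (2 * m + 1) = 1 := by
      rw [← hm]
      exact orderOf_dvd_iff_pow_eq_one.1 (Subgroup.orderOf_dvd_natCard _ (S.mem_pair hk))
    set k' : qtGroup t Q := ⟨k, S.K_le_qt hk⟩
    set t' : qtGroup t Q := ⟨t, S.t_mem_qt⟩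
    have h1 : t' * (k' * t' * k'⁻¹) ∈ N := mul_mem ht (hN.conj_mem _ ht k')
    have h2 : t' * (k' * t' * k'⁻¹) = (k'⁻¹) ^ 2 := by
      rw [pow_two]
      refine Subtype.ext ?_
      show t * (k * t * k⁻¹) = k⁻¹ * k⁻¹
      rw [← mul_assoc, ← mul_assoc, S.base.inv k hk]
    rw [h2] at h1
    have h3 : k' = ((k'⁻¹) ^ 2) ^ m := by
      refine Subtype.ext ?_
      show k = ((k⁻¹) ^ 2) ^ m
      rw [← pow_mul, inv_pow]
      exact eq_inv_of_mul_eq_one_left (by rw [← pow_succ']; exact hpow)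
    rw [h3]
    exact pow_mem h1 m
  -- `Q`
  have hQN : ∀ y, ∀ hy : y ∈ Q, (⟨y, S.Q_le_qt hy⟩ : qtGroup t Q) ∈ N := by
    obtain ⟨k, hk, hk1⟩ : ∃ k ∈ K, k ≠ 1 := by
      by_contra! h
      have h1 : Nat.card K = 1 := Subgroup.card_eq_one.2 ((Subgroup.eq_bot_iff_forall _).2 h)
      have := S.base.card_E
      have := S.four
      omega
    let φ : Q → Q := fun y => ⟨k * y * k⁻¹ * (y : G)⁻¹, mul_mem (S.base.k_q k hk y y.2) (inv_mem y.2)⟩
    have hφ : Function.Injective φ := fun y y' h => by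
      have h' : k * y.1 * k⁻¹ * y.1⁻¹ = k * y'.1 * k⁻¹ * y'.1⁻¹ := congrArg Subtype.val h
      have h2 : y'.1⁻¹ * y.1 * k = k * (y'.1⁻¹ * y.1) := by
        have h3 : (k * y'.1 * k⁻¹)⁻¹ * (k * y.1 * k⁻¹) = y'.1⁻¹ * y.1 := by
          calc (k * y'.1 * k⁻¹)⁻¹ * (k * y.1 * k⁻¹)
              = (k * y'.1 * k⁻¹)⁻¹ * (k * y.1 * k⁻¹ * y.1⁻¹) * y.1 := by group
            _ = y'.1⁻¹ * y.1 := by rw [h']; group
        calc y'.1⁻¹ * y.1 * k = (k * y'.1 * k⁻¹)⁻¹ * (k * y.1 * k⁻¹) * k := by rw [h3]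
          _ = k * (y'.1⁻¹ * y.1) := by group
      exact Subtype.ext (inv_mul_eq_one.1 (CfsgLib.Lie.RankOne.inverted_fpf S.rank ((S.mem_K k).1 hk) hk1
        (mul_mem (inv_mem y'.2) y.2) h2)).symm
    intro y hy
    obtain ⟨x, hx⟩ := Finite.surjective_of_injective hφ ⟨y, hy⟩
    have e : (⟨y, S.Q_le_qt hy⟩ : qtGroup t Q) = ⟨k, S.K_le_qt hk⟩ *
        (⟨(x : G), S.Q_le_qt x.2⟩ * ⟨k, S.K_le_qt hk⟩⁻¹ * ⟨(x : G), S.Q_le_qt x.2⟩⁻¹) := by
      refine Subtype.ext ?_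
      show y = k * ((x : G) * k⁻¹ * (x : G)⁻¹)
      rw [show y = k * (x : G) * k⁻¹ * (x : G)⁻¹ from (congrArg Subtype.val hx).symm]
      group
    rw [e]
    exact mul_mem (hKN k hk) (hN.conj_mem _ (inv_mem (hKN k hk)) _)
  refine eq_top_iff.2 fun x _ => ?_
  rcases hbig x x.2 with ⟨p, hp, k, hk, e⟩ | ⟨p, hp, k, hk, q, hq, e⟩
  · rw [show x = ⟨p, S.Q_le_qt hp⟩ * ⟨k, S.K_le_qt hk⟩ from Subtype.ext e]
    exact mul_mem (hQN p hp) (hKN k hk)
  · rw [show x = ⟨p, S.Q_le_qt hp⟩ * ⟨k, S.K_le_qt hk⟩ * ⟨t, S.t_mem_qt⟩ * ⟨q, S.Q_le_qt hq⟩ from Subtype.ext e]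
    exact mul_mem (mul_mem (mul_mem (hQN p hp) (hKN k hk)) ht) (hQN q hq)

theorem zassenhaus_qt : Cfsg.IsZassenhausGroup (qtGroup t Q) Ω := by
  have hS := S.rank_qt hbig
  haveI hsimp := S.simple_qt hbig
  have h2t := hS.two_transitive
  refine ⟨⟨fun {g₁ g₂} h => ?_⟩, h2t, ?_, ?_, fun N hN htr => ⟨a, fun hbot => ?_⟩⟩
  · refine inv_mul_eq_one.1 (Subtype.ext (S.faithful _ fun b => ?_))
    show ((g₁⁻¹ * g₂ : qtGroup t Q)) • b = b
    rw [mul_smul, ← h, inv_smul_smul]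
  · intro g p q w hpq hqw hpw hp hq hw
    obtain ⟨l, hl1, hl2⟩ := is_two_pretransitive_iff.1 h2t hpq (ta_ne S.rank).symm
    set g' := l * g * l⁻¹ with hg'
    have e : ∀ z : Ω, g • z = z → g' • (l • z) = l • z := fun z hz => by
      rw [hg', mul_smul, mul_smul, inv_smul_smul, hz]
    have ha' : (g' : G) • a = a := by have := e p hp; rw [hl1] at this; exact this
    have ho' : (g' : G) • t • a = t • a := by have := e q hq; rw [hl2] at this; exact this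
    have hwa : l • w ≠ a := fun h => hpw (smul_left_cancel l (hl1.trans h.symm))
    have hk := S.fix_pair hbig g'.2 ha' ho'
    obtain ⟨y, hy, hyw⟩ := exists_Q S.rank hwa
    by_contra hg1
    have hg1' : (g' : G) ≠ 1 := fun h => hg1 (by
      calc g = l⁻¹ * g' * l := by rw [hg']; group
        _ = 1 := by rw [show g' = 1 from Subtype.ext h]; group)
    have hw' : (g' : G) • y • t • a = y • t • a := by rw [hyw]; exact e w hw
    have h1 : (y⁻¹ * ((g' : G) * y * (g' : G)⁻¹)) • (t • a) = t • a := by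
      rw [mul_smul, mul_smul, mul_smul, inv_smul_eq_iff.2 ho'.symm, hw', inv_smul_smul]
    have h2 := S.eq_one_of_fix_o (mul_mem (inv_mem hy) (S.base.k_q _ hk y hy)) h1
    have h4 := CfsgLib.Lie.RankOne.inverted_fpf S.rank ((S.mem_K _).1 hk) hg1' hy
      (mul_inv_eq_iff_eq_mul.1 (inv_mul_eq_one.1 h2).symm).symm
    rw [h4, one_smul] at hyw
    exact hqw (smul_left_cancel l (hl2.trans hyw))
  · obtain ⟨k, hk, hk1⟩ : ∃ k ∈ K, k ≠ 1 := by
      by_contra! h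
      have h1 : Nat.card K = 1 := Subgroup.card_eq_one.2 ((Subgroup.eq_bot_iff_forall _).2 h)
      have := S.base.card_E
      have := S.four
      omega
    exact ⟨⟨k, S.K_le_qt hk⟩, fun e => hk1 (congrArg Subtype.val e), a, t • a, (ta_ne S.rank).symm,
      (S.K_fix hk).1, (S.K_fix hk).2⟩
  · rcases hN.eq_bot_or_eq_top with e | e
    · obtain ⟨u, hu⟩ := htr.exists_smul_eq a (t • a)
      refine ta_ne S.rank ?_
      rw [← hu, show u = 1 from Subtype.ext (Subgroup.mem_bot.1 (e ▸ u.2)), one_smul]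
    · have hsN : (⟨s, S.Q_le_qt (S.base.le S.base.s_mem)⟩ : qtGroup t Q) ∈ N := e ▸ Subgroup.mem_top _
      have h9 : (⟨_, hsN⟩ : N) ∈ stabilizer N a :=
        mem_stabilizer_iff.2 (fix_a S.rank (S.base.le S.base.s_mem))
      exact S.base.s_ne (congrArg (fun z : N => ((z : qtGroup t Q) : G)) (Subgroup.mem_bot.1 (hbot ▸ h9)))

end Setting

end CfsgLib.Bender.Suzuki
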