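import Cfsg.Agent.Lib.Bender.Suzuki.LineCount
import Cfsg.Agent.Lib.Bender.Suzuki.Eig
import Cfsg.Agent.Lib.Lie.RankOne.Fixed

/-!
# Suzuki's theorem: the base line group on the base line and outside it
-/

set_option autoImplicit false
set_option linter.style.haveILetI false
set_option linter.unusedSectionVars false

namespace CfsgLib.Bender.Suzuki

open MulAction CfsgLib.RootSub.Setup Matrix
open scoped Pointwise

variable {G Ω : Type*} [Group G] [Finite G] [MulAction G Ω] {a : Ω} {t : G} {Q E K : Subgroup G} {s r : G}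
variable {F : Type} [Field F] [Finite F] [CharP F 2] (C : EField E K s F)

namespace Setting

variable (S : Setting a t Q E K s r)
include S

omit C in
theorem o_mem : t • a ∈ baseLine a t E := S.mem_baseLine.2 (Or.inr ⟨1, one_mem _, one_smul _ _⟩)

omit C in
theorem a_mem : a ∈ baseLine a t E := S.mem_baseLine.2 (Or.inl rfl)

theorem v_pow {v : G} (hv : v ∈ pairStab a t) (hvt : Commute v t) {f : ℕ} (hE : Nat.card E = 2 ^ f) :
    v ^ f ∈ lineKer a t E := by
  obtain ⟨F₁, i₁, i₂, i₃, C₁, hC⟩ := S.exists_efield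
  obtain ⟨i, hi⟩ := hC v hv hvt
  obtain rfl : C₁.f = f := Nat.pow_right_injective le_rfl (C₁.card_E.symm.trans hE)
  refine Subgroup.mem_inf.2 ⟨pow_mem hv _, Subgroup.mem_centralizer_iff.2 fun e he => ?_⟩
  have key : ∀ n : ℕ, C₁.eps (v ^ n * e * (v ^ n)⁻¹) = C₁.eps e ^ 2 ^ (i * n) := by
    intro n
    induction n with
    | zero => simp
    | succ n ih =>
      rw [show v ^ (n + 1) * e * (v ^ (n + 1))⁻¹ = v * (v ^ n * e * (v ^ n)⁻¹) * v⁻¹ by rw [pow_succ']; group,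
        hi _ (S.conj_E (pow_mem hv n) he), ih, ← pow_mul, ← pow_add, Nat.mul_succ]
  have hfix : ∀ n : ℕ, C₁.eps e ^ 2 ^ (C₁.f * n) = C₁.eps e := by
    intro n
    induction n with
    | zero => simp
    | succ n ih => rw [Nat.mul_succ, pow_add, pow_mul, ih, ← C₁.bar_apply, C₁.eps_fix e he]
  have h := C₁.eps_inj (S.conj_E (pow_mem hv _) he) he ((key C₁.f).trans (by rw [mul_comm, hfix]))
  exact (mul_inv_eq_iff_eq_mul.1 h).symm

omit C in
theorem ker_commute_t {w : G} (hw : w ∈ lineKer a t E) : Commute w t := by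
  obtain ⟨hwD, hwC⟩ := Subgroup.mem_inf.1 hw
  exact (commute_t_iff S.rank ⟨S.rank.le (S.base.le S.base.s_mem), S.base.s_ne, S.base.e_sq s S.base.s_mem⟩
    S.base.r_mem S.base.rel hwD).2 (Subgroup.mem_centralizer_iff.1 hwC s S.base.s_mem).symm

omit C in
theorem ker_comm {w : G} (hw : w ∈ lineKer a t E) {x : G} (hx : x ∈ baseGroup t E) : Commute w x := by
  obtain ⟨-, hwC⟩ := Subgroup.mem_inf.1 hw
  induction hx using Subgroup.closure_induction with
  | mem y hy =>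
    rcases hy with hy | hy
    · exact (Subgroup.mem_centralizer_iff.1 hwC y hy).symm
    · rw [Set.mem_singleton_iff.1 hy]; exact S.ker_commute_t hw
  | one => exact Commute.one_right w
  | mul y z _ _ ihy ihz => exact ihy.mul_right ihz
  | inv y _ ih => exact ih.inv_right

omit C in
theorem ker_fix {w : G} (hw : w ∈ lineKer a t E) {c : Ω} (hc : c ∈ baseLine a t E) : w • c = c := by
  obtain ⟨hwD, hwC⟩ := Subgroup.mem_inf.1 hw
  rcases S.mem_baseLine.1 hc with rfl | ⟨e, he, rfl⟩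
  · exact hwD.1
  · rw [← mul_smul, ← Subgroup.mem_centralizer_iff.1 hwC e he, mul_smul, show w • t • a = t • a from hwD.2]

variable (hr : r ∈ E)
include hr

omit C in
theorem disj {x : G} (hx : x ∈ baseGroup t E) (hD : x ∈ pairStab a t) (hxt : Commute x t) : x = 1 := by
  obtain ⟨F₁, i₁, i₂, i₃, C₁, -⟩ := S.exists_efield
  obtain ⟨M, hM, rfl⟩ := S.exists_mat C₁ hr hx
  have hc : M 1 0 = 0 := (S.toG_fix_a C₁ hM).1 hD.1
  have hA : M 0 0 ≠ 0 := fun e0 => by have := det_eq C₁ hM; simp [e0, hc] at this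
  rw [toG_pos C₁ hc] at hD hxt ⊢
  have hk := kl_mem (C := C₁) (hM.2 0 0) hA
  have he := el_mem (C := C₁) (fix_div (hM.2 0 1) (hM.2 1 1))
  have he1 : C₁.el (M 0 1 / M 1 1) = 1 := S.eq_one_of_fix_o (S.base.le he) (by
    have h : (C₁.el (M 0 1 / M 1 1) * C₁.kl (M 0 0)) • (t • a) = t • a := hD.2
    rwa [mul_smul, (S.K_fix hk).2] at h)
  rw [he1, one_mul] at hxt ⊢
  refine S.base.sq_eq_one hk ?_
  have h := S.base.inv _ hk
  rw [← hxt.eq, mul_assoc, S.base.t_sq, mul_one] at h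
  nth_rw 2 [h]
  exact mul_inv_cancel _

omit C in
/-- An involution preserving the base line is in its group. -/
theorem invol_mem_base {u : G} (hu : u * u = 1) (hΛ : u • baseLine a t E = baseLine a t E) :
    u ∈ baseGroup t E := by
  obtain ⟨-, l, hl, v, hv, hvt, hlv⟩ := S.stab_line hr hΛ
  have hvv : v * v ∈ baseGroup t E := by
    have e : v * v = (l * (v * l * v⁻¹))⁻¹ := by
      refine eq_inv_of_mul_eq_one_right ?_
      rw [← hu, hlv]; group
    rw [e]
    exact inv_mem (mul_mem hl (S.conj_baseGroup hv hvt hl))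
  have h1 := S.disj hr hvv (mul_mem hv hv) (hvt.mul_left hvt)
  have hv1 : v = 1 := CfsgLib.RootSub.Setup.sq_injective S.rank hv (one_mem _) (by rw [h1, one_mul])
  rw [hlv, hv1, mul_one]; exact hl

theorem smul_el_point {M : Matrix (Fin 2) (Fin 2) F} (hM : C.InSL M) {z : F} (hz : C.bar z = z) :
    C.toG t M • C.el z • t • a =
      open Classical in if M 1 0 * z + M 1 1 = 0 then a
        else C.el ((M 0 0 * z + M 0 1) / (M 1 0 * z + M 1 1)) • t • a := by
  have hu := inSL_up C hz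
  have hw := inSL_sw C
  have h1 : C.el z • t • a = C.toG t (upM z * swM) • a := by
    rw [S.toG_up_mul C hz hw, S.toG_sw C, mul_smul]
  rw [h1, ← mul_smul, ← S.toG_mul C hr hM (inSL_mul C hu hw), S.toG_smul_a C (inSL_mul C hM (inSL_mul C hu hw))]
  congr 1 <;> simp [upM, swM, Matrix.mul_apply, Fin.sum_univ_two, add_comm, mul_comm]

theorem fix_of_trace_zero {M : Matrix (Fin 2) (Fin 2) F} (hM : C.InSL M) (hT : M 0 0 + M 1 1 = 0) :
    ∃ c ∈ baseLine a t E, C.toG t M • c = c := by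
  by_cases hc : M 1 0 = 0
  · exact ⟨a, S.a_mem, (S.toG_fix_a C hM).2 hc⟩
  obtain ⟨z, hz, hz2⟩ := sqrt_fixed C (fix_div (C := C) (hM.2 0 1) (hM.2 1 0))
  have hd := det_eq C hM
  have hAD : M 1 1 = M 0 0 := (CharTwo.add_eq_zero.1 hT).symm
  rw [hAD] at hd
  have hz3 : M 1 0 * z ^ 2 = M 0 1 := by rw [hz2]; field_simp
  refine ⟨_, S.mem_baseLine.2 (Or.inr ⟨_, el_mem hz, rfl⟩), ?_⟩
  have h2 : (2 : F) = 0 := CharTwo.two_eq_zero
  have hne : M 1 0 * z + M 1 1 ≠ 0 := fun e => by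
    rw [hAD, CharTwo.add_eq_zero] at e
    have : (1 : F) = 0 := by
      rw [← hd, ← hz3, ← e]
      linear_combination (M 1 0 ^ 2 * z ^ 2) * h2
    exact one_ne_zero this
  rw [S.smul_el_point C hr hM hz, if_neg hne]
  congr 2
  rw [div_eq_iff hne, hAD]
  linear_combination -hz3

theorem inverter {M : Matrix (Fin 2) (Fin 2) F} (hM : C.InSL M) (hc : M 1 0 ≠ 0) :
    C.el ((M 0 0 + M 1 1) / M 1 0) * C.toG t M * C.el ((M 0 0 + M 1 1) / M 1 0) = (C.toG t M)⁻¹ := by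
  have hy := fix_div (C := C) (fix_add (hM.2 0 0) (hM.2 1 1)) (hM.2 1 0)
  have hu := inSL_up C hy
  obtain ⟨hI, hIM⟩ := inSL_inv C hM
  rw [← S.toG_up C, ← S.toG_mul C hr hu hM, ← S.toG_mul C hr (inSL_mul C hu hM) hu]
  refine eq_inv_of_mul_eq_one_left ?_
  rw [← S.toG_mul C hr (inSL_mul C (inSL_mul C hu hM) hu) hM]
  refine (congrArg (C.toG t) ?_).trans (S.toG_one C)
  rw [show upM ((M 0 0 + M 1 1) / M 1 0) * M * upM ((M 0 0 + M 1 1) / M 1 0) = invM M from ?_, hIM]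
  have h2 : (2 : F) = 0 := CharTwo.two_eq_zero
  ext i j
  fin_cases i <;> fin_cases j <;> simp [upM, invM, Matrix.mul_apply, Matrix.vecMul, dotProduct, Fin.sum_univ_two]
  · field_simp
    linear_combination (M 0 0) * h2
  · field_simp
    linear_combination (M 0 0 * M 0 0 + 2 * M 0 0 * M 1 1 + M 1 1 * M 1 1) * h2
  · field_simp
    linear_combination (M 1 1) * h2

omit C in
/-- The group of the base line is semiregular off it. -/
theorem free {x : G} (hx : x ∈ baseGroup t E) (hx1 : x ≠ 1) {c : Ω} (hc : c ∉ baseLine a t E) : x • c ≠ c := by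
  obtain ⟨F₁, i₁, i₂, i₃, C₁, -⟩ := S.exists_efield
  intro hxc
  -- an element with a fixed point on the line has no other
  have hcase : ∀ x ∈ baseGroup t E, x • a = a → x ≠ 1 → ∀ c ∉ baseLine a t E, x • c ≠ c := by
    intro x hx hxa hx1 c hc hxc
    obtain ⟨M, hM, rfl⟩ := S.exists_mat C₁ hr hx
    have hc0 : M 1 0 = 0 := (S.toG_fix_a C₁ hM).1 hxa
    have hd := det_eq C₁ hM
    have hA : M 0 0 ≠ 0 := fun e0 => by simp [e0, hc0] at hd
    rw [toG_pos C₁ hc0] at hxc hx1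
    have hy : C₁.bar (M 0 1 / M 1 1) = M 0 1 / M 1 1 := fix_div (hM.2 0 1) (hM.2 1 1)
    by_cases hA1 : M 0 0 = 1
    · rw [hA1, S.kl_one C₁, mul_one] at hxc hx1
      refine hc ?_
      rw [eq_a_of_fix S.rank (S.base.le (el_mem hy)) hx1 hxc]
      exact S.a_mem
    · have hD0 : 1 + M 0 0 ^ 2 ≠ 0 := fun e => hA1 (by
        have h2 : (2 : F₁) = 0 := CharTwo.two_eq_zero
        have h3 : (M 0 0 + 1) * (M 0 0 + 1) = 0 := by linear_combination e + M 0 0 * h2
        exact CharTwo.add_eq_zero.1 (mul_self_eq_zero.1 h3))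
      set z := M 0 1 / M 1 1 / (1 + M 0 0 ^ 2) with hzdef
      have hz : C₁.bar z = z := fix_div hy (fix_add (map_one _) (fix_sq (hM.2 0 0)))
      have hsplit : C₁.el z * C₁.kl (M 0 0) * C₁.el z = C₁.el (M 0 1 / M 1 1) * C₁.kl (M 0 0) := by
        rw [mul_assoc, S.kl_el C₁ (hM.2 0 0) hA hz, ← mul_assoc, ← el_add hz (fix_mul (fix_sq (hM.2 0 0)) hz)]
        congr 2
        rw [show z + M 0 0 ^ 2 * z = z * (1 + M 0 0 ^ 2) by ring, hzdef, div_mul_cancel₀ _ hD0]
      have hk := kl_mem (C := C₁) (hM.2 0 0) hA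
      have hk1 : C₁.kl (M 0 0) ≠ 1 := fun e => hA1 (by
        rw [← lam_kl (C := C₁) (hM.2 0 0) hA, e, ← lam_kl (C := C₁) (map_one _) one_ne_zero, S.kl_one C₁])
      have hee : C₁.el z * C₁.el z = 1 := S.base.e_sq _ (el_mem hz)
      have hfix : C₁.kl (M 0 0) • (C₁.el z • c) = C₁.el z • c := by
        have h1 : C₁.kl (M 0 0) = C₁.el z * (C₁.el (M 0 1 / M 1 1) * C₁.kl (M 0 0)) * C₁.el z := by
          rw [← hsplit, show C₁.el z * (C₁.el z * C₁.kl (M 0 0) * C₁.el z) * C₁.el z =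
            C₁.el z * C₁.el z * C₁.kl (M 0 0) * (C₁.el z * C₁.el z) by simp only [mul_assoc], hee, one_mul, mul_one]
        conv_lhs => rw [h1]
        rw [mul_smul, mul_smul, ← mul_smul (C₁.el z) (C₁.el z) c, hee, one_smul, hxc]
      have hna : C₁.el z • c ≠ a := fun e => hc (by
        have h1 := congrArg (fun d => (C₁.el z)⁻¹ • d) e
        simp only [inv_smul_smul, S.fix_a_of_E (inv_mem (el_mem hz))] at h1
        exact h1 ▸ S.a_mem)
      obtain ⟨y, hy', hyc⟩ := exists_Q S.rank hna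
      have h1 : (y⁻¹ * (C₁.kl (M 0 0) * y * (C₁.kl (M 0 0))⁻¹)) • (t • a) = t • a := by
        rw [mul_smul, mul_smul, mul_smul, inv_smul_eq_iff.2 (S.K_fix hk).2.symm, hyc, hfix, ← hyc, inv_smul_smul]
      have h2 := S.eq_one_of_fix_o (mul_mem (inv_mem hy') (S.base.k_q _ hk y hy')) h1
      have h3 : C₁.kl (M 0 0) * y * (C₁.kl (M 0 0))⁻¹ = y := (inv_mul_eq_one.1 h2).symm
      have h4 := CfsgLib.Lie.RankOne.inverted_fpf S.rank ((S.mem_K _).1 hk) hk1 hy' (mul_inv_eq_iff_eq_mul.1 h3).symm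
      rw [h4, one_smul] at hyc
      refine hc (S.mem_baseLine.2 (Or.inr ⟨_, el_mem hz, ?_⟩))
      rw [hyc, ← mul_smul, hee, one_smul]
  by_cases hfix : ∃ d ∈ baseLine a t E, x • d = d
  · obtain ⟨d, hd, hxd⟩ := hfix
    obtain ⟨l, hl, rfl⟩ := (S.baseLine_eq hr).1 hd
    refine hcase (l⁻¹ * x * l) (mul_mem (mul_mem (inv_mem hl) hx) hl) ?_ ?_ (l⁻¹ • c) (fun h => hc ?_) ?_
    · rw [mul_smul, mul_smul, hxd, inv_smul_smul]
    · exact fun e => hx1 (by
        have := congrArg (fun y => l * y * l⁻¹) e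
        simpa [mul_assoc] using this)
    · rw [← S.group_line hr hl, Set.mem_smul_set_iff_inv_smul_mem]; exact h
    · rw [mul_smul, mul_smul, smul_inv_smul, hxc]
  push Not at hfix
  obtain ⟨M, hM, rfl⟩ := S.exists_mat C₁ hr hx
  have hc0 : M 1 0 ≠ 0 := fun e => hfix a S.a_mem ((S.toG_fix_a C₁ hM).2 e)
  have hT : M 0 0 + M 1 1 ≠ 0 := fun e => by
    obtain ⟨d, hd, hdx⟩ := S.fix_of_trace_zero C₁ hr hM e
    exact hfix d hd hdx
  set u := C₁.el ((M 0 0 + M 1 1) / M 1 0)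
  have hy := fix_div (C := C₁) (fix_add (hM.2 0 0) (hM.2 1 1)) (hM.2 1 0)
  have huE : u ∈ E := el_mem hy
  have hu1 : u ≠ 1 := fun e => div_ne_zero hT hc0 (by rw [← eps_el (C := C₁) hy]; show C₁.eps u = 0; rw [e, eps_one_eq])
  have hinv := S.inverter C₁ hr hM hc0
  have huu : u * u = 1 := S.base.e_sq u huE
  -- `u • c` is fixed as well
  have hxuc : C₁.toG t M • u • c = u • c := by
    have e : C₁.toG t M * u = u * (C₁.toG t M)⁻¹ := by
      rw [← hinv, show u * (u * C₁.toG t M * u) = u * u * C₁.toG t M * u by simp only [mul_assoc], huu, one_mul]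
    rw [← mul_smul, e, mul_smul, inv_smul_eq_iff.2 hxc.symm]
  have hne : c ≠ u • c := fun e => hc (by
    rw [eq_a_of_fix S.rank (S.base.le huE) hu1 e.symm]; exact S.a_mem)
  obtain ⟨Λ, ⟨⟨g, hg⟩, hcΛ, hucΛ⟩, huniq⟩ := S.line_unique hr hne
  have huΛ : u • Λ = Λ := huniq _ ⟨⟨u * g, by rw [mul_smul, hg]⟩, by
    rw [Set.mem_smul_set_iff_inv_smul_mem, inv_eq_of_mul_eq_one_right huu]; exact hucΛ,
    Set.smul_mem_smul_set hcΛ⟩
  have haΛ : a ∈ Λ := by
    have hu' : (g⁻¹ * u * g) * (g⁻¹ * u * g) = 1 := by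
      rw [show g⁻¹ * u * g * (g⁻¹ * u * g) = g⁻¹ * (u * u) * g by group, huu, mul_one, inv_mul_cancel]
    have hmem := S.invol_mem_base hr hu' (by rw [mul_smul, mul_smul, ← hg, huΛ, hg, inv_smul_smul])
    obtain ⟨N, hN, hNu⟩ := S.exists_mat C₁ hr hmem
    obtain ⟨d, hd, hNd⟩ := S.fix_of_trace_zero C₁ hr hN (by
      by_contra hT'
      have hNN : N * N = 1 := S.toG_inj C₁ hr (inSL_mul C₁ hN hN) (inSL_one C₁)
        (by rw [S.toG_mul C₁ hr hN hN, hNu, hu', S.toG_one C₁])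
      have h2 := sq_eq N hN.1
      rw [hNN, right_eq_add, smul_eq_zero] at h2
      rcases h2 with h2 | h2
      · exact hT' h2
      · exact hT' (by rw [h2]; simp))
    rw [hNu, mul_smul, mul_smul, inv_smul_eq_iff] at hNd
    rw [← eq_a_of_fix S.rank (S.base.le huE) hu1 hNd, hg]
    exact Set.smul_mem_smul_set hd
  have hxΛ : C₁.toG t M • Λ = Λ := huniq _ ⟨⟨C₁.toG t M * g, by rw [mul_smul, hg]⟩,
    by rw [← hxc]; exact Set.smul_mem_smul_set hcΛ, by rw [← hxuc]; exact Set.smul_mem_smul_set hucΛ⟩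
  have hxaΛ : C₁.toG t M • a ∈ Λ := hxΛ ▸ Set.smul_mem_smul_set haΛ
  have hxaB : C₁.toG t M • a ∈ baseLine a t E := (S.baseLine_eq hr).2 ⟨_, hx, rfl⟩
  obtain rfl : Λ = baseLine a t E := (S.line_unique hr (hfix a S.a_mem)).unique
    ⟨⟨g, hg⟩, hxaΛ, haΛ⟩ ⟨⟨1, (one_smul _ _).symm⟩, hxaB, S.a_mem⟩
  exact hc hcΛ

end Setting

end CfsgLib.Bender.Suzuki
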